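import Groth.Agent.Books.BorelOrb
import Groth.Agent.Etbase.FpqcDescent
import Groth.Prelude.Def_RedSub
import Groth.Prelude.Def_ActBC
import Groth.Agent.Sga3.H804.EtFam

/-!
# Pseudo-torsors and fppf torsors under group schemes: points calculus, descent of properties

`a : AlgGrp.Action G X`, `h : NonAbH1.IsPseudoTorsorSch a`.  `sm a g x : Y ⟶ X` is the action on points
(from `Books.BorelOrb`), `dif h x x' : Y ⟶ G` the point with `dif x x' • x' = x`.
-/

set_option autoImplicit false
universe u

open CategoryTheory CategoryTheory.Limits MonoidalCategory CartesianMonoidalCategory MonObj GrpObj AlgebraicGeometry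
open Groth.Agent.Books.BorelOrb

namespace K551.Tors

section Pseudo

variable {S : Scheme.{u}} {G X : Over S} [GrpObj G] {a : AlgGrp.Action G X}

/-- the point of `G` carrying `x'` to `x` -/
noncomputable def dif (ha : NonAbH1.IsPseudoTorsorSch a) {Y : Over S} (x x' : Y ⟶ X) : Y ⟶ G :=
  haveI : IsIso (lift a.act (snd G X)) := ha
  lift x x' ≫ inv (lift a.act (snd G X)) ≫ fst G X

lemma sm_dif (ha : NonAbH1.IsPseudoTorsorSch a) {Y : Over S} (x x' : Y ⟶ X) : sm a (dif ha x x') x' = x := by
  have : IsIso (lift a.act (snd G X)) := ha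
  have h1 : lift (dif ha x x') x' = lift x x' ≫ inv (lift a.act (snd G X)) := by
    apply CartesianMonoidalCategory.hom_ext
    · rw [lift_fst]; simp [dif]
    · rw [lift_snd, Category.assoc]
      have h2 : inv (lift a.act (snd G X)) ≫ snd G X = snd X X := by
        rw [IsIso.inv_comp_eq, lift_snd]
      rw [h2, lift_snd]
  rw [sm, h1, Category.assoc]
  have h3 : inv (lift a.act (snd G X)) ≫ a.act = fst X X := by
    rw [IsIso.inv_comp_eq, lift_fst]
  rw [h3, lift_fst]

lemma sm_injective (ha : NonAbH1.IsPseudoTorsorSch a) {Y : Over S} {g g' : Y ⟶ G} (x : Y ⟶ X)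
    (h : sm a g x = sm a g' x) : g = g' := by
  have : IsIso (lift a.act (snd G X)) := ha
  have h1 : lift g x ≫ lift a.act (snd G X) = lift g' x ≫ lift a.act (snd G X) := by
    rw [comp_lift, comp_lift, lift_snd, lift_snd]
    congr 1
  rw [cancel_mono] at h1
  have h2 := congrArg (· ≫ fst G X) h1
  simpa using h2

lemma dif_eq (ha : NonAbH1.IsPseudoTorsorSch a) {Y : Over S} {x x' : Y ⟶ X} {g : Y ⟶ G} (h : sm a g x' = x) :
    dif ha x x' = g := sm_injective ha x' ((sm_dif ha x x').trans h.symm)

lemma dif_self (ha : NonAbH1.IsPseudoTorsorSch a) {Y : Over S} (x : Y ⟶ X) : dif ha x x = 1 :=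
  dif_eq ha (one_sm a x)

lemma dif_mul_dif (ha : NonAbH1.IsPseudoTorsorSch a) {Y : Over S} (x y z : Y ⟶ X) :
    dif ha x y * dif ha y z = dif ha x z :=
  (dif_eq ha (by rw [mul_sm, sm_dif, sm_dif])).symm

lemma dif_sm_left (ha : NonAbH1.IsPseudoTorsorSch a) {Y : Over S} (g : Y ⟶ G) (x y : Y ⟶ X) :
    dif ha (sm a g x) y = g * dif ha x y :=
  dif_eq ha (by rw [mul_sm, sm_dif])

lemma dif_sm_right (ha : NonAbH1.IsPseudoTorsorSch a) {Y : Over S} (g : Y ⟶ G) (x y : Y ⟶ X) :
    dif ha x (sm a g y) = dif ha x y * g⁻¹ :=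
  dif_eq ha (by rw [mul_sm, ← mul_sm a g⁻¹, inv_mul_cancel, one_sm, sm_dif])

lemma comp_dif (ha : NonAbH1.IsPseudoTorsorSch a) {Y Y' : Over S} (f : Y' ⟶ Y) (x x' : Y ⟶ X) :
    f ≫ dif ha x x' = dif ha (f ≫ x) (f ≫ x') :=
  (dif_eq ha (by rw [← comp_sm, sm_dif])).symm

lemma dif_inv (ha : NonAbH1.IsPseudoTorsorSch a) {Y : Over S} (x x' : Y ⟶ X) :
    (dif ha x x')⁻¹ = dif ha x' x := by
  rw [inv_eq_iff_mul_eq_one, dif_mul_dif, dif_self]

/-- A pseudo-torsor can be recognised on points: for every pair of points there is a unique transporter. -/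
theorem isPseudoTorsorSch_of_points (a : AlgGrp.Action G X)
    (h : ∀ (Y : Over S) (x x' : Y ⟶ X), ∃! g : Y ⟶ G, sm a g x' = x) : NonAbH1.IsPseudoTorsorSch a := by
  obtain ⟨d, hd, -⟩ := h (X ⊗ X) (fst X X) (snd X X)
  refine ⟨⟨lift d (snd X X), ?_, ?_⟩⟩
  · apply CartesianMonoidalCategory.hom_ext
    · rw [Category.assoc, lift_fst, Category.id_comp]
      refine (h (G ⊗ X) a.act (snd G X)).unique ?_ ?_
      · have := congrArg (lift a.act (snd G X) ≫ ·) hd
        simp only [comp_sm, lift_fst, lift_snd] at this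
        exact this
      · rw [sm, lift_fst_snd, Category.id_comp]
    · simp
  · apply CartesianMonoidalCategory.hom_ext
    · rw [Category.assoc, lift_fst, Category.id_comp]
      exact hd
    · simp

/-- The action of a pseudo-torsor on points and a section give an equivariant isomorphism with the trivial torsor. -/
noncomputable def equivIsoOfSection (ha : NonAbH1.IsPseudoTorsorSch a) (x : 𝟙_ (Over S) ⟶ X) :
    NonAbH1.EquivIso (NonAbH1.trivialAction G) a where
  iso :=
    { hom := a.orbitMap x
      inv := dif ha (𝟙 X) (toUnit X ≫ x)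
      hom_inv_id := by
        rw [comp_dif, Category.comp_id]
        apply dif_eq
        rw [orbitMap_eq]
        congr 1
        rw [← Category.assoc]
        congr 1
        exact toUnit_unique _ _
      inv_hom_id := by
        rw [comp_orbitMap]
        exact sm_dif _ _ _ }
  comm := by
    have h1 : (NonAbH1.trivialAction G).act = fst G G * snd G G := by
      rw [Hom.mul_def, lift_fst_snd, Category.id_comp]; rfl
    change _ ≫ a.orbitMap x = (G ◁ a.orbitMap x) ≫ a.act
    rw [comp_orbitMap, h1, mul_sm]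
    have h2 : (G ◁ a.orbitMap x) ≫ a.act = sm a (fst G G) (snd G G ≫ a.orbitMap x) := by
      rw [sm]
      congr 1
    rw [h2, comp_orbitMap]

/-- An equivariant isomorphism is determined on points. -/
theorem equivIso_sm {X' : Over S} {a' : AlgGrp.Action G X'} (e : NonAbH1.EquivIso a a') {Y : Over S}
    (g : Y ⟶ G) (x : Y ⟶ X) : sm a g x ≫ e.iso.hom = sm a' g (x ≫ e.iso.hom) := by
  rw [sm, sm, Category.assoc, e.comm, ← Category.assoc]
  congr 1
  apply CartesianMonoidalCategory.hom_ext <;> simp

/-- inverse of an equivariant isomorphism -/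
noncomputable def equivIsoSymm {X' : Over S} {a' : AlgGrp.Action G X'} (e : NonAbH1.EquivIso a a') :
    NonAbH1.EquivIso a' a where
  iso := e.iso.symm
  comm := by
    rw [Iso.symm_hom, Iso.comp_inv_eq, Category.assoc, e.comm, ← Category.assoc, ← MonoidalCategory.whiskerLeft_comp]
    simp

/-- identity equivariant isomorphism -/
noncomputable def equivIsoRefl (a : AlgGrp.Action G X) : NonAbH1.EquivIso a a where
  iso := Iso.refl X
  comm := by simp

/-- composition of equivariant isomorphisms -/
noncomputable def equivIsoTrans {X' X'' : Over S} {a' : AlgGrp.Action G X'} {a'' : AlgGrp.Action G X''}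
    (e : NonAbH1.EquivIso a a') (e' : NonAbH1.EquivIso a' a'') : NonAbH1.EquivIso a a'' where
  iso := e.iso ≪≫ e'.iso
  comm := by
    rw [Iso.trans_hom, ← Category.assoc, e.comm, Category.assoc, e'.comm, MonoidalCategory.whiskerLeft_comp,
      Category.assoc]

/-- Build an equivariant isomorphism from its effect on points. -/
noncomputable def equivIsoOfPoints {X' : Over S} {a' : AlgGrp.Action G X'} (e : X ≅ X')
    (h : ∀ (Y : Over S) (g : Y ⟶ G) (x : Y ⟶ X), sm a g x ≫ e.hom = sm a' g (x ≫ e.hom)) :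
    NonAbH1.EquivIso a a' where
  iso := e
  comm := by
    have h1 := h (G ⊗ X) (fst G X) (snd G X)
    rw [sm, lift_fst_snd, Category.id_comp, sm] at h1
    rw [h1]
    congr 1

/-- An equivariant morphism between pseudo-torsors whose source has a section is an isomorphism. -/
theorem isIso_of_equivariant_of_section {X' : Over S} {a' : AlgGrp.Action G X'}
    (ha : NonAbH1.IsPseudoTorsorSch a) (ha' : NonAbH1.IsPseudoTorsorSch a') (φ : X ⟶ X')
    (hφ : a.act ≫ φ = (G ◁ φ) ≫ a'.act) (x : 𝟙_ (Over S) ⟶ X) : IsIso φ := by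
  have h1 : a.orbitMap x ≫ φ = a'.orbitMap (x ≫ φ) := by
    rw [orbitMap_eq, orbitMap_eq, sm, Category.assoc, hφ, sm, ← Category.assoc]
    congr 1
    apply CartesianMonoidalCategory.hom_ext <;> simp
  have h2 : IsIso (a.orbitMap x) := inferInstanceAs (IsIso (equivIsoOfSection ha x).iso.hom)
  have h3 : IsIso (a'.orbitMap (x ≫ φ)) := inferInstanceAs (IsIso (equivIsoOfSection ha' (x ≫ φ)).iso.hom)
  rw [← h1] at h3
  exact IsIso.of_isIso_comp_left (a.orbitMap x) φ

/-- A section of the structure morphism as a point `𝟙_ ⟶ X`. -/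
theorem exists_point_of_hasSectionOver_id (h : NonAbH1.HasSectionOver X (𝟙 S)) : Nonempty (𝟙_ (Over S) ⟶ X) := by
  obtain ⟨s, hs⟩ := h
  exact ⟨Over.homMk s hs⟩

/-- A pseudo-torsor with a section is trivial. -/
theorem nonempty_equivIso_trivial (ha : NonAbH1.IsPseudoTorsorSch a) (h : NonAbH1.HasSectionOver X (𝟙 S)) :
    Nonempty (NonAbH1.EquivIso (NonAbH1.trivialAction G) a) :=
  (exists_point_of_hasSectionOver_id h).map (equivIsoOfSection ha)

/-- A scheme with action isomorphic to the trivial torsor has a section. -/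
theorem hasSectionOver_of_equivIso_trivial (e : NonAbH1.EquivIso (NonAbH1.trivialAction G) a) :
    NonAbH1.HasSectionOver X (𝟙 S) :=
  ⟨(η[G] ≫ e.iso.hom).left, Over.w (η[G] ≫ e.iso.hom)⟩

end Pseudo

section Cover

variable {S : Scheme.{u}}

/-- A covering family for `Scheme.precoverage P` is refined by a single covering morphism of a coproduct of members. -/
theorem exists_single {P : MorphismProperty Scheme.{u}} {R : Presieve S}
    (hR : R ∈ Scheme.precoverage P S) :
    ∃ (U : S → Scheme.{u}) (f : ∀ i, U i ⟶ S), (∀ i, R (f i)) ∧ (∀ i, P (f i)) ∧ Surjective (Sigma.desc f) := by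
  have h1 : ∀ s : S, ∃ (Y : Scheme.{u}) (g : Y ⟶ S), R g ∧ s ∈ Set.range g := by
    intro s
    obtain ⟨Y, g, hg, hs⟩ := hR.1 s
    obtain ⟨hg⟩ := hg
    exact ⟨_, _, hg, hs⟩
  choose U f hf hs using h1
  refine ⟨U, f, hf, fun i => hR.2 (hf i), ?_⟩
  apply Surjective.sigmaDesc_of_union_range_eq_univ
  rw [Set.eq_univ_iff_forall]
  intro s
  exact Set.mem_iUnion.2 ⟨s, hs s⟩

/-- fppf local triviality through one surjective flat locally finitely presented morphism. -/
theorem exists_cover_of_isLocallyTrivial {X : Over S} (h : NonAbH1.IsLocallyTrivialFor Scheme.fppfPrecoverage X) :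
    ∃ (S' : Scheme.{u}) (c : S' ⟶ S), Surjective c ∧ Flat c ∧ LocallyOfFinitePresentation c ∧
      NonAbH1.HasSectionOver X c := by
  obtain ⟨R, hR, hsec⟩ := h
  obtain ⟨U, f, hf, hP, hs⟩ := exists_single (P := @Flat ⊓ @LocallyOfFinitePresentation) hR
  choose s hs' using fun i => hsec (f i) (hf i)
  refine ⟨_, Sigma.desc f, hs, IsZariskiLocalAtSource.sigmaDesc (P := @Flat) fun i => (hP i).1,
    IsZariskiLocalAtSource.sigmaDesc (P := @LocallyOfFinitePresentation) fun i => (hP i).2, Sigma.desc s, ?_⟩
  apply Sigma.hom_ext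
  intro i
  simp [hs']

/-- the same with an arbitrary covering family of the base. -/
theorem exists_cover_of_mem {R : Presieve S} (hR : R ∈ Scheme.fppfPrecoverage S) {X : Over S}
    (hsec : ∀ ⦃U : Scheme.{u}⦄ (g : U ⟶ S), R g → NonAbH1.HasSectionOver X g) :
    ∃ (S' : Scheme.{u}) (c : S' ⟶ S), Surjective c ∧ Flat c ∧ LocallyOfFinitePresentation c ∧
      NonAbH1.HasSectionOver X c := exists_cover_of_isLocallyTrivial ⟨R, hR, hsec⟩

/-- one surjective flat locally finitely presented morphism is an fppf covering. -/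
theorem isLocallyTrivialFor_fppf {X : Over S} {S' : Scheme.{u}} (c : S' ⟶ S) [Surjective c] [Flat c]
    [LocallyOfFinitePresentation c] (h : NonAbH1.HasSectionOver X c) :
    NonAbH1.IsLocallyTrivialFor Scheme.fppfPrecoverage X := by
  refine ⟨_, Scheme.Hom.singleton_mem_fppfPrecoverage c, ?_⟩
  rintro Y g ⟨⟩
  exact h

/-- a scheme which is locally trivial for the fppf precoverage surjects onto the base. -/
theorem surjective_of_isLocallyTrivial {X : Over S} (h : NonAbH1.IsLocallyTrivialFor Scheme.fppfPrecoverage X) :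
    Surjective X.hom := by
  obtain ⟨S', c, hc, -, -, s, hs⟩ := exists_cover_of_isLocallyTrivial h
  have : Surjective (s ≫ X.hom) := by rw [hs]; exact hc
  exact Surjective.of_comp s X.hom

end Cover

section Torsor

variable {S : Scheme.{u}} {G X : Over S} [GrpObj G] {a : AlgGrp.Action G X}

/-- A pseudo-torsor becomes trivial over a base change over which it acquires a section. -/
theorem nonempty_equivIso_bc (ha : NonAbH1.IsPseudoTorsorSch a) {S' : Scheme.{u}} (c : S' ⟶ S)
    (h : NonAbH1.HasSectionOver X c) :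
    Nonempty (NonAbH1.EquivIso (NonAbH1.trivialAction (Red.bc c G)) (a.bc c)) := by
  apply nonempty_equivIso_trivial (NonAbH1.isPseudoTorsorSch_bc c ha)
  obtain ⟨s, hs⟩ := h
  exact ⟨pullback.lift s (𝟙 S') (by rw [hs, Category.id_comp]), pullback.lift_snd _ _ _⟩

/-- A section over `c` makes the base change along `c` of `X` isomorphic to that of `G`. -/
theorem nonempty_iso_bc (ha : NonAbH1.IsPseudoTorsorSch a) {S' : Scheme.{u}} (c : S' ⟶ S)
    (h : NonAbH1.HasSectionOver X c) : Nonempty (Red.bc c G ≅ Red.bc c X) :=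
  (nonempty_equivIso_bc ha c h).map fun e => e.iso

/-- Properties of `G` stable under base change which descend along fppf coverings are inherited by fppf torsors. -/
theorem prop_of_torsor (ha : NonAbH1.IsTorsorFor Scheme.fppfPrecoverage a) (P : MorphismProperty Scheme.{u})
    [P.IsStableUnderBaseChange] [P.DescendsAlong (@Surjective ⊓ @Flat ⊓ @LocallyOfFinitePresentation)]
    (hG : P G.hom) : P X.hom := by
  obtain ⟨S', c, hc1, hc2, hc3, hs⟩ := exists_cover_of_isLocallyTrivial ha.2
  obtain ⟨e⟩ := nonempty_iso_bc ha.1 c hs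
  have h1 : P (Red.bc c G).hom := P.pullback_snd _ _ hG
  have h2 : P (Red.bc c X).hom := by
    have h3 : e.hom.left ≫ (Red.bc c X).hom = (Red.bc c G).hom := Over.w e.hom
    rw [← h3] at h1
    have h4 : IsIso e.hom.left := inferInstanceAs (IsIso ((Over.forget S').map e.hom))
    exact (P.cancel_left_of_respectsIso _ _).1 h1
  exact MorphismProperty.of_pullback_snd_of_descendsAlong (P := P)
    (Q := @Surjective ⊓ @Flat ⊓ @LocallyOfFinitePresentation) (f := X.hom) (g := c)
    ⟨⟨hc1, hc2⟩, hc3⟩ h2

theorem flat_of_torsor (ha : NonAbH1.IsTorsorFor Scheme.fppfPrecoverage a) [Flat G.hom] : Flat X.hom :=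
  haveI := Groth.Agent.Sga3.H804.EtFam.flat_descends.{u}
  prop_of_torsor ha @Flat inferInstance

theorem lfp_of_torsor (ha : NonAbH1.IsTorsorFor Scheme.fppfPrecoverage a) [LocallyOfFinitePresentation G.hom] :
    LocallyOfFinitePresentation X.hom :=
  prop_of_torsor ha @LocallyOfFinitePresentation inferInstance

theorem smooth_of_torsor (ha : NonAbH1.IsTorsorFor Scheme.fppfPrecoverage a) [Smooth G.hom] : Smooth X.hom :=
  prop_of_torsor ha @Smooth inferInstance

theorem etale_of_torsor (ha : NonAbH1.IsTorsorFor Scheme.fppfPrecoverage a) [Etale G.hom] : Etale X.hom :=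
  prop_of_torsor ha @Etale inferInstance

theorem isAffineHom_of_torsor (ha : NonAbH1.IsTorsorFor Scheme.fppfPrecoverage a) [IsAffineHom G.hom] :
    IsAffineHom X.hom :=
  prop_of_torsor ha @IsAffineHom inferInstance

theorem isFinite_of_torsor (ha : NonAbH1.IsTorsorFor Scheme.fppfPrecoverage a) [IsFinite G.hom] : IsFinite X.hom :=
  prop_of_torsor ha @IsFinite inferInstance

theorem isSeparated_of_torsor (ha : NonAbH1.IsTorsorFor Scheme.fppfPrecoverage a) [IsSeparated G.hom] :
    IsSeparated X.hom :=
  prop_of_torsor ha @IsSeparated inferInstance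

theorem quasiCompact_of_torsor (ha : NonAbH1.IsTorsorFor Scheme.fppfPrecoverage a) [QuasiCompact G.hom] :
    QuasiCompact X.hom :=
  prop_of_torsor ha @QuasiCompact inferInstance

theorem quasiSeparated_of_torsor (ha : NonAbH1.IsTorsorFor Scheme.fppfPrecoverage a) [QuasiSeparated G.hom] :
    QuasiSeparated X.hom :=
  prop_of_torsor ha @QuasiSeparated inferInstance

theorem surjective_of_torsor (ha : NonAbH1.IsTorsorFor Scheme.fppfPrecoverage a) : Surjective X.hom :=
  surjective_of_isLocallyTrivial ha.2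

/-- For `G` flat and locally of finite presentation, fppf torsors are the representable torsors `RedSub.IsTorsor`. -/
theorem redSub_isTorsor (ha : NonAbH1.IsTorsorFor Scheme.fppfPrecoverage a) [Flat G.hom]
    [LocallyOfFinitePresentation G.hom] : RedSub.IsTorsor a :=
  ⟨surjective_of_torsor ha, flat_of_torsor ha, lfp_of_torsor ha, ha.1⟩

/-- A representable torsor `RedSub.IsTorsor` is an fppf torsor (trivialised by itself). -/
theorem isTorsorFor_of_redSub (ha : RedSub.IsTorsor a) : NonAbH1.IsTorsorFor Scheme.fppfPrecoverage a := by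
  have := ha.1
  have := ha.2.1
  have := ha.2.2.1
  exact ⟨ha.2.2.2, isLocallyTrivialFor_fppf X.hom ⟨𝟙 _, Category.id_comp _⟩⟩

/-- An fppf torsor is trivial iff it has a section. -/
theorem hasSectionOver_id_iff (ha : NonAbH1.IsTorsorFor Scheme.fppfPrecoverage a) :
    NonAbH1.HasSectionOver X (𝟙 S) ↔ Nonempty (NonAbH1.EquivIso (NonAbH1.trivialAction G) a) :=
  ⟨nonempty_equivIso_trivial ha.1, fun ⟨e⟩ => hasSectionOver_of_equivIso_trivial e⟩

/-- An equivariant morphism between a torsor and a pseudo-torsor is an isomorphism. -/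
theorem isIso_of_equivariant {X' : Over S} {a' : AlgGrp.Action G X'}
    (ha : NonAbH1.IsTorsorFor Scheme.fppfPrecoverage a) (ha' : NonAbH1.IsPseudoTorsorSch a') (φ : X ⟶ X')
    (hφ : a.act ≫ φ = (G ◁ φ) ≫ a'.act) : IsIso φ := by
  obtain ⟨S', c, hc1, hc2, hc3, s, hs⟩ := exists_cover_of_isLocallyTrivial ha.2
  have h1 : IsIso ((Over.pullback c).map φ) := by
    refine isIso_of_equivariant_of_section (NonAbH1.isPseudoTorsorSch_bc c ha.1)
      (NonAbH1.isPseudoTorsorSch_bc c ha') _ ?_
      (Over.homMk (pullback.lift s (𝟙 S') (by rw [hs]; exact (Category.id_comp c).symm)) (pullback.lift_snd _ _ _))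
    rw [AlgGrp.Action.bc_act, AlgGrp.Action.bc_act, Category.assoc, ← Functor.map_comp, hφ,
      Functor.map_comp, Functor.LaxMonoidal.μ_natural_right_assoc]
  have h2 : IsIso ((Over.pullback c).map φ).left :=
    inferInstanceAs (IsIso ((Over.forget S').map ((Over.pullback c).map φ)))
  have h3 : IsPullback (pullback.fst X.hom c) ((Over.pullback c).map φ).left φ.left (pullback.fst X'.hom c) := by
    have h4 : ((Over.pullback c).map φ).left ≫ pullback.fst X'.hom c = pullback.fst X.hom c ≫ φ.left :=
      ActBC.pullback_map_left_fst c φ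
    have h5 : ((Over.pullback c).map φ).left ≫ pullback.snd X'.hom c = pullback.snd X.hom c :=
      Over.w ((Over.pullback c).map φ)
    have h6 : IsPullback (pullback.fst X'.hom c) (pullback.snd X'.hom c) X'.hom c := IsPullback.of_hasPullback _ _
    have h7 : IsPullback (pullback.fst X.hom c) (((Over.pullback c).map φ).left ≫ pullback.snd X'.hom c)
        (φ.left ≫ X'.hom) c := by
      rw [h5, Over.w]
      exact IsPullback.of_hasPullback _ _
    exact IsPullback.of_bot h7 h4.symm h6
  have h8 : IsIso φ.left := by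
    refine MorphismProperty.of_isPullback_of_descendsAlong (P := MorphismProperty.isomorphisms Scheme.{u})
      (Q := @Surjective ⊓ @Flat ⊓ @LocallyOfFinitePresentation) h3.flip ⟨⟨?_, ?_⟩, ?_⟩ h2
    · exact MorphismProperty.pullback_fst (P := @Surjective) _ _ hc1
    · exact MorphismProperty.pullback_fst (P := @Flat) _ _ hc2
    · exact MorphismProperty.pullback_fst (P := @LocallyOfFinitePresentation) _ _ hc3
  have h9 : IsIso ((Over.forget S).map φ) := h8
  exact isIso_of_reflects_iso φ (Over.forget S)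

end Torsor

end K551.Tors
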