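import Mathlib.RingTheory.PowerSeries.Trunc
import Mathlib.RingTheory.LaurentSeries
import Groth.Agent.Etalg.PairHens2

/-!
# Truncation of power series, and henselizations of `(R[X], (X))`
-/

set_option autoImplicit false
universe u

open Polynomial

namespace K551.TruncQuot

variable {R : Type u} [CommRing R]

lemma trunc_sub_mem_iff (n : ℕ) (f : PowerSeries R) (p : R[X]) :
    PowerSeries.trunc n f - p ∈ Ideal.span {(X : R[X]) ^ n} ↔ ∀ d < n, PowerSeries.coeff d f = p.coeff d := by
  rw [Ideal.mem_span_singleton, Polynomial.X_pow_dvd_iff]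
  refine forall_congr' fun d => forall_congr' fun hd => ?_
  rw [coeff_sub, PowerSeries.coeff_trunc, if_pos hd, sub_eq_zero]

/-- Truncation, as a ring homomorphism `R⟦X⟧ → R[X]/(X ^ n)`. -/
noncomputable def truncHom (R : Type u) [CommRing R] (n : ℕ) : PowerSeries R →+* R[X] ⧸ Ideal.span {(X : R[X]) ^ n} where
  toFun f := Ideal.Quotient.mk _ (PowerSeries.trunc n f)
  map_one' := by
    rw [← map_one (Ideal.Quotient.mk _), Ideal.Quotient.eq, trunc_sub_mem_iff]
    intro d _
    rw [PowerSeries.coeff_one, Polynomial.coeff_one]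
  map_mul' f g := by
    rw [← map_mul, Ideal.Quotient.eq, trunc_sub_mem_iff]
    intro d hd
    rw [PowerSeries.coeff_mul, Polynomial.coeff_mul]
    refine Finset.sum_congr rfl fun x hx => ?_
    have hx' := Finset.HasAntidiagonal.mem_antidiagonal.1 hx
    rw [PowerSeries.coeff_trunc, PowerSeries.coeff_trunc, if_pos (by omega), if_pos (by omega)]
  map_zero' := by simp
  map_add' f g := by rw [map_add, map_add]

lemma truncHom_coe (n : ℕ) (p : R[X]) : truncHom R n (p : PowerSeries R) = Ideal.Quotient.mk _ p := by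
  change Ideal.Quotient.mk _ (PowerSeries.trunc n (p : PowerSeries R)) = _
  rw [Ideal.Quotient.eq, trunc_sub_mem_iff]
  intro d _
  rw [Polynomial.coeff_coe]

lemma algebraMap_eq_coe (p : R[X]) : algebraMap R[X] (PowerSeries R) p = (p : PowerSeries R) := rfl

variable {B : Type u} [CommRing B] [Algebra R[X] B]

/-- The map `R⟦X⟧ → B/t^n`. -/
noncomputable def eps (B : Type u) [CommRing B] [Algebra R[X] B] (n : ℕ) :
    PowerSeries R →+* B ⧸ Ideal.span {(algebraMap R[X] B X) ^ n} :=
  (Ideal.quotientMap (Ideal.span {(algebraMap R[X] B X) ^ n}) (algebraMap R[X] B) (by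
    rw [Ideal.span_le, Set.singleton_subset_iff]
    change algebraMap R[X] B (X ^ n) ∈ Ideal.span {(algebraMap R[X] B X) ^ n}
    rw [map_pow]
    exact Ideal.mem_span_singleton_self _)).comp (truncHom R n)

lemma exists_sub_mem (hB : Hens2.IsPairHenselization R[X] (Ideal.span {(X : R[X])}) B) (n : ℕ) (b : B) :
    ∃ p : R[X], ∃ c : B, b = algebraMap R[X] B p + (algebraMap R[X] B X) ^ n * c := by
  have := Groth.Agent.Etalg.PairHens2.flat (B := B) hB
  have h2 := (Groth.Agent.Etalg.PairHens2.quot_pow_bijective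
    (Groth.Agent.Etalg.PairHens2.quot_bijective (B := B) hB) n).2 (Ideal.Quotient.mk _ b)
  obtain ⟨z, hz⟩ := h2
  obtain ⟨p, rfl⟩ := Ideal.Quotient.mk_surjective z
  rw [Ideal.quotientMap_mk, eq_comm, Ideal.Quotient.eq, Ideal.span_singleton_pow, Ideal.map_span,
    Set.image_singleton, Ideal.mem_span_singleton] at hz
  obtain ⟨c, hc⟩ := hz
  exact ⟨p, c, by rw [map_pow] at hc; rw [← hc]; ring⟩

lemma eps_apply (hB : Hens2.IsPairHenselization R[X] (Ideal.span {(X : R[X])}) B)
    (ψ : B →ₐ[R[X]] PowerSeries R) (n : ℕ) (b : B) : eps B n (ψ b) = Ideal.Quotient.mk _ b := by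
  obtain ⟨p, c, rfl⟩ := exists_sub_mem hB n b
  have h1 : eps B n (ψ (algebraMap R[X] B p)) = Ideal.Quotient.mk _ (algebraMap R[X] B p) := by
    rw [AlgHom.commutes, algebraMap_eq_coe, eps, RingHom.comp_apply, truncHom_coe, Ideal.quotientMap_mk]
  have h2 : eps B n (ψ ((algebraMap R[X] B X) ^ n)) = 0 := by
    have h3 : ψ ((algebraMap R[X] B X) ^ n) = ((X ^ n : R[X]) : PowerSeries R) := by
      rw [← map_pow, AlgHom.commutes, algebraMap_eq_coe]
    rw [h3, eps, RingHom.comp_apply, truncHom_coe,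
      Ideal.quotientMap_mk, map_pow, Ideal.Quotient.eq_zero_iff_mem]
    exact Ideal.mem_span_singleton_self _
  rw [map_add, map_mul, map_add, map_mul, h1, h2, zero_mul, map_add, map_mul]
  congr 1
  rw [eq_comm]
  have : Ideal.Quotient.mk (Ideal.span {(algebraMap R[X] B X) ^ n}) ((algebraMap R[X] B X) ^ n) = 0 := by
    rw [Ideal.Quotient.eq_zero_iff_mem]
    exact Ideal.mem_span_singleton_self _
  rw [this, zero_mul]

end K551.TruncQuot
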