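import Groth.Agent.NonAbH1.K551.Tors

/-!
# Equality of classes in `H1Sch`
-/

set_option autoImplicit false
universe u

open CategoryTheory CategoryTheory.Limits MonoidalCategory CartesianMonoidalCategory MonObj GrpObj AlgebraicGeometry
open K551.Tors

namespace K551.H1Cl

variable {S : Scheme.{u}} {G : Over S} [GrpObj G] {K : Precoverage Scheme.{u}}

/-- Two torsors have the same class iff they are equivariantly isomorphic. -/
theorem cl_eq_iff (P Q : NonAbH1.TorsorSch G K) : P.cl = Q.cl ↔ Nonempty (NonAbH1.EquivIso P.act Q.act) := by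
  constructor
  · intro h
    have h1 := Quot.eqvGen_exact h
    have h2 : Equivalence fun P Q : NonAbH1.TorsorSch G K => Nonempty (NonAbH1.EquivIso P.act Q.act) :=
      ⟨fun P => ⟨equivIsoRefl _⟩, fun ⟨e⟩ => ⟨equivIsoSymm e⟩, fun ⟨e⟩ ⟨e'⟩ => ⟨equivIsoTrans e e'⟩⟩
    exact (h2.eqvGen_iff).1 h1
  · intro h
    exact Quot.sound h

/-- A torsor has the trivial class iff it has a section. -/
theorem cl_eq_one_iff [K.HasIsos] (P : NonAbH1.TorsorSch G K) :
    P.cl = 1 ↔ NonAbH1.HasSectionOver P.X (𝟙 S) := by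
  change P.cl = NonAbH1.TorsorSch.cl ⟨G, NonAbH1.trivialAction G, _⟩ ↔ _
  rw [cl_eq_iff]
  exact ⟨fun ⟨e⟩ => hasSectionOver_of_equivIso_trivial (equivIsoSymm e), fun h =>
    (nonempty_equivIso_trivial P.isTorsor.1 h).map equivIsoSymm⟩

theorem hasSectionOver_bc_iff (X : Over S) {S' : Scheme.{u}} (f : S' ⟶ S) :
    NonAbH1.HasSectionOver (Red.bc f X) (𝟙 S') ↔ NonAbH1.HasSectionOver X f := by
  constructor
  · rintro ⟨σ, hσ⟩
    refine ⟨σ ≫ pullback.fst X.hom f, ?_⟩
    rw [Category.assoc, pullback.condition, ← Category.assoc]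
    exact (congrArg (· ≫ f) hσ).trans (Category.id_comp f)
  · rintro ⟨σ, hσ⟩
    exact ⟨pullback.lift σ (𝟙 S') (by rw [hσ, Category.id_comp]), pullback.lift_snd _ _ _⟩

/-- The base change of a torsor along `f` has the trivial class iff the torsor has a section over `f`. -/
theorem bcMap_cl_eq_one_iff [K.HasIsos] [K.IsStableUnderBaseChange] (P : NonAbH1.TorsorSch G K) {S' : Scheme.{u}}
    (f : S' ⟶ S) : NonAbH1.H1Sch.bcMap f G K P.cl = 1 ↔ NonAbH1.HasSectionOver P.X f := by
  rw [← NonAbH1.TorsorSch.cl_bc, cl_eq_one_iff]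
  exact hasSectionOver_bc_iff P.X f

/-- Every class is the class of a torsor. -/
theorem exists_cl (c : NonAbH1.H1Sch G K) : ∃ P : NonAbH1.TorsorSch G K, P.cl = c := by
  obtain ⟨P⟩ := c
  exact ⟨P, rfl⟩

end K551.H1Cl
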