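import Groth.Agent.NonAbH1.K551.FlatGlue
import Mathlib.RingTheory.Ideal.Quotient.Operations
import Mathlib.RingTheory.Spectrum.Prime.Topology

/-!
# The glueing square of `φ : A → A'`, `t ∈ A` with `A/t^m ≅ A'/t^m` and the same `t`-power torsion
-/

set_option autoImplicit false
universe u

open CategoryTheory CategoryTheory.Limits AlgebraicGeometry

namespace K551.AdicSquare

open FlatGlue

section

variable {A A' : Type u} [CommRing A] [CommRing A']

/-- the hypothesis on quotients. -/
def QuotBij (φ : A →+* A') (t : A) : Prop :=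
  ∀ m : ℕ, Function.Bijective (Ideal.quotientMap (Ideal.map φ (Ideal.span {t} ^ m)) φ Ideal.le_comap_map)

/-- the hypothesis on torsion. -/
def TorBij (φ : A →+* A') (t : A) : Prop :=
  ∀ a' : A', (∃ m : ℕ, φ t ^ m * a' = 0) → ∃! a : A, (∃ m : ℕ, t ^ m * a = 0) ∧ φ a = a'

lemma map_span_pow (φ : A →+* A') (t : A) (m : ℕ) :
    Ideal.map φ (Ideal.span {t} ^ m) = Ideal.span {φ t ^ m} := by
  rw [Ideal.map_pow, Ideal.map_span, Set.image_singleton, Ideal.span_singleton_pow]

lemma exists_of_dvd {φ : A →+* A'} {t : A} (hq : QuotBij φ t) (m : ℕ) (a : A) (b' : A') (h : φ a = φ t ^ m * b') :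
    ∃ b, a = t ^ m * b := by
  have h1 : Ideal.Quotient.mk (Ideal.span {t} ^ m) a = 0 := by
    apply (hq m).1
    rw [map_zero, Ideal.quotientMap_mk, Ideal.Quotient.eq_zero_iff_mem, map_span_pow, h]
    exact Ideal.mul_mem_right _ _ (Ideal.mem_span_singleton_self _)
  rw [Ideal.Quotient.eq_zero_iff_mem, Ideal.span_singleton_pow, Ideal.mem_span_singleton] at h1
  exact h1

lemma exists_add {φ : A →+* A'} {t : A} (hq : QuotBij φ t) (m : ℕ) (a' : A') :
    ∃ (a : A) (b' : A'), a' = φ a + φ t ^ m * b' := by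
  obtain ⟨x, hx⟩ := (hq m).2 (Ideal.Quotient.mk _ a')
  obtain ⟨a, rfl⟩ := Ideal.Quotient.mk_surjective x
  rw [Ideal.quotientMap_mk, eq_comm, Ideal.Quotient.eq, map_span_pow, Ideal.mem_span_singleton] at hx
  obtain ⟨b', hb'⟩ := hx
  exact ⟨a, b', by rw [← hb']; ring⟩

lemma eq_zero_of_torsion {φ : A →+* A'} {t : A} (ht : TorBij φ t) (a : A) (m : ℕ) (h1 : t ^ m * a = 0) (h2 : φ a = 0) :
    a = 0 := by
  obtain ⟨c, -, hc⟩ := ht 0 ⟨0, by simp⟩
  rw [hc a ⟨⟨m, h1⟩, h2⟩, hc 0 ⟨⟨0, by simp⟩, map_zero _⟩]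

end

variable {A A' : Type u} [CommRing A] [CommRing A'] [Algebra A A'] (t : A)

/-- The lower localization map as an algebra map. -/
noncomputable def gAway (t : A) : Localization.Away t →ₐ[A] Localization.Away (algebraMap A A' t) where
  __ := Localization.awayMap (algebraMap A A') t
  commutes' a := by
    change Localization.awayMap (algebraMap A A') t (algebraMap A _ a) = _
    rw [Localization.awayMap, IsLocalization.Away.map, IsLocalization.map_eq]
    rfl

/-- The localization map of `A'` as an `A`-algebra map. -/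
noncomputable def gLoc (t : A) : A' →ₐ[A] Localization.Away (algebraMap A A' t) where
  __ := algebraMap A' (Localization.Away (algebraMap A A' t))
  commutes' _ := rfl

lemma gAway_mk (t : A) (a : A) (n : ℕ) :
    gAway (A' := A') t (IsLocalization.mk' (Localization.Away t) a (⟨t ^ n, n, rfl⟩ : Submonoid.powers t)) =
      IsLocalization.mk' (Localization.Away (algebraMap A A' t)) (algebraMap A A' a)
        (⟨algebraMap A A' t ^ n, n, rfl⟩ : Submonoid.powers (algebraMap A A' t)) := by
  change Localization.awayMap (algebraMap A A') t _ = _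
  rw [Localization.awayMap, IsLocalization.Away.map, IsLocalization.map_mk']
  congr 1
  ext
  simp

theorem exact₂ (hq : QuotBij (algebraMap A A') t) (ht : TorBij (algebraMap A A') t) :
    Exact₂ (gAway (A' := A') t) (gLoc (A' := A') t) where
  inj a h1 h2 := by
    rw [IsLocalization.map_eq_zero_iff (Submonoid.powers t)] at h1
    obtain ⟨⟨_, m, rfl⟩, hm⟩ := h1
    exact eq_zero_of_torsion ht a m hm h2
  ex a₁ a' h := by
    obtain ⟨a, ⟨_, n, rfl⟩, rfl⟩ := IsLocalization.exists_mk'_eq (Submonoid.powers t) a₁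
    rw [gAway_mk] at h
    change _ = algebraMap A' (Localization.Away (algebraMap A A' t)) a' at h
    rw [IsLocalization.mk'_eq_iff_eq_mul, ← map_mul] at h
    rw [IsLocalization.eq_iff_exists (Submonoid.powers (algebraMap A A' t))] at h
    obtain ⟨⟨_, m, rfl⟩, hm⟩ := h
    simp only at hm
    -- φ t^m * φ a = φ t^m * (a' * φ t^n)
    have h1 : algebraMap A A' (t ^ m * a) = algebraMap A A' t ^ (m + n) * a' := by
      rw [map_mul, map_pow, hm, pow_add]; ring
    obtain ⟨b, hb⟩ := exists_of_dvd hq (m + n) _ _ h1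
    have h2 : algebraMap A A' t ^ (m + n) * (a' - algebraMap A A' b) = 0 := by
      rw [mul_sub, ← h1, hb, map_mul, map_pow, sub_self]
    obtain ⟨c, ⟨⟨l, hl⟩, hc⟩, -⟩ := ht _ ⟨_, h2⟩
    refine ⟨b + c, ?_, ?_⟩
    · have h3 : algebraMap A (Localization.Away t) c = 0 := by
        rw [IsLocalization.map_eq_zero_iff (Submonoid.powers t)]
        exact ⟨⟨_, l, rfl⟩, hl⟩
      rw [map_add, h3, add_zero, eq_comm, IsLocalization.mk'_eq_iff_eq_mul, ← map_mul,
        IsLocalization.eq_iff_exists (Submonoid.powers t)]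
      refine ⟨⟨_, m, rfl⟩, ?_⟩
      simp only
      rw [hb, pow_add]; ring
    · rw [map_add, hc]; ring

theorem surj (hq : QuotBij (algebraMap A A') t) (s : Spec (CommRingCat.of A)) :
    s ∈ Set.range (sp A (Localization.Away t)) ∨ s ∈ Set.range (sp A A') := by
  by_cases hs : t ∈ s.asIdeal
  · right
    have h1 : Ideal.span {t} ^ 1 ≤ s.asIdeal := by
      rw [pow_one, Ideal.span_le, Set.singleton_subset_iff]; exact hs
    let e := RingEquiv.ofBijective _ (hq 1)
    let f : A' →+* A ⧸ s.asIdeal := ((Ideal.Quotient.factor h1).comp e.symm.toRingHom).comp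
      (Ideal.Quotient.mk (Ideal.map (algebraMap A A') (Ideal.span {t} ^ 1)))
    have hf : ∀ a, f (algebraMap A A' a) = Ideal.Quotient.mk _ a := by
      intro a
      change Ideal.Quotient.factor h1 (e.symm (Ideal.Quotient.mk (Ideal.map (algebraMap A A') (Ideal.span {t} ^ 1))
        (algebraMap A A' a))) = _
      have h2 : e (Ideal.Quotient.mk (Ideal.span {t} ^ 1) a) =
        Ideal.Quotient.mk (Ideal.map (algebraMap A A') (Ideal.span {t} ^ 1)) (algebraMap A A' a) := rfl
      rw [← h2, RingEquiv.symm_apply_apply]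
      rfl
    let s' : PrimeSpectrum A' := ⟨RingHom.ker f, RingHom.ker_isPrime f⟩
    refine ⟨s', ?_⟩
    apply PrimeSpectrum.ext
    change Ideal.comap (algebraMap A A') (RingHom.ker f) = s.asIdeal
    ext a
    rw [Ideal.mem_comap, RingHom.mem_ker, hf, Ideal.Quotient.eq_zero_iff_mem]
  · left
    have h1 := PrimeSpectrum.localization_away_comap_range (Localization.Away t) t
    have h2 : (s : PrimeSpectrum A) ∈ (PrimeSpectrum.basicOpen t : Set (PrimeSpectrum A)) := hs
    rw [← h1] at h2
    exact h2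

end K551.AdicSquare
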