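import Groth.Agent.NonAbH1.K551.NullSeq
import Mathlib.AlgebraicGeometry.Morphisms.Smooth
import Mathlib.RingTheory.AdicCompletion.Algebra

/-!
# Sections of affine smooth schemes over `A[1/t]`, `(A, tA)` henselian
-/

set_option autoImplicit false
universe u

open CategoryTheory AlgebraicGeometry

namespace K551.ElkikPt

/-- An affine smooth scheme over `A[1/t]`, `(A, tA)` henselian, with a point in `D[1/t]` has a section. -/
theorem exists_section {A : Type u} [CommRing A] {t : A} {K : Type u} [CommRing K] [Algebra A K]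
    [IsLocalization.Away t K] [HenselianRing A (Ideal.span {t})] {D : Type u} [CommRing D] [Algebra A D]
    (ε : ∀ n : ℕ, D →+* A ⧸ Ideal.span {t ^ n})
    (hε : ∀ n a, ε n (algebraMap A D a) = Ideal.Quotient.mk _ a)
    {L : Type u} [CommRing L] [Algebra D L] [IsLocalization.Away (algebraMap A D t) L]
    (χ : K →+* L) (hχ : ∀ a : A, χ (algebraMap A K a) = algebraMap D L (algebraMap A D a))
    {P : Scheme.{u}} [IsAffine P] (p : P ⟶ Spec (CommRingCat.of K)) [Smooth p]
    (x : Spec (CommRingCat.of L) ⟶ P) (hx : x ≫ p = Spec.map (CommRingCat.ofHom χ)) :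
    ∃ s : Spec (CommRingCat.of K) ⟶ P, s ≫ p = 𝟙 _ := by
  obtain ⟨φ, hφ⟩ := Spec.map_surjective (P.isoSpec.inv ≫ p)
  have hsm : Smooth (Spec.map φ) := by rw [hφ]; infer_instance
  have hsm' : φ.hom.Smooth := (HasRingHomProperty.Spec_iff (P := @Smooth)).1 hsm
  let _ : Algebra K Γ(P, ⊤) := φ.hom.toAlgebra
  have : Algebra.Smooth K Γ(P, ⊤) := hsm'
  obtain ⟨σ, hσ⟩ := Spec.map_surjective (x ≫ P.isoSpec.hom)
  have h1 : φ ≫ σ = CommRingCat.ofHom χ := by
    apply Spec.map_injective
    rw [Spec.map_comp, hσ, hφ, Category.assoc, Iso.hom_inv_id_assoc, hx]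
  obtain ⟨τ⟩ := NullSeq.exists_point (K := K) ε hε (L := L) (C := Γ(P, ⊤)) σ.hom (by
    intro a
    rw [← hχ]
    exact ConcreteCategory.congr_hom h1 (algebraMap A K a))
  refine ⟨Spec.map (CommRingCat.ofHom τ.toRingHom) ≫ P.isoSpec.inv, ?_⟩
  rw [Category.assoc, ← hφ, ← Spec.map_comp, ← Spec.map_id]
  congr 1
  ext y
  exact τ.commutes y

/-- The case of the completion. -/
theorem exists_section_adic {A : Type u} [CommRing A] (t : A) [HenselianRing A (Ideal.span {t})]
    {P : Scheme.{u}} [IsAffine P] (p : P ⟶ Spec (CommRingCat.of (Localization.Away t))) [Smooth p]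
    (x : Spec (CommRingCat.of (Localization.Away (algebraMap A (AdicCompletion (Ideal.span {t}) A) t))) ⟶ P)
    (hx : x ≫ p = Spec.map (CommRingCat.ofHom
      (Localization.awayMap (algebraMap A (AdicCompletion (Ideal.span {t}) A)) t))) :
    ∃ s : Spec (CommRingCat.of (Localization.Away t)) ⟶ P, s ≫ p = 𝟙 _ := by
  have e : ∀ n : ℕ, Ideal.span {t} ^ n ≤ Ideal.span {t ^ n} := fun n => (Ideal.span_singleton_pow t n).le
  refine exists_section (D := AdicCompletion (Ideal.span {t}) A)
    (fun n => (Ideal.Quotient.factor (e n)).comp (AdicCompletion.evalₐ (Ideal.span {t}) n).toRingHom)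
    (fun n a => ?_) _ (fun a => ?_) p x hx
  · change Ideal.Quotient.factor (e n) (AdicCompletion.evalₐ (Ideal.span {t}) n (algebraMap A _ a)) = _
    rw [AlgHom.commutes]
    rfl
  · exact IsLocalization.map_eq _ a

end K551.ElkikPt
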