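import Groth.Agent.NonAbH1.K551.Tors
import Groth.Agent.Ega2.Normal
import Groth.Agent.Etcore.NormalEtaleScheme
import Groth.Agent.Etcore.SmoothRed
import Groth.Agent.Books.AntiAffine
import Mathlib.AlgebraicGeometry.Morphisms.QuasiFinite
import Mathlib.AlgebraicGeometry.Morphisms.Separated

/-!
# Extending points of étale schemes over a field and sections of étale torsors over a normal integral scheme
-/

set_option autoImplicit false
universe u

open CategoryTheory CategoryTheory.Limits AlgebraicGeometry

namespace K551.EtExt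

lemma locallyQuasiFinite_of_etale {X Y : Scheme.{u}} (f : X ⟶ Y) [Etale f] : LocallyQuasiFinite f where
  quasiFinite_appLE {U} hU {V} hV e := by
    have h := HasRingHomProperty.appLE @AlgebraicGeometry.Etale f ‹_› ⟨U, hU⟩ ⟨V, hV⟩ e
    algebraize [(f.appLE U V e).hom]
    change Algebra.QuasiFinite Γ(Y, U) Γ(X, V)
    infer_instance

/-- a field-valued point factors through the spectrum of the residue field of its image -/
theorem exists_factor {K : Type u} [Field K] {X : Scheme.{u}} (h : Spec (CommRingCat.of K) ⟶ X) (x : X)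
    (hx : h (IsLocalRing.closedPoint K) = x) :
    ∃ h' : Spec (CommRingCat.of K) ⟶ Spec (X.residueField x), h' ≫ X.fromSpecResidueField x = h := by
  subst hx
  exact ⟨_, X.descResidueField_stalkClosedPointTo_fromSpecResidueField K h⟩

/-- A point of a scheme étale over a field with values in the function field of a normal integral scheme extends. -/
theorem exists_extend_fieldPoint {k : Type u} [Field k] {G : Scheme.{u}} (g : G ⟶ Spec (CommRingCat.of k))
    [Etale g] {W : Scheme.{u}} [IsIntegral W] (hW : Pi1.IsNormalScheme W) (w : W ⟶ Spec (CommRingCat.of k))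
    (γ : Spec W.functionField ⟶ G) (hγ : γ ≫ g = W.fromSpecStalk (genericPoint W) ≫ w) :
    ∃ γ' : W ⟶ G, γ' ≫ g = w ∧ W.fromSpecStalk (genericPoint W) ≫ γ' = γ := by
  let p : G := γ (IsLocalRing.closedPoint W.functionField)
  obtain ⟨γ₀, hγ₀⟩ := exists_factor (K := W.functionField) γ p rfl
  let q : Spec (G.residueField p) ⟶ Spec (CommRingCat.of k) := G.fromSpecResidueField p ≫ g
  have hq : IsFinite q := by
    have : LocallyQuasiFinite g := locallyQuasiFinite_of_etale g
    have : LocallyQuasiFinite q := inferInstance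
    exact IsFinite.of_locallyQuasiFinite q
  have hq' : IsFinite (pullback.fst w q) := inferInstance
  let t : Spec W.functionField ⟶ pullback w q :=
    pullback.lift (W.fromSpecStalk (genericPoint W)) γ₀ (by rw [← hγ, ← hγ₀, Category.assoc])
  obtain ⟨s', hs', hs''⟩ := Groth.Agent.Ega2.Normal.exists_section_of_functionField_section hW
    (pullback.fst w q) t (pullback.lift_fst _ _ _)
  refine ⟨s' ≫ pullback.snd w q ≫ G.fromSpecResidueField p, ?_, ?_⟩
  · rw [Category.assoc, Category.assoc]
    change s' ≫ pullback.snd w q ≫ q = w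
    rw [← pullback.condition, reassoc_of% hs']
  · rw [reassoc_of% hs'']
    rw [← hγ₀]
    exact pullback.lift_snd_assoc _ _ _ _

/-- Two morphisms over a reduced scheme étale over an integral scheme which agree at the points over the generic point
agree. -/
theorem eq_of_generic {S T X : Scheme.{u}} [IsIntegral S] (f : T ⟶ S) [Etale f] (g : X ⟶ S) [IsSeparated g]
    (a b : T ⟶ X) (hab : a ≫ g = b ≫ g)
    (h : ∀ t : T, f t = genericPoint S → T.fromSpecResidueField t ≫ a = T.fromSpecResidueField t ≫ b) :
    a = b := by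
  have hred : IsReduced T := Groth.Agent.Etcore.SmoothRed.isReduced_of_smooth f
  let U : {t : T // f t = genericPoint S} → Scheme.{u} := fun t => Spec (T.residueField t.1)
  let ι : (∐ U) ⟶ T := Sigma.desc fun t => T.fromSpecResidueField t.1
  have hι : IsDominant ι := by
    refine ⟨?_⟩
    have h1 : f ⁻¹' {genericPoint S} ⊆ Set.range ι := by
      intro t ht
      refine ⟨Sigma.ι U ⟨t, ht⟩ (IsLocalRing.closedPoint _), ?_⟩
      rw [← Scheme.Hom.comp_apply]
      have : Sigma.ι U ⟨t, ht⟩ ≫ ι = T.fromSpecResidueField t := Sigma.ι_desc _ _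
      rw [this]
      exact Scheme.fromSpecResidueField_apply t _
    have h2 : Dense ({genericPoint S} : Set S) := by
      rw [dense_iff_closure_eq]
      exact (genericPoint_spec S)
    exact (h2.preimage f.isOpenMap).mono h1
  refine ext_of_isDominant_of_isSeparated g hab ι ?_
  apply Sigma.hom_ext
  intro t
  have : Sigma.ι U t ≫ ι = T.fromSpecResidueField t.1 := Sigma.ι_desc _ _
  rw [reassoc_of% this, reassoc_of% this]
  exact h t.1 t.2

section Torsor

open MonoidalCategory CartesianMonoidalCategory MonObj GrpObj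
open Groth.Agent.Books.BorelOrb K551.Tors

variable {S T : Scheme.{u}} [IsIntegral S]

/-- Open subschemes of normal schemes are normal. -/
theorem isNormalScheme_of_isOpenImmersion {X Y : Scheme.{u}} (f : X ⟶ Y) [IsOpenImmersion f]
    (hY : Pi1.IsNormalScheme Y) : Pi1.IsNormalScheme X := by
  intro x
  obtain ⟨h1, h2⟩ := hY (f x)
  let e : Y.presheaf.stalk (f x) ≃+* X.presheaf.stalk x :=
    (asIso (f.stalkMap x)).commRingCatIsoToRingEquiv
  exact ⟨e.symm.toMulEquiv.isDomain _, IsIntegrallyClosed.of_equiv e⟩

/-- The spectrum of a normal domain is a normal scheme. -/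
theorem isNormalScheme_spec (A : CommRingCat.{u}) [IsDomain A] [IsIntegrallyClosed A] :
    Pi1.IsNormalScheme (Spec A) := by
  intro x
  have hx : x.asIdeal.IsPrime := x.isPrime
  let _ : Algebra A ((Spec A).presheaf.stalk x) := StructureSheaf.stalkAlgebra A x
  have h1 : IsLocalization.AtPrime ((Spec A).presheaf.stalk x) x.asIdeal :=
    StructureSheaf.IsLocalization.to_stalk A x
  have h2 : IsDomain ((Spec A).presheaf.stalk x) :=
    IsLocalization.isDomain_of_atPrime _ x.asIdeal
  exact ⟨h2, isIntegrallyClosed_of_isLocalization _ x.asIdeal.primeCompl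
    x.asIdeal.primeCompl_le_nonZeroDivisors⟩

/-- Local chart data: an open subscheme of `T` étale over `S`, integral and normal, around a point. -/
theorem exists_chart (hS : Pi1.IsNormalScheme S) (f : T ⟶ S) [Etale f] (t : T) :
    ∃ W : T.Opens, t ∈ W ∧ IsIntegral (W : Scheme.{u}) ∧ Pi1.IsNormalScheme (W : Scheme.{u}) := by
  obtain ⟨W, htW, hW, hdom, hcl⟩ :=
    Groth.Agent.Etcore.NormalEtaleScheme.exists_affine_nhd_isDomain (fun x => (hS x).2) f t
  have : IsAffine (W : Scheme.{u}) := hW
  let e : Γ((W : Scheme.{u}), ⊤) ≃+* Γ(T, W) := W.topIso.commRingCatIsoToRingEquiv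
  have h1 : IsDomain Γ((W : Scheme.{u}), ⊤) := e.toMulEquiv.isDomain _
  have h2 : IsIntegrallyClosed Γ((W : Scheme.{u}), ⊤) := IsIntegrallyClosed.of_equiv e.symm
  have : Nonempty (W : Scheme.{u}) := ⟨⟨t, htW⟩⟩
  exact ⟨W, htW, isIntegral_of_isAffine_of_isDomain _,
    isNormalScheme_of_isOpenImmersion (W : Scheme.{u}).isoSpec.hom (isNormalScheme_spec _)⟩

/-- the generic point of a nonempty irreducible scheme open (e.g. étale) over an irreducible scheme maps to the
generic point -/
theorem map_genericPoint {W : Scheme.{u}} [IsIntegral W] (f : W ⟶ S) (hf : IsOpenMap f) :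
    f (genericPoint W) = genericPoint S := by
  have h1 : genericPoint S ∈ Set.range f := by
    refine ((genericPoint_spec S).mem_open_set_iff hf.isOpen_range).mpr ?_
    exact ⟨f (genericPoint W), trivial, Set.mem_range_self _⟩
  obtain ⟨w, hw⟩ := h1
  have h2 : f (genericPoint W) ⤳ genericPoint S := by
    rw [← hw]
    exact (genericPoint_specializes w).map f.continuous
  exact ((genericPoint_specializes _).antisymm h2).eq.symm

/-- A point of an integral scheme étale over `S` above the generic point is the generic point. -/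
theorem eq_genericPoint {W : Scheme.{u}} [IsIntegral W] (f : W ⟶ S) [Etale f] (w : W)
    (hw : f w = genericPoint S) : w = genericPoint W := by
  have := locallyQuasiFinite_of_etale f
  have h1 := f.isDiscrete_preimage_singleton (genericPoint S)
  have h2 : f (genericPoint W) = genericPoint S := map_genericPoint f f.isOpenMap
  have h3 : genericPoint W ⤳ w := genericPoint_specializes w
  let a : (f ⁻¹' {genericPoint S} : Set W) := ⟨genericPoint W, h2⟩
  let b : (f ⁻¹' {genericPoint S} : Set W) := ⟨w, hw⟩
  have h4 : a ⤳ b := by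
    exact Topology.IsInducing.subtypeVal.specializes_iff.1 h3
  have : DiscreteTopology (f ⁻¹' {genericPoint S} : Set W) := h1.to_subtype
  have h5 : a = b := h4.eq
  exact (congrArg Subtype.val h5).symm

section Main

variable {k : Type u} [Field k] {G : Over (Spec (CommRingCat.of k))} [GrpObj G] [Etale G.hom]
  (s : S ⟶ Spec (CommRingCat.of k)) {X : Over S} {a : AlgGrp.Action (Red.bc s G) X}

/-- Local extension of a generic point of an étale torsor on an integral normal étale chart carrying a section. -/
theorem exists_local (ha : NonAbH1.IsPseudoTorsorSch a)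
    (x : Spec (S.residueField (genericPoint S)) ⟶ X.left)
    (hx : x ≫ X.hom = S.fromSpecResidueField (genericPoint S))
    {W : Scheme.{u}} [IsIntegral W] (hW : Pi1.IsNormalScheme W) (f : W ⟶ S) [Etale f]
    (y : Over.mk f ⟶ X) :
    ∃ (τ : Over.mk f ⟶ X) (h' : Spec W.functionField ⟶ Spec (S.residueField (genericPoint S))),
      h' ≫ S.fromSpecResidueField (genericPoint S) = W.fromSpecStalk (genericPoint W) ≫ f ∧
      W.fromSpecStalk (genericPoint W) ≫ τ.left = h' ≫ x := by
  obtain ⟨h', hh'⟩ := exists_factor (K := W.functionField) (W.fromSpecStalk (genericPoint W) ≫ f)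
    (genericPoint S) (by
      rw [Scheme.Hom.comp_apply]
      have : W.fromSpecStalk (genericPoint W) (IsLocalRing.closedPoint W.functionField) = genericPoint W :=
        Scheme.fromSpecStalk_closedPoint
      rw [this]
      exact map_genericPoint f f.isOpenMap)
  let T₀ : Over S := Over.mk (W.fromSpecStalk (genericPoint W) ≫ f)
  let j : T₀ ⟶ Over.mk f := Over.homMk (W.fromSpecStalk (genericPoint W)) rfl
  let x' : T₀ ⟶ X := Over.homMk (h' ≫ x) (by rw [Category.assoc, hx, hh']; rfl)
  let δ : T₀ ⟶ Red.bc s G := dif ha x' (j ≫ y)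
  let γ : Spec W.functionField ⟶ G.left := δ.left ≫ pullback.fst G.hom s
  have hδ : δ.left ≫ pullback.snd G.hom s = W.fromSpecStalk (genericPoint W) ≫ f := Over.w δ
  obtain ⟨γ', hγ1, hγ2⟩ := exists_extend_fieldPoint G.hom hW (f ≫ s) γ (by
    rw [Category.assoc, pullback.condition, reassoc_of% hδ])
  let δ' : Over.mk f ⟶ Red.bc s G := Over.homMk (pullback.lift γ' f hγ1) (pullback.lift_snd _ _ _)
  have hjδ : j ≫ δ' = δ := by
    apply Over.OverMorphism.ext
    apply pullback.hom_ext
    · exact (Category.assoc _ _ _).trans ((congrArg _ (pullback.lift_fst _ _ _)).trans hγ2)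
    · exact (Category.assoc _ _ _).trans ((congrArg _ (pullback.lift_snd _ _ _)).trans hδ.symm)
  refine ⟨sm a δ' y, h', hh', ?_⟩
  have h1 : j ≫ sm a δ' y = x' := by
    rw [comp_sm, hjδ]
    exact sm_dif ha x' (j ≫ y)
  exact congrArg (fun m => m.left) h1

/-- **Points of an étale torsor at the generic point of a normal integral scheme extend to sections.** -/
theorem exists_section_extending (hS : Pi1.IsNormalScheme S)
    (ha : NonAbH1.IsTorsorFor Scheme.fppfPrecoverage a)
    (x : Spec (S.residueField (genericPoint S)) ⟶ X.left)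
    (hx : x ≫ X.hom = S.fromSpecResidueField (genericPoint S)) :
    ∃ σ : S ⟶ X.left, σ ≫ X.hom = 𝟙 S ∧ S.fromSpecResidueField (genericPoint S) ≫ σ = x := by
  have hGs : IsSeparated G.hom := Groth.Agent.Books.AntiAffine.isSeparated_hom G
  have hGs' : IsSeparated (Red.bc s G).hom := inferInstanceAs (IsSeparated (pullback.snd G.hom s))
  have hGe' : Etale (Red.bc s G).hom := inferInstanceAs (Etale (pullback.snd G.hom s))
  have hEt : Etale X.hom := etale_of_torsor ha
  have hSep : IsSeparated X.hom := isSeparated_of_torsor ha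
  have hSurj : Surjective X.hom := surjective_of_torsor ha
  choose W htW hWi hWn using fun t : X.left => exists_chart hS X.hom t
  let V : X.left → Scheme.{u} := fun t => (W t : Scheme.{u})
  let f : ∀ t, V t ⟶ S := fun t => (W t).ι ≫ X.hom
  have hf : ∀ t, Etale (f t) := fun t => inferInstance
  have hVi : ∀ t, IsIntegral (V t) := hWi
  choose τ h' hh' hτ using fun t => exists_local s ha.1 x hx (hWn t) (f t) (Over.homMk (W t).ι rfl)
  let c : (∐ V) ⟶ S := Sigma.desc f
  let σ₀ : (∐ V) ⟶ X.left := Sigma.desc fun t => (τ t).left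
  have hσ₀ : σ₀ ≫ X.hom = c := by
    apply Sigma.hom_ext
    intro t
    have h1 : Sigma.ι V t ≫ σ₀ = (τ t).left := Sigma.ι_desc _ _
    have h2 : Sigma.ι V t ≫ c = f t := Sigma.ι_desc _ _
    rw [reassoc_of% h1, h2]
    exact Over.w (τ t)
  have hc : Etale c := IsZariskiLocalAtSource.sigmaDesc hf
  have hcs : Surjective c := by
    apply Surjective.sigmaDesc_of_union_range_eq_univ
    rw [Set.eq_univ_iff_forall]
    intro z
    obtain ⟨t, ht⟩ := hSurj.surj z
    refine Set.mem_iUnion.2 ⟨t, ⟨t, htW t⟩, ?_⟩
    rw [← ht]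
    rfl
  -- the key property of `σ₀`
  have key : ∀ (K : Type u) [Field K] (p : Spec (CommRingCat.of K) ⟶ ∐ V)
      (p' : Spec (CommRingCat.of K) ⟶ Spec (S.residueField (genericPoint S)))
      (_ : p ≫ c = p' ≫ S.fromSpecResidueField (genericPoint S)), p ≫ σ₀ = p' ≫ x := by
    intro K _ p p' hp
    obtain ⟨t, z, hz⟩ := (sigmaOpenCover V).exists_eq (p (IsLocalRing.closedPoint K))
    have hz' : Sigma.ι V t z = p (IsLocalRing.closedPoint K) := hz
    let p₁ : Spec (CommRingCat.of K) ⟶ V t := IsOpenImmersion.lift (Sigma.ι V t) p (by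
      rintro _ ⟨y, rfl⟩
      have : y = IsLocalRing.closedPoint K := Subsingleton.elim _ _
      rw [this, ← hz']
      exact Set.mem_range_self _)
    have hp₁ : p₁ ≫ Sigma.ι V t = p := IsOpenImmersion.lift_fac _ _ _
    have hcι : Sigma.ι V t ≫ c = f t := Sigma.ι_desc _ _
    have h1 : p₁ ≫ f t = p' ≫ S.fromSpecResidueField (genericPoint S) := by
      rw [← hp, ← hp₁, Category.assoc, hcι]
    have h2 : f t (p₁ (IsLocalRing.closedPoint K)) = genericPoint S := by
      rw [← Scheme.Hom.comp_apply, h1, Scheme.Hom.comp_apply]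
      exact Scheme.fromSpecResidueField_apply _ _
    have h3 := eq_genericPoint (f t) _ h2
    obtain ⟨p₂, hp₂⟩ := exists_factor p₁ (genericPoint (V t)) h3
    let p₃ : Spec (CommRingCat.of K) ⟶ Spec (V t).functionField :=
      p₂ ≫ Spec.map ((V t).residue (genericPoint (V t)))
    have hp₃ : p₃ ≫ (V t).fromSpecStalk (genericPoint (V t)) = p₁ := by
      rw [← hp₂, Category.assoc]
      rfl
    have h4 : p₃ ≫ h' t = p' := by
      rw [← cancel_mono (S.fromSpecResidueField (genericPoint S)), Category.assoc, hh', ← h1]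
      exact (Category.assoc _ _ _).symm.trans (congrArg (· ≫ f t) hp₃)
    have hσι : Sigma.ι V t ≫ σ₀ = (τ t).left := Sigma.ι_desc _ _
    rw [← hp₁, Category.assoc, hσι, ← h4, Category.assoc]
    refine Eq.trans (congrArg (· ≫ (τ t).left) hp₃.symm) ((Category.assoc _ _ _).trans ?_)
    exact congrArg (p₃ ≫ ·) (hτ t)
  have hagree : ∀ {Z : Scheme.{u}} (g₁ g₂ : Z ⟶ ∐ V), g₁ ≫ c = g₂ ≫ c → g₁ ≫ σ₀ = g₂ ≫ σ₀ := by
    intro Z g₁ g₂ hg
    have h1 : pullback.fst c c ≫ σ₀ = pullback.snd c c ≫ σ₀ := by
      refine eq_of_generic (pullback.fst c c ≫ c) X.hom _ _ (by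
        rw [Category.assoc, Category.assoc, hσ₀, pullback.condition]) ?_
      intro z hz
      obtain ⟨p', hp'⟩ := exists_factor (K := (pullback c c).residueField z)
        ((pullback c c).fromSpecResidueField z ≫ pullback.fst c c ≫ c) (genericPoint S) (by
          rw [Scheme.Hom.comp_apply]
          have : (pullback c c).fromSpecResidueField z
            (IsLocalRing.closedPoint ((pullback c c).residueField z)) = z :=
            Scheme.fromSpecResidueField_apply z _
          rw [this]
          exact hz)
      have e1 := key ((pullback c c).residueField z) ((pullback c c).fromSpecResidueField z ≫ pullback.fst c c) p'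
        (by rw [hp', Category.assoc])
      have e2 := key ((pullback c c).residueField z) ((pullback c c).fromSpecResidueField z ≫ pullback.snd c c) p'
        (by rw [hp', Category.assoc, pullback.condition])
      rw [← Category.assoc, ← Category.assoc, e1, e2]
    have h2 := congrArg (pullback.lift g₁ g₂ hg ≫ ·) h1
    exact (pullback.lift_fst_assoc _ _ _ _).symm.trans (h2.trans (pullback.lift_snd_assoc _ _ _ _))
  let σ : S ⟶ X.left := EffectiveEpi.desc c σ₀ hagree
  have hσ : c ≫ σ = σ₀ := EffectiveEpi.fac c σ₀ hagree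
  have hσS : σ ≫ X.hom = 𝟙 S := by
    rw [← cancel_epi c, reassoc_of% hσ, hσ₀, Category.comp_id]
  refine ⟨σ, hσS, ?_⟩
  obtain ⟨t, -⟩ := hSurj.surj (genericPoint S)
  have hdom : IsDominant (h' t) := by
    refine ⟨?_⟩
    have : Function.Surjective (h' t) := fun y => ⟨IsLocalRing.closedPoint (V t).functionField, by
      have : Subsingleton (Spec (S.residueField (genericPoint S))) :=
        inferInstanceAs (Subsingleton (PrimeSpectrum (S.residueField (genericPoint S))))
      exact Subsingleton.elim _ _⟩
    exact this.denseRange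
  refine ext_of_isDominant_of_isSeparated X.hom ?_ (h' t) ?_
  · rw [Category.assoc, hσS, hx, Category.comp_id]
  · rw [reassoc_of% (hh' t)]
    have hcι : Sigma.ι V t ≫ c = f t := Sigma.ι_desc _ _
    have hσι : Sigma.ι V t ≫ σ₀ = (τ t).left := Sigma.ι_desc _ _
    rw [← hcι, Category.assoc, hσ, hσι, hτ]

omit [Etale G.hom] in
/-- Sections of an étale torsor over an integral scheme which agree at the generic point agree. -/
theorem section_unique (ha : NonAbH1.IsTorsorFor Scheme.fppfPrecoverage a)
    (σ₁ σ₂ : S ⟶ X.left) (h₁ : σ₁ ≫ X.hom = 𝟙 S) (h₂ : σ₂ ≫ X.hom = 𝟙 S)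
    (h : S.fromSpecResidueField (genericPoint S) ≫ σ₁ = S.fromSpecResidueField (genericPoint S) ≫ σ₂) :
    σ₁ = σ₂ := by
  have hGs : IsSeparated G.hom := Groth.Agent.Books.AntiAffine.isSeparated_hom G
  have hGs' : IsSeparated (Red.bc s G).hom := inferInstanceAs (IsSeparated (pullback.snd G.hom s))
  have hSep : IsSeparated X.hom := isSeparated_of_torsor ha
  refine eq_of_generic (𝟙 S) X.hom σ₁ σ₂ (h₁.trans h₂.symm) ?_
  intro t ht
  have ht' : t = genericPoint S := ht
  subst ht'
  exact h

end Main

end Torsor

end K551.EtExt
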