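import Mathlib.RingTheory.Flat.Basic
import Mathlib.RingTheory.Flat.Localization
import Mathlib.RingTheory.TensorProduct.Basic
import Mathlib.RingTheory.Localization.Away.Basic
import Mathlib.AlgebraicGeometry.QuasiAffine
import Mathlib.AlgebraicGeometry.Morphisms.Flat
import Mathlib.AlgebraicGeometry.Limits
import Mathlib.AlgebraicGeometry.PullbackCarrier

/-!
# Glueing morphisms out of flat schemes along squares of rings `A → A₁, A₂ → A₃` with `0 → A → A₁ × A₂ → A₃` exact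
-/

set_option autoImplicit false
universe u

open CategoryTheory CategoryTheory.Limits AlgebraicGeometry TensorProduct

namespace K551.FlatGlue

section Alg

variable {A A₁ A₂ A₃ : Type u} [CommRing A] [CommRing A₁] [CommRing A₂] [CommRing A₃]
  [Algebra A A₁] [Algebra A A₂] [Algebra A A₃]

/-- The exactness of `0 → A → A₁ × A₂ → A₃`. -/
structure Exact₂ (g₁ : A₁ →ₐ[A] A₃) (g₂ : A₂ →ₐ[A] A₃) : Prop where
  inj : ∀ a : A, algebraMap A A₁ a = 0 → algebraMap A A₂ a = 0 → a = 0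
  ex : ∀ a₁ a₂, g₁ a₁ = g₂ a₂ → ∃ a : A, algebraMap A A₁ a = a₁ ∧ algebraMap A A₂ a = a₂

variable (C : Type u) [CommRing C] [Algebra A C] [Module.Flat A C]

theorem Exact₂.tensor {g₁ : A₁ →ₐ[A] A₃} {g₂ : A₂ →ₐ[A] A₃} (h : Exact₂ g₁ g₂) :
    (∀ c : C, (c ⊗ₜ[A] (1 : A₁) = 0) → (c ⊗ₜ[A] (1 : A₂) = 0) → c = 0) ∧
    (∀ (c₁ : C ⊗[A] A₁) (c₂ : C ⊗[A] A₂), g₁.toLinearMap.lTensor C c₁ = g₂.toLinearMap.lTensor C c₂ →
      ∃ c : C, c ⊗ₜ[A] (1 : A₁) = c₁ ∧ c ⊗ₜ[A] (1 : A₂) = c₂) := by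
  let i : A →ₗ[A] A₁ × A₂ := (Algebra.linearMap A A₁).prod (Algebra.linearMap A A₂)
  let p : A₁ × A₂ →ₗ[A] A₃ := g₁.toLinearMap.coprod (-g₂.toLinearMap)
  have hi : Function.Injective i := by
    rw [injective_iff_map_eq_zero]
    intro a ha
    exact h.inj a (congrArg Prod.fst ha) (congrArg Prod.snd ha)
  have hip : Function.Exact i p := by
    rintro ⟨a₁, a₂⟩
    constructor
    · intro hp
      have : g₁ a₁ = g₂ a₂ := by
        have h1 : g₁ a₁ + -g₂ a₂ = 0 := hp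
        rwa [← sub_eq_add_neg, sub_eq_zero] at h1
      obtain ⟨a, h1, h2⟩ := h.ex a₁ a₂ this
      exact ⟨a, Prod.ext h1 h2⟩
    · rintro ⟨a, ha⟩
      rw [← ha]
      change g₁ (algebraMap A A₁ a) + -g₂ (algebraMap A A₂ a) = 0
      rw [AlgHom.commutes, AlgHom.commutes, add_neg_cancel]
  have hi' : Function.Injective (i.lTensor C) := Module.Flat.lTensor_preserves_injective_linearMap i hi
  have hip' : Function.Exact (i.lTensor C) (p.lTensor C) := Module.Flat.lTensor_exact C hip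
  have key1 : ∀ x : C ⊗[A] (A₁ × A₂), p.lTensor C x =
      g₁.toLinearMap.lTensor C ((TensorProduct.prodRight A A C A₁ A₂ x).1) -
      g₂.toLinearMap.lTensor C ((TensorProduct.prodRight A A C A₁ A₂ x).2) := by
    intro x
    induction x with
    | zero => simp
    | add x y hx hy =>
      rw [map_add, map_add, Prod.fst_add, Prod.snd_add, map_add, map_add, hx, hy]
      abel
    | tmul c a =>
      obtain ⟨a₁, a₂⟩ := a
      simp only [LinearMap.lTensor_tmul, prodRight_tmul]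
      change c ⊗ₜ[A] (g₁ a₁ + -g₂ a₂) = _
      rw [← sub_eq_add_neg, tmul_sub]
      rfl
  have key2 : ∀ c : C, TensorProduct.prodRight A A C A₁ A₂ (i.lTensor C (c ⊗ₜ[A] (1 : A))) =
      (c ⊗ₜ[A] (1 : A₁), c ⊗ₜ[A] (1 : A₂)) := by
    intro c
    rw [LinearMap.lTensor_tmul]
    change TensorProduct.prodRight A A C A₁ A₂ (c ⊗ₜ[A] (algebraMap A A₁ 1, algebraMap A A₂ 1)) = _
    rw [map_one, map_one, prodRight_tmul]
  constructor
  · intro c h1 h2
    have h3 : i.lTensor C (c ⊗ₜ[A] (1 : A)) = 0 := by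
      apply (TensorProduct.prodRight A A C A₁ A₂).injective
      rw [key2, map_zero, h1, h2]
      rfl
    have h4 : c ⊗ₜ[A] (1 : A) = 0 := hi' (by rw [h3, map_zero])
    have h5 := congrArg (TensorProduct.rid A C) h4
    rwa [TensorProduct.rid_tmul, one_smul, map_zero] at h5
  · intro c₁ c₂ h12
    let x := (TensorProduct.prodRight A A C A₁ A₂).symm (c₁, c₂)
    have hx : TensorProduct.prodRight A A C A₁ A₂ x = (c₁, c₂) := LinearEquiv.apply_symm_apply _ _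
    have h1 : p.lTensor C x = 0 := by
      rw [key1, hx]
      change g₁.toLinearMap.lTensor C c₁ - g₂.toLinearMap.lTensor C c₂ = 0
      rw [h12, sub_self]
    obtain ⟨y, hy⟩ := (hip' x).1 h1
    refine ⟨TensorProduct.rid A C y, ?_⟩
    have h2 := key2 (TensorProduct.rid A C y)
    have h3 : (TensorProduct.rid A C y) ⊗ₜ[A] (1 : A) = y := by
      rw [← TensorProduct.rid_symm_apply, LinearEquiv.symm_apply_apply]
    rw [h3, hy, hx] at h2
    exact ⟨(congrArg Prod.fst h2).symm, (congrArg Prod.snd h2).symm⟩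

/-- Ring homomorphisms into a flat `A`-algebra `C` glue. -/
theorem Exact₂.exists_ringHom {g₁ : A₁ →ₐ[A] A₃} {g₂ : A₂ →ₐ[A] A₃} (h : Exact₂ g₁ g₂) {D : Type u} [CommRing D]
    (d₁ : D →+* C ⊗[A] A₁) (d₂ : D →+* C ⊗[A] A₂)
    (h12 : ∀ x, Algebra.TensorProduct.map (AlgHom.id A C) g₁ (d₁ x) =
      Algebra.TensorProduct.map (AlgHom.id A C) g₂ (d₂ x)) :
    ∃ d : D →+* C, (∀ x, d₁ x = d x ⊗ₜ[A] 1) ∧ ∀ x, d₂ x = d x ⊗ₜ[A] 1 := by
  obtain ⟨hi, he⟩ := h.tensor C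
  have h1 : ∀ x : D, ∃ c : C, c ⊗ₜ[A] (1 : A₁) = d₁ x ∧ c ⊗ₜ[A] (1 : A₂) = d₂ x := fun x =>
    he (d₁ x) (d₂ x) (h12 x)
  choose d hd1 hd2 using h1
  have hu : ∀ {c c' : C}, c ⊗ₜ[A] (1 : A₁) = c' ⊗ₜ[A] (1 : A₁) → c ⊗ₜ[A] (1 : A₂) = c' ⊗ₜ[A] (1 : A₂) → c = c' := by
    intro c c' h1 h2
    rw [← sub_eq_zero]
    apply hi
    · rw [sub_tmul, h1, sub_self]
    · rw [sub_tmul, h2, sub_self]
  refine ⟨⟨⟨⟨d, ?_⟩, ?_⟩, ?_, ?_⟩, fun x => (hd1 x).symm, fun x => (hd2 x).symm⟩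
  · apply hu
    · rw [hd1, map_one]; rfl
    · rw [hd2, map_one]; rfl
  · intro x y
    apply hu
    · rw [hd1, map_mul, ← hd1, ← hd1, Algebra.TensorProduct.tmul_mul_tmul, one_mul]
    · rw [hd2, map_mul, ← hd2, ← hd2, Algebra.TensorProduct.tmul_mul_tmul, one_mul]
  · apply hu
    · change d 0 ⊗ₜ[A] (1 : A₁) = _
      rw [hd1, map_zero, zero_tmul]
    · change d 0 ⊗ₜ[A] (1 : A₂) = _
      rw [hd2, map_zero, zero_tmul]
  · intro x y
    apply hu
    · change d (x + y) ⊗ₜ[A] (1 : A₁) = (d x + d y) ⊗ₜ[A] 1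
      rw [hd1, map_add, add_tmul, hd1, hd1]
    · change d (x + y) ⊗ₜ[A] (1 : A₂) = (d x + d y) ⊗ₜ[A] 1
      rw [hd2, map_add, add_tmul, hd2, hd2]

end Alg

section Sch

variable {A A₁ A₂ A₃ : Type u} [CommRing A] [CommRing A₁] [CommRing A₂] [CommRing A₃]
  [Algebra A A₁] [Algebra A A₂] [Algebra A A₃] {g₁ : A₁ →ₐ[A] A₃} {g₂ : A₂ →ₐ[A] A₃}

/-- `Spec` of the structure map of an algebra. -/
noncomputable abbrev sp (R S : Type u) [CommRing R] [CommRing S] [Algebra R S] :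
    Spec (CommRingCat.of S) ⟶ Spec (CommRingCat.of R) := Spec.map (CommRingCat.ofHom (algebraMap R S))

/-- `Spec` of an algebra homomorphism. -/
noncomputable abbrev spHom {R S T : Type u} [CommRing R] [CommRing S] [CommRing T] [Algebra R S] [Algebra R T]
    (g : S →ₐ[R] T) : Spec (CommRingCat.of T) ⟶ Spec (CommRingCat.of S) := Spec.map (CommRingCat.ofHom g.toRingHom)

lemma spHom_sp {R S T : Type u} [CommRing R] [CommRing S] [CommRing T] [Algebra R S] [Algebra R T]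
    (g : S →ₐ[R] T) : spHom g ≫ sp R S = sp R T := by
  rw [← Spec.map_comp]
  congr 1
  ext x
  exact g.commutes x

/-- uniqueness, affine source. -/
lemma eq_of_eq_affine (h : Exact₂ g₁ g₂) {C : Type u} [CommRing C] [Algebra A C] [Module.Flat A C] {Q : Scheme.{u}}
    [IsAffine Q] (f f' : Spec (CommRingCat.of C) ⟶ Q)
    (h1 : ∀ (T : Scheme.{u}) (a : T ⟶ Spec (CommRingCat.of C)) (b : T ⟶ Spec (CommRingCat.of A₁)),
      a ≫ sp A C = b ≫ sp A A₁ → a ≫ f = a ≫ f')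
    (h2 : ∀ (T : Scheme.{u}) (a : T ⟶ Spec (CommRingCat.of C)) (b : T ⟶ Spec (CommRingCat.of A₂)),
      a ≫ sp A C = b ≫ sp A A₂ → a ≫ f = a ≫ f') : f = f' := by
  rw [← cancel_mono Q.isoSpec.hom]
  obtain ⟨d, hd⟩ := Spec.map_surjective (f ≫ Q.isoSpec.hom)
  obtain ⟨d', hd'⟩ := Spec.map_surjective (f' ≫ Q.isoSpec.hom)
  rw [← hd, ← hd']
  congr 1
  have key : ∀ (A' : Type u) [CommRing A'] [Algebra A A'], (∀ (T : Scheme.{u}) (a : T ⟶ Spec (CommRingCat.of C))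
      (b : T ⟶ Spec (CommRingCat.of A')), a ≫ sp A C = b ≫ sp A A' → a ≫ f = a ≫ f') →
      ∀ x, d.hom x ⊗ₜ[A] (1 : A') = d'.hom x ⊗ₜ[A] (1 : A') := by
    intro A' _ _ h3 x
    have h4 := h3 (Spec (CommRingCat.of (C ⊗[A] A')))
      (Spec.map (CommRingCat.ofHom Algebra.TensorProduct.includeLeftRingHom))
      (Spec.map (CommRingCat.ofHom (Algebra.TensorProduct.includeRight (R := A) (A := C) (B := A')).toRingHom)) (by
        rw [← Spec.map_comp, ← Spec.map_comp]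
        congr 1
        ext a
        exact Algebra.TensorProduct.tmul_one_eq_one_tmul a)
    have h5 : Spec.map (d ≫ CommRingCat.ofHom (Algebra.TensorProduct.includeLeftRingHom (R := A) (A := C) (B := A'))) =
        Spec.map (d' ≫ CommRingCat.ofHom Algebra.TensorProduct.includeLeftRingHom) := by
      rw [Spec.map_comp, Spec.map_comp, hd, hd', ← Category.assoc, ← Category.assoc, h4]
    exact ConcreteCategory.congr_hom (Spec.map_injective h5) x
  ext x
  rw [← sub_eq_zero]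
  apply (h.tensor C).1
  · rw [sub_tmul, key A₁ h1 x, sub_self]
  · rw [sub_tmul, key A₂ h2 x, sub_self]

/-- uniqueness. -/
theorem eq_of_eq (h : Exact₂ g₁ g₂) {P Q : Scheme.{u}} (p : P ⟶ Spec (CommRingCat.of A)) [Flat p]
    [IsAffine Q] (f f' : P ⟶ Q)
    (h1 : ∀ (T : Scheme.{u}) (a : T ⟶ P) (b : T ⟶ Spec (CommRingCat.of A₁)), a ≫ p = b ≫ sp A A₁ → a ≫ f = a ≫ f')
    (h2 : ∀ (T : Scheme.{u}) (a : T ⟶ P) (b : T ⟶ Spec (CommRingCat.of A₂)), a ≫ p = b ≫ sp A A₂ → a ≫ f = a ≫ f') :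
    f = f' := by
  refine P.affineOpenCover.openCover.hom_ext _ _ fun i => ?_
  obtain ⟨φ, hφ⟩ := Spec.map_surjective (P.affineOpenCover.f i ≫ p)
  have hfl : Flat (Spec.map φ) := by rw [hφ]; infer_instance
  have hfl' : φ.hom.Flat := (HasRingHomProperty.Spec_iff (P := @Flat)).1 hfl
  let _ : Algebra A (P.affineOpenCover.X i) := φ.hom.toAlgebra
  have : Module.Flat A (P.affineOpenCover.X i) := hfl'
  have e : sp A (P.affineOpenCover.X i) = P.affineOpenCover.f i ≫ p := hφ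
  refine eq_of_eq_affine h (C := P.affineOpenCover.X i) _ _ (fun T a b hab => ?_) (fun T a b hab => ?_)
  · rw [e] at hab
    have := h1 T (a ≫ P.affineOpenCover.f i) b (by rw [Category.assoc]; exact hab)
    rw [Category.assoc, Category.assoc] at this
    exact this
  · rw [e] at hab
    have := h2 T (a ≫ P.affineOpenCover.f i) b (by rw [Category.assoc]; exact hab)
    rw [Category.assoc, Category.assoc] at this
    exact this

/-- existence, affine source. -/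
lemma exists_glue_affine (h : Exact₂ g₁ g₂) {C : Type u} [CommRing C] [Algebra A C] [Module.Flat A C]
    {Q : Scheme.{u}} [IsAffine Q] (u₁ : pullback (sp A C) (sp A A₁) ⟶ Q) (u₂ : pullback (sp A C) (sp A A₂) ⟶ Q)
    (h12 : ∀ (T : Scheme.{u}) (a : T ⟶ Spec (CommRingCat.of C)) (b : T ⟶ Spec (CommRingCat.of A₃))
      (w1 : a ≫ sp A C = (b ≫ spHom g₁) ≫ sp A A₁) (w2 : a ≫ sp A C = (b ≫ spHom g₂) ≫ sp A A₂),
      pullback.lift a (b ≫ spHom g₁) w1 ≫ u₁ = pullback.lift a (b ≫ spHom g₂) w2 ≫ u₂) :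
    ∃ f : Spec (CommRingCat.of C) ⟶ Q, pullback.fst _ _ ≫ f = u₁ ∧ pullback.fst _ _ ≫ f = u₂ := by
  obtain ⟨d₁, hd₁⟩ := Spec.map_surjective ((pullbackSpecIso A C A₁).inv ≫ u₁ ≫ Q.isoSpec.hom)
  obtain ⟨d₂, hd₂⟩ := Spec.map_surjective ((pullbackSpecIso A C A₂).inv ≫ u₂ ≫ Q.isoSpec.hom)
  have e1 : ∀ (A' : Type u) [CommRing A'] [Algebra A A'] (g : A' →ₐ[A] A₃)
      (w : Spec.map (CommRingCat.ofHom (Algebra.TensorProduct.includeLeftRingHom (R := A) (A := C) (B := A₃))) ≫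
        sp A C = (Spec.map (CommRingCat.ofHom
          (Algebra.TensorProduct.includeRight (R := A) (A := C) (B := A₃)).toRingHom) ≫ spHom g) ≫ sp A A'),
      pullback.lift _ _ w = Spec.map (CommRingCat.ofHom
        (Algebra.TensorProduct.map (AlgHom.id A C) g).toRingHom) ≫ (pullbackSpecIso A C A').inv := by
    intro A' _ _ g w
    apply pullback.hom_ext
    · rw [pullback.lift_fst, Category.assoc, pullbackSpecIso_inv_fst, ← Spec.map_comp]
      congr 1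
      ext x
      change x ⊗ₜ[A] (1 : A₃) = Algebra.TensorProduct.map (AlgHom.id A C) g (x ⊗ₜ[A] (1 : A'))
      rw [Algebra.TensorProduct.map_tmul, map_one]
      rfl
    · rw [pullback.lift_snd, Category.assoc, pullbackSpecIso_inv_snd, ← Spec.map_comp, ← Spec.map_comp]
      congr 1
  have hw : ∀ (A' : Type u) [CommRing A'] [Algebra A A'] (g : A' →ₐ[A] A₃),
      Spec.map (CommRingCat.ofHom (Algebra.TensorProduct.includeLeftRingHom (R := A) (A := C) (B := A₃))) ≫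
        sp A C = (Spec.map (CommRingCat.ofHom
          (Algebra.TensorProduct.includeRight (R := A) (A := C) (B := A₃)).toRingHom) ≫ spHom g) ≫ sp A A' := by
    intro A' _ _ g
    rw [Category.assoc, spHom_sp, ← Spec.map_comp, ← Spec.map_comp]
    congr 1
    ext a
    exact Algebra.TensorProduct.tmul_one_eq_one_tmul a
  have h3 := h12 _ _ _ (hw A₁ g₁) (hw A₂ g₂)
  rw [e1 A₁ g₁, e1 A₂ g₂] at h3
  have h4 : Spec.map (d₁ ≫ CommRingCat.ofHom (Algebra.TensorProduct.map (AlgHom.id A C) g₁).toRingHom) =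
      Spec.map (d₂ ≫ CommRingCat.ofHom (Algebra.TensorProduct.map (AlgHom.id A C) g₂).toRingHom) := by
    rw [Spec.map_comp, Spec.map_comp, hd₁, hd₂]
    simp only [Category.assoc] at h3
    rw [reassoc_of% h3]
  obtain ⟨d, hd, hd'⟩ := h.exists_ringHom C d₁.hom d₂.hom fun x =>
    ConcreteCategory.congr_hom (Spec.map_injective h4) x
  have f1 : ∀ (A' : Type u) [CommRing A'] [Algebra A A'] (u : pullback (sp A C) (sp A A') ⟶ Q)
      (d' : Γ(Q, ⊤) ⟶ CommRingCat.of (C ⊗[A] A')) (_ : Spec.map d' = (pullbackSpecIso A C A').inv ≫ u ≫ Q.isoSpec.hom)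
      (_ : ∀ x, d'.hom x = d x ⊗ₜ[A] (1 : A')),
      pullback.fst _ _ ≫ (Spec.map (CommRingCat.ofHom d) ≫ Q.isoSpec.inv) = u := by
    intro A' _ _ u d' hd1 hd2
    rw [← cancel_mono Q.isoSpec.hom, Category.assoc, Category.assoc, Iso.inv_hom_id, Category.comp_id,
      ← cancel_epi (pullbackSpecIso A C A').inv, ← hd1, pullbackSpecIso_inv_fst_assoc, ← Spec.map_comp]
    congr 1
    ext x
    exact (hd2 x).symm
  exact ⟨Spec.map (CommRingCat.ofHom d) ≫ Q.isoSpec.inv, f1 A₁ u₁ d₁ hd₁ hd, f1 A₂ u₂ d₂ hd₂ hd'⟩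

/-- existence, on an affine chart. -/
lemma exists_glue_chart (h : Exact₂ g₁ g₂) {P Q : Scheme.{u}} (p : P ⟶ Spec (CommRingCat.of A))
    [IsAffine Q] (u₁ : pullback p (sp A A₁) ⟶ Q) (u₂ : pullback p (sp A A₂) ⟶ Q)
    (h12 : ∀ (T : Scheme.{u}) (a : T ⟶ P) (b : T ⟶ Spec (CommRingCat.of A₃))
      (w1 : a ≫ p = (b ≫ spHom g₁) ≫ sp A A₁) (w2 : a ≫ p = (b ≫ spHom g₂) ≫ sp A A₂),
      pullback.lift a (b ≫ spHom g₁) w1 ≫ u₁ = pullback.lift a (b ≫ spHom g₂) w2 ≫ u₂)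
    (X : CommRingCat.{u}) (ι : Spec X ⟶ P) (hι : Flat (ι ≫ p)) :
    ∃ f : Spec X ⟶ Q,
      (∀ (T : Scheme.{u}) (a : T ⟶ Spec X) (b : T ⟶ Spec (CommRingCat.of A₁)) (w : (a ≫ ι) ≫ p = b ≫ sp A A₁),
        a ≫ f = pullback.lift (a ≫ ι) b w ≫ u₁) ∧
      (∀ (T : Scheme.{u}) (a : T ⟶ Spec X) (b : T ⟶ Spec (CommRingCat.of A₂)) (w : (a ≫ ι) ≫ p = b ≫ sp A A₂),
        a ≫ f = pullback.lift (a ≫ ι) b w ≫ u₂) := by
  obtain ⟨φ, hφ⟩ := Spec.map_surjective (ι ≫ p)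
  have hfl : Flat (Spec.map φ) := by rw [hφ]; infer_instance
  have hfl' : φ.hom.Flat := (HasRingHomProperty.Spec_iff (P := @Flat)).1 hfl
  let _ : Algebra A X := φ.hom.toAlgebra
  have : Module.Flat A X := hfl'
  have e : sp A X = ι ≫ p := hφ
  have hl : ∀ (A' : Type u) [CommRing A'] [Algebra A A'],
      (pullback.fst (sp A X) (sp A A') ≫ ι) ≫ p = pullback.snd _ _ ≫ sp A A' := by
    intro A' _ _
    rw [Category.assoc, ← e, pullback.condition]
  obtain ⟨f, hf1, hf2⟩ := exists_glue_affine h (C := X) (Q := Q)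
    (pullback.lift (pullback.fst _ _ ≫ ι) (pullback.snd _ _) (hl A₁) ≫ u₁)
    (pullback.lift (pullback.fst _ _ ≫ ι) (pullback.snd _ _) (hl A₂) ≫ u₂) (by
      intro T a b w1 w2
      have w1' : (a ≫ ι) ≫ p = (b ≫ spHom g₁) ≫ sp A A₁ := by
        rw [Category.assoc, ← e]; exact w1
      have w2' : (a ≫ ι) ≫ p = (b ≫ spHom g₂) ≫ sp A A₂ := by
        rw [Category.assoc, ← e]; exact w2
      have e1 : pullback.lift a (b ≫ spHom g₁) w1 ≫ pullback.lift (pullback.fst _ _ ≫ ι) (pullback.snd _ _) (hl A₁) =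
          pullback.lift (a ≫ ι) (b ≫ spHom g₁) w1' := by
        apply pullback.hom_ext
        · rw [Category.assoc, pullback.lift_fst, pullback.lift_fst_assoc, pullback.lift_fst]
        · rw [Category.assoc, pullback.lift_snd, pullback.lift_snd, pullback.lift_snd]
      have e2 : pullback.lift a (b ≫ spHom g₂) w2 ≫ pullback.lift (pullback.fst _ _ ≫ ι) (pullback.snd _ _) (hl A₂) =
          pullback.lift (a ≫ ι) (b ≫ spHom g₂) w2' := by
        apply pullback.hom_ext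
        · rw [Category.assoc, pullback.lift_fst, pullback.lift_fst_assoc, pullback.lift_fst]
        · rw [Category.assoc, pullback.lift_snd, pullback.lift_snd, pullback.lift_snd]
      rw [reassoc_of% e1, reassoc_of% e2]
      exact h12 T _ b w1' w2')
  refine ⟨f, fun T a b w => ?_, fun T a b w => ?_⟩
  · have w' : a ≫ sp A X = b ≫ sp A A₁ := by
      rw [e, ← Category.assoc]; exact w
    have h2 := congrArg (fun z => pullback.lift a b w' ≫ z) hf1
    simp only [pullback.lift_fst_assoc] at h2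
    refine h2.trans ?_
    rw [← Category.assoc]
    congr 1
    apply pullback.hom_ext
    · rw [Category.assoc, pullback.lift_fst, pullback.lift_fst_assoc, pullback.lift_fst]
    · rw [Category.assoc, pullback.lift_snd, pullback.lift_snd, pullback.lift_snd]
  · have w' : a ≫ sp A X = b ≫ sp A A₂ := by
      rw [e, ← Category.assoc]; exact w
    have h2 := congrArg (fun z => pullback.lift a b w' ≫ z) hf2
    simp only [pullback.lift_fst_assoc] at h2
    refine h2.trans ?_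
    rw [← Category.assoc]
    congr 1
    apply pullback.hom_ext
    · rw [Category.assoc, pullback.lift_fst, pullback.lift_fst_assoc, pullback.lift_fst]
    · rw [Category.assoc, pullback.lift_snd, pullback.lift_snd, pullback.lift_snd]

/-- existence. -/
theorem exists_glue (h : Exact₂ g₁ g₂) {P Q : Scheme.{u}} (p : P ⟶ Spec (CommRingCat.of A)) [Flat p]
    [IsAffine Q] (u₁ : pullback p (sp A A₁) ⟶ Q) (u₂ : pullback p (sp A A₂) ⟶ Q)
    (h12 : ∀ (T : Scheme.{u}) (a : T ⟶ P) (b : T ⟶ Spec (CommRingCat.of A₃))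
      (w1 : a ≫ p = (b ≫ spHom g₁) ≫ sp A A₁) (w2 : a ≫ p = (b ≫ spHom g₂) ≫ sp A A₂),
      pullback.lift a (b ≫ spHom g₁) w1 ≫ u₁ = pullback.lift a (b ≫ spHom g₂) w2 ≫ u₂) :
    ∃ f : P ⟶ Q, pullback.fst _ _ ≫ f = u₁ ∧ pullback.fst _ _ ≫ f = u₂ := by
  let 𝒰 : P.OpenCover := P.affineOpenCover.openCover
  have h1 : ∀ i, ∃ f : 𝒰.X i ⟶ Q,
      (∀ (T : Scheme.{u}) (a : T ⟶ 𝒰.X i) (b : T ⟶ Spec (CommRingCat.of A₁)) (w : (a ≫ 𝒰.f i) ≫ p = b ≫ sp A A₁),
        a ≫ f = pullback.lift (a ≫ 𝒰.f i) b w ≫ u₁) ∧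
      (∀ (T : Scheme.{u}) (a : T ⟶ 𝒰.X i) (b : T ⟶ Spec (CommRingCat.of A₂)) (w : (a ≫ 𝒰.f i) ≫ p = b ≫ sp A A₂),
        a ≫ f = pullback.lift (a ≫ 𝒰.f i) b w ≫ u₂) := fun i =>
    exists_glue_chart h p u₁ u₂ h12 (P.affineOpenCover.X i) (P.affineOpenCover.f i) inferInstance
  choose f hf1 hf2 using h1
  have hcompat : ∀ x y, pullback.fst (𝒰.f x) (𝒰.f y) ≫ f x = pullback.snd _ _ ≫ f y := by
    intro x y
    have hfl : Flat (pullback.fst (𝒰.f x) (𝒰.f y) ≫ 𝒰.f x ≫ p) := inferInstance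
    refine eq_of_eq h (pullback.fst (𝒰.f x) (𝒰.f y) ≫ 𝒰.f x ≫ p) _ _ (fun T a b hab => ?_) (fun T a b hab => ?_)
    · have w1 : ((a ≫ pullback.fst (𝒰.f x) (𝒰.f y)) ≫ 𝒰.f x) ≫ p = b ≫ sp A A₁ := by
        simpa only [Category.assoc] using hab
      have w2 : ((a ≫ pullback.snd (𝒰.f x) (𝒰.f y)) ≫ 𝒰.f y) ≫ p = b ≫ sp A A₁ := by
        rw [← w1]; simp only [Category.assoc]; rw [pullback.condition_assoc]
      rw [← Category.assoc, ← Category.assoc, hf1 x T _ b w1, hf1 y T _ b w2]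
      congr 2
      simp only [Category.assoc]
      rw [pullback.condition]
    · have w1 : ((a ≫ pullback.fst (𝒰.f x) (𝒰.f y)) ≫ 𝒰.f x) ≫ p = b ≫ sp A A₂ := by
        simpa only [Category.assoc] using hab
      have w2 : ((a ≫ pullback.snd (𝒰.f x) (𝒰.f y)) ≫ 𝒰.f y) ≫ p = b ≫ sp A A₂ := by
        rw [← w1]; simp only [Category.assoc]; rw [pullback.condition_assoc]
      rw [← Category.assoc, ← Category.assoc, hf2 x T _ b w1, hf2 y T _ b w2]
      congr 2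
      simp only [Category.assoc]
      rw [pullback.condition]
  refine ⟨Scheme.Cover.glueMorphisms 𝒰 f hcompat, ?_, ?_⟩
  · refine Scheme.Cover.hom_ext (𝒰.pullback₁ (pullback.fst p (sp A A₁))) _ _ fun i => ?_
    change pullback.fst (pullback.fst p (sp A A₁)) (𝒰.f i) ≫ _ = pullback.fst (pullback.fst p (sp A A₁)) (𝒰.f i) ≫ _
    rw [pullback.condition_assoc, Scheme.Cover.ι_glueMorphisms]
    have w : (pullback.snd (pullback.fst p (sp A A₁)) (𝒰.f i) ≫ 𝒰.f i) ≫ p =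
        (pullback.fst (pullback.fst p (sp A A₁)) (𝒰.f i) ≫ pullback.snd p (sp A A₁)) ≫ sp A A₁ := by
      rw [← pullback.condition, Category.assoc, Category.assoc, pullback.condition]
    rw [hf1 i _ _ _ w]
    congr 1
    apply pullback.hom_ext
    · rw [pullback.lift_fst, pullback.condition]
    · rw [pullback.lift_snd]
  · refine Scheme.Cover.hom_ext (𝒰.pullback₁ (pullback.fst p (sp A A₂))) _ _ fun i => ?_
    change pullback.fst (pullback.fst p (sp A A₂)) (𝒰.f i) ≫ _ = pullback.fst (pullback.fst p (sp A A₂)) (𝒰.f i) ≫ _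
    rw [pullback.condition_assoc, Scheme.Cover.ι_glueMorphisms]
    have w : (pullback.snd (pullback.fst p (sp A A₂)) (𝒰.f i) ≫ 𝒰.f i) ≫ p =
        (pullback.fst (pullback.fst p (sp A A₂)) (𝒰.f i) ≫ pullback.snd p (sp A A₂)) ≫ sp A A₂ := by
      rw [← pullback.condition, Category.assoc, Category.assoc, pullback.condition]
    rw [hf2 i _ _ _ w]
    congr 1
    apply pullback.hom_ext
    · rw [pullback.lift_fst, pullback.condition]
    · rw [pullback.lift_snd]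

/-- uniqueness with quasi-affine target. -/
theorem eq_of_eq_qa (h : Exact₂ g₁ g₂) {P Q : Scheme.{u}} (p : P ⟶ Spec (CommRingCat.of A)) [Flat p]
    [Q.IsQuasiAffine] (f f' : P ⟶ Q)
    (h1 : ∀ (T : Scheme.{u}) (a : T ⟶ P) (b : T ⟶ Spec (CommRingCat.of A₁)), a ≫ p = b ≫ sp A A₁ → a ≫ f = a ≫ f')
    (h2 : ∀ (T : Scheme.{u}) (a : T ⟶ P) (b : T ⟶ Spec (CommRingCat.of A₂)), a ≫ p = b ≫ sp A A₂ → a ≫ f = a ≫ f') :
    f = f' := by
  rw [← cancel_mono Q.toSpecΓ]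
  refine eq_of_eq h p _ _ (fun T a b hab => ?_) (fun T a b hab => ?_)
  · rw [← Category.assoc, h1 T a b hab, Category.assoc]
  · rw [← Category.assoc, h2 T a b hab, Category.assoc]

/-- existence with quasi-affine target. -/
theorem exists_glue_qa (h : Exact₂ g₁ g₂)
    (hs : ∀ s : Spec (CommRingCat.of A), s ∈ Set.range (sp A A₁) ∨ s ∈ Set.range (sp A A₂))
    {P Q : Scheme.{u}} (p : P ⟶ Spec (CommRingCat.of A)) [Flat p]
    [Q.IsQuasiAffine] (u₁ : pullback p (sp A A₁) ⟶ Q) (u₂ : pullback p (sp A A₂) ⟶ Q)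
    (h12 : ∀ (T : Scheme.{u}) (a : T ⟶ P) (b : T ⟶ Spec (CommRingCat.of A₃))
      (w1 : a ≫ p = (b ≫ spHom g₁) ≫ sp A A₁) (w2 : a ≫ p = (b ≫ spHom g₂) ≫ sp A A₂),
      pullback.lift a (b ≫ spHom g₁) w1 ≫ u₁ = pullback.lift a (b ≫ spHom g₂) w2 ≫ u₂) :
    ∃ f : P ⟶ Q, pullback.fst _ _ ≫ f = u₁ ∧ pullback.fst _ _ ≫ f = u₂ := by
  obtain ⟨f, hf1, hf2⟩ := exists_glue h p (u₁ ≫ Q.toSpecΓ) (u₂ ≫ Q.toSpecΓ) (by
    intro T a b w1 w2
    rw [← Category.assoc, h12 T a b w1 w2, Category.assoc])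
  have hr : Set.range f ⊆ Set.range Q.toSpecΓ := by
    rintro _ ⟨x, rfl⟩
    rcases hs (p x) with ⟨y, hy⟩ | ⟨y, hy⟩
    · obtain ⟨z, hz, -⟩ := Scheme.Pullback.exists_preimage_pullback x y hy.symm
      refine ⟨u₁ z, ?_⟩
      rw [← Scheme.Hom.comp_apply, ← hf1, Scheme.Hom.comp_apply, hz]
    · obtain ⟨z, hz, -⟩ := Scheme.Pullback.exists_preimage_pullback x y hy.symm
      refine ⟨u₂ z, ?_⟩
      rw [← Scheme.Hom.comp_apply, ← hf2, Scheme.Hom.comp_apply, hz]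
  refine ⟨IsOpenImmersion.lift Q.toSpecΓ f hr, ?_, ?_⟩
  · rw [← cancel_mono Q.toSpecΓ, Category.assoc, IsOpenImmersion.lift_fac, hf1]
  · rw [← cancel_mono Q.toSpecΓ, Category.assoc, IsOpenImmersion.lift_fac, hf2]

end Sch

end K551.FlatGlue
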