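import Groth.Agent.NonAbH1.K551.FlatGlue
import Groth.Agent.NonAbH1.K551.Tors
import Groth.Agent.Ega2.QuasiAffine
import Groth.Agent.Desc.QAffDesc
import Groth.Prelude.Def_ActBC

/-!
# Glueing morphisms of schemes with action along an exact square of rings
-/

set_option autoImplicit false
universe u

open CategoryTheory CategoryTheory.Limits MonoidalCategory CartesianMonoidalCategory MonObj GrpObj AlgebraicGeometry TensorProduct

namespace K551.FlatGlueTors

open FlatGlue

/-- A torsor under a quasi-affine group scheme over an affine base is quasi-affine. -/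
theorem isQuasiAffine_of_torsor {S : Scheme.{u}} [IsAffine S] {G X : Over S} [GrpObj G] {a : AlgGrp.Action G X}
    (ha : NonAbH1.IsTorsorFor Scheme.fppfPrecoverage a) [G.left.IsQuasiAffine] : X.left.IsQuasiAffine := by
  have h1 : Groth.Agent.Ega2.QuasiAffine.QAff.{u}.DescendsAlong (@Surjective ⊓ @Flat ⊓ @QuasiCompact) :=
    Groth.Agent.Desc.QAffDesc.isQuasiAffine_descendsAlong
  have h2 : Groth.Agent.Ega2.QuasiAffine.QAff X.hom :=
    Tors.prop_of_torsor ha Groth.Agent.Ega2.QuasiAffine.QAff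
      ((HasAffineProperty.iff_of_isAffine (P := Groth.Agent.Ega2.QuasiAffine.QAff)).2 inferInstance)
  exact (HasAffineProperty.iff_of_isAffine (P := Groth.Agent.Ega2.QuasiAffine.QAff)).1 h2

variable {A A₁ A₂ A₃ : Type u} [CommRing A] [CommRing A₁] [CommRing A₂] [CommRing A₃]
  [Algebra A A₁] [Algebra A A₂] [Algebra A A₃] {g₁ : A₁ →ₐ[A] A₃} {g₂ : A₂ →ₐ[A] A₃}

lemma comp_eq_of_bc_eq {S S' : Scheme.{u}} (j : S' ⟶ S) {X Y : Over S} {F F' : X ⟶ Y}
    (h : (Over.pullback j).map F = (Over.pullback j).map F') (T : Scheme.{u}) (a : T ⟶ X.left) (b : T ⟶ S')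
    (hab : a ≫ X.hom = b ≫ j) : a ≫ F.left = a ≫ F'.left := by
  have h1 := congrArg (fun z => pullback.lift a b hab ≫ z.left ≫ pullback.fst Y.hom j) h
  rw [ActBC.pullback_map_left_fst, ActBC.pullback_map_left_fst, pullback.lift_fst_assoc,
    pullback.lift_fst_assoc] at h1
  exact h1

theorem hom_ext (h : Exact₂ g₁ g₂) {X Y : Over (Spec (CommRingCat.of A))} [Flat X.hom] [Y.left.IsQuasiAffine]
    (F F' : X ⟶ Y) (h1 : (Over.pullback (sp A A₁)).map F = (Over.pullback (sp A A₁)).map F')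
    (h2 : (Over.pullback (sp A A₂)).map F = (Over.pullback (sp A A₂)).map F') : F = F' := by
  ext1
  exact eq_of_eq_qa h X.hom _ _ (comp_eq_of_bc_eq _ h1) (comp_eq_of_bc_eq _ h2)

lemma lift_comp {S S' : Scheme.{u}} (j : S' ⟶ S) {X Y : Over S} (v : Red.bc j X ⟶ Red.bc j Y)
    {f : X.left ⟶ Y.left} (hf : pullback.fst X.hom j ≫ f = v.left ≫ pullback.fst Y.hom j)
    (hfS : f ≫ Y.hom = X.hom) : (Over.pullback j).map (Over.homMk f hfS : X ⟶ Y) = v := by
  ext1
  apply pullback.hom_ext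
  · rw [ActBC.pullback_map_left_fst, ← hf]
    rfl
  · exact (Over.w ((Over.pullback j).map (Over.homMk f hfS : X ⟶ Y))).trans (Over.w v).symm

theorem exists_hom (h : Exact₂ g₁ g₂)
    (hs : ∀ s : Spec (CommRingCat.of A), s ∈ Set.range (sp A A₁) ∨ s ∈ Set.range (sp A A₂))
    {X Y : Over (Spec (CommRingCat.of A))} [Flat X.hom] [Y.left.IsQuasiAffine]
    (v₁ : Red.bc (sp A A₁) X ⟶ Red.bc (sp A A₁) Y) (v₂ : Red.bc (sp A A₂) X ⟶ Red.bc (sp A A₂) Y)
    (hc : spHom g₁ ≫ sp A A₁ = spHom g₂ ≫ sp A A₂)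
    (hagree : (Over.pullback (spHom g₁)).map v₁ ≫ (ActBC.bcCompIso (spHom g₁) (sp A A₁) Y hc).hom =
      (ActBC.bcCompIso (spHom g₁) (sp A A₁) X hc).hom ≫ (ActBC.bcCompIso (spHom g₂) (sp A A₂) X rfl).inv ≫
        (Over.pullback (spHom g₂)).map v₂ ≫ (ActBC.bcCompIso (spHom g₂) (sp A A₂) Y rfl).hom) :
    ∃ F : X ⟶ Y, (Over.pullback (sp A A₁)).map F = v₁ ∧ (Over.pullback (sp A A₂)).map F = v₂ := by
  obtain ⟨f, hf1, hf2⟩ := exists_glue_qa h hs X.hom (v₁.left ≫ pullback.fst Y.hom (sp A A₁))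
    (v₂.left ≫ pullback.fst Y.hom (sp A A₂)) (by
      intro T a b w1 w2
      -- the point of the twice base-changed scheme
      let c : T ⟶ (Red.bc (spHom g₁) (Red.bc (sp A A₁) X)).left :=
        pullback.lift (pullback.lift a (b ≫ spHom g₁) w1) b (pullback.lift_snd _ _ _)
      let c' : T ⟶ (Red.bc (spHom g₂) (Red.bc (sp A A₂) X)).left :=
        pullback.lift (pullback.lift a (b ≫ spHom g₂) w2) b (pullback.lift_snd _ _ _)
      have hcc : c ≫ (ActBC.bcCompIso (spHom g₁) (sp A A₁) X hc).hom.left =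
          c' ≫ (ActBC.bcCompIso (spHom g₂) (sp A A₂) X rfl).hom.left := by
        apply pullback.hom_ext
        · rw [Category.assoc, Category.assoc, ActBC.bcCompIso_hom_left_fst, ActBC.bcCompIso_hom_left_fst]
          rw [pullback.lift_fst_assoc, pullback.lift_fst_assoc, pullback.lift_fst, pullback.lift_fst]
        · rw [Category.assoc, Category.assoc, ActBC.bcCompIso_hom_left_snd, ActBC.bcCompIso_hom_left_snd]
          rw [pullback.lift_snd, pullback.lift_snd]
      have h1 := congrArg (fun z => c ≫ z.left ≫ pullback.fst Y.hom (spHom g₂ ≫ sp A A₂)) hagree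
      simp only [Over.comp_left, Category.assoc] at h1
      rw [reassoc_of% hcc] at h1
      have e1 : (ActBC.bcCompIso (spHom g₂) (sp A A₂) X rfl).hom.left ≫
        (ActBC.bcCompIso (spHom g₂) (sp A A₂) X rfl).inv.left = 𝟙 _ := by
        rw [← Over.comp_left, Iso.hom_inv_id]; rfl
      rw [reassoc_of% e1, ActBC.bcCompIso_hom_left_fst, ActBC.bcCompIso_hom_left_fst,
        ActBC.pullback_map_left_fst_assoc, ActBC.pullback_map_left_fst_assoc, pullback.lift_fst_assoc,
        pullback.lift_fst_assoc] at h1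
      exact h1)
  have hfS : f ≫ Y.hom = X.hom := by
    have : IsAffine (Spec (CommRingCat.of A)) := inferInstance
    refine eq_of_eq h X.hom _ _ (fun T a b hab => ?_) (fun T a b hab => ?_)
    · have h1 := congrArg (fun z => pullback.lift a b hab ≫ z ≫ Y.hom) hf1
      simp only [Category.assoc, pullback.lift_fst_assoc] at h1
      rw [h1, pullback.condition]
      have h2 : v₁.left ≫ pullback.snd Y.hom (sp A A₁) = pullback.snd X.hom (sp A A₁) := Over.w v₁
      rw [reassoc_of% h2, pullback.lift_snd_assoc, hab]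
    · have h1 := congrArg (fun z => pullback.lift a b hab ≫ z ≫ Y.hom) hf2
      simp only [Category.assoc, pullback.lift_fst_assoc] at h1
      rw [h1, pullback.condition]
      have h2 : v₂.left ≫ pullback.snd Y.hom (sp A A₂) = pullback.snd X.hom (sp A A₂) := Over.w v₂
      rw [reassoc_of% h2, pullback.lift_snd_assoc, hab]
  exact ⟨Over.homMk f hfS, lift_comp _ v₁ hf1 hfS, lift_comp _ v₂ hf2 hfS⟩

end K551.FlatGlueTors
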