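import Groth.Agent.Hensel.SmoothLift
import Groth.Agent.Hensel.PairEtale
import Mathlib.RingTheory.Localization.Away.Basic
import Mathlib.RingTheory.TensorProduct.Maps
import Mathlib.RingTheory.RingHom.Smooth

/-!
# Points of smooth algebras over `A[1/t]`, `(A, tA)` henselian: approximation through null sequences

For `(A, tA)` henselian, `K = A[1/t]`, the ring `B` of germs at infinity of sequences in `K` with bounded denominators
is henselian along the ideal `I` of germs of null sequences, and every `A`-algebra `D` with compatible maps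
`D → A/t^n` maps to `B/I`.  Hence a smooth `K`-algebra with a point in `D[1/t]` has a point in `K`.
-/

set_option autoImplicit false
universe u v

open Polynomial

namespace K551.NullSeq

section Defs

variable (A : Type u) [CommRing A] (t : A) (K : Type u) [CommRing K] [Algebra A K] [IsLocalization.Away t K]

/-- sequences in `K` with bounded denominators -/
def Bd : Subalgebra K (ℕ → K) where
  carrier := {c | ∃ m : ℕ, ∀ n, ∃ a : A, algebraMap A K (t ^ m) * c n = algebraMap A K a}
  mul_mem' := by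
    rintro c d ⟨m, hm⟩ ⟨m', hm'⟩
    refine ⟨m + m', fun n => ?_⟩
    obtain ⟨a, ha⟩ := hm n
    obtain ⟨b, hb⟩ := hm' n
    refine ⟨a * b, ?_⟩
    rw [map_mul, ← ha, ← hb, pow_add, map_mul, Pi.mul_apply]
    ring
  add_mem' := by
    rintro c d ⟨m, hm⟩ ⟨m', hm'⟩
    refine ⟨m + m', fun n => ?_⟩
    obtain ⟨a, ha⟩ := hm n
    obtain ⟨b, hb⟩ := hm' n
    refine ⟨t ^ m' * a + t ^ m * b, ?_⟩
    rw [map_add, map_mul, map_mul, ← ha, ← hb, pow_add, map_mul, Pi.add_apply]
    ring
  algebraMap_mem' := by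
    intro x
    obtain ⟨m, a, ha⟩ := IsLocalization.Away.surj t x
    refine ⟨m, fun n => ⟨a, ?_⟩⟩
    rw [Pi.algebraMap_apply, Algebra.algebraMap_self, RingHom.id_apply, map_pow, mul_comm]
    exact ha

/-- the ideal of null sequences -/
def Z : Ideal (Bd A t K) where
  carrier := {c | ∀ m : ℕ, ∃ N : ℕ, ∀ n, N ≤ n → ∃ a : A, c.1 n = algebraMap A K (t ^ m * a)}
  add_mem' := by
    rintro c d hc hd m
    obtain ⟨N, hN⟩ := hc m
    obtain ⟨N', hN'⟩ := hd m
    refine ⟨max N N', fun n hn => ?_⟩
    obtain ⟨a, ha⟩ := hN n ((le_max_left _ _).trans hn)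
    obtain ⟨b, hb⟩ := hN' n ((le_max_right _ _).trans hn)
    refine ⟨a + b, ?_⟩
    change c.1 n + d.1 n = _
    rw [ha, hb, mul_add, map_add]
  zero_mem' := fun m => ⟨0, fun n _ => ⟨0, by
    rw [mul_zero, map_zero]; rfl⟩⟩
  smul_mem' := by
    rintro c d hd m
    obtain ⟨k, hk⟩ := c.2
    obtain ⟨N, hN⟩ := hd (k + m)
    refine ⟨N, fun n hn => ?_⟩
    obtain ⟨a, ha⟩ := hN n hn
    obtain ⟨b, hb⟩ := hk n
    refine ⟨b * a, ?_⟩
    change c.1 n * d.1 n = _
    rw [ha, pow_add, map_mul, map_mul, map_mul, map_mul, ← hb]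
    ring

/-- the ideal of sequences which are eventually zero -/
def E : Ideal (Bd A t K) where
  carrier := {c | ∃ N : ℕ, ∀ n, N ≤ n → c.1 n = 0}
  add_mem' := by
    rintro c d ⟨N, hN⟩ ⟨N', hN'⟩
    refine ⟨max N N', fun n hn => ?_⟩
    change c.1 n + d.1 n = 0
    rw [hN n ((le_max_left _ _).trans hn), hN' n ((le_max_right _ _).trans hn), add_zero]
  zero_mem' := ⟨0, fun n _ => rfl⟩
  smul_mem' := by
    rintro c d ⟨N, hN⟩
    refine ⟨N, fun n hn => ?_⟩
    change c.1 n * d.1 n = 0
    rw [hN n hn, mul_zero]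

/-- germs at infinity of sequences with bounded denominators -/
def B : Type u := Bd A t K ⧸ E A t K

noncomputable instance : CommRing (B A t K) := Ideal.Quotient.commRing (E A t K)

noncomputable instance : Algebra K (B A t K) := Ideal.Quotient.algebra K

/-- the germ of a sequence -/
noncomputable def mk : Bd A t K →ₐ[K] B A t K := Ideal.Quotient.mkₐ K (E A t K)

lemma mk_surjective : Function.Surjective (mk A t K) := Ideal.Quotient.mk_surjective

lemma mk_eq_zero_iff (x : Bd A t K) : mk A t K x = 0 ↔ x ∈ E A t K := Ideal.Quotient.eq_zero_iff_mem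

/-- the ideal of germs of null sequences -/
noncomputable def I : Ideal (B A t K) := (Z A t K).map (mk A t K)

/-- germs modulo germs of null sequences -/
def Q : Type u := B A t K ⧸ I A t K

noncomputable instance : CommRing (Q A t K) := Ideal.Quotient.commRing (I A t K)

noncomputable instance : Algebra (B A t K) (Q A t K) := Ideal.Quotient.algebra _

noncomputable instance : Algebra K (Q A t K) := Ideal.Quotient.algebra K

instance : IsScalarTower K (B A t K) (Q A t K) :=
  inferInstanceAs (IsScalarTower K (B A t K) (B A t K ⧸ I A t K))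

variable {A t K}

/-- an `A`-valued sequence -/
def cst : (ℕ → A) →+* Bd A t K where
  toFun s := ⟨fun n => algebraMap A K (s n), 0, fun n => ⟨s n, by simp⟩⟩
  map_one' := by ext n; simp
  map_mul' s s' := by ext n; simp
  map_zero' := by ext n; simp
  map_add' s s' := by ext n; simp

@[simp] lemma cst_apply (s : ℕ → A) (n : ℕ) : (cst (t := t) (K := K) s).1 n = algebraMap A K (s n) := rfl

lemma mem_I_iff (x : B A t K) : x ∈ I A t K ↔ ∃ z ∈ Z A t K, mk A t K z = x :=
  Ideal.mem_map_iff_of_surjective _ (mk_surjective A t K)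

lemma E_le_Z : E A t K ≤ Z A t K := by
  rintro c ⟨N, hN⟩ m
  exact ⟨N, fun n hn => ⟨0, by rw [hN n hn, mul_zero, map_zero]⟩⟩

end Defs

section Hens

variable {A : Type u} [CommRing A] {t : A} {K : Type u} [CommRing K] [Algebra A K] [IsLocalization.Away t K]
  [HenselianRing A (Ideal.span {t})]

lemma isUnit_of_sub_one_mem {α : A} (h : α - 1 ∈ Ideal.span {t}) : IsUnit α := by
  have h1 : Ideal.span {t} ≤ Ideal.jacobson ⊥ := HenselianRing.jac
  have h2 := Ideal.mem_jacobson_bot.mp (h1 h) 1
  simpa using h2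

theorem I_le_jacobson : I A t K ≤ Ideal.jacobson ⊥ := by
  intro x hx
  refine (Ideal.mem_jacobson_bot (R := B A t K)).2 ?_
  intro y
  obtain ⟨z, hz, hzx⟩ := (mem_I_iff (A := A) (t := t) (K := K) _).1 (Ideal.mul_mem_right y _ hx)
  rw [← hzx]
  obtain ⟨N, hN⟩ := hz 1
  have h1 : ∀ n, ∃ α β : A, α * β = 1 ∧ (N ≤ n → z.1 n + 1 = algebraMap A K α) := by
    intro n
    by_cases hn : N ≤ n
    · obtain ⟨a, ha⟩ := hN n hn
      obtain ⟨u, hu⟩ := isUnit_of_sub_one_mem (t := t) (α := t * a + 1) (by
        rw [add_sub_cancel_right]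
        exact Ideal.mul_mem_right _ _ (Ideal.mem_span_singleton_self t))
      refine ⟨t * a + 1, ↑u⁻¹, by rw [← hu]; exact u.mul_inv, fun _ => ?_⟩
      rw [ha, pow_one, map_add, map_one]
    · exact ⟨1, 1, mul_one 1, fun h => absurd h hn⟩
  choose α β hαβ hα using h1
  have h2 : (mk A t K z + 1) * mk A t K (cst β) = 1 := by
    rw [← sub_eq_zero, ← map_one (mk A t K), ← map_add, ← map_mul, ← map_sub, mk_eq_zero_iff]
    refine ⟨N, fun n hn => ?_⟩
    change (z.1 n + 1) * algebraMap A K (β n) - 1 = 0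
    rw [hα n hn, ← map_mul, hαβ, map_one, sub_self]
  exact IsUnit.of_mul_eq_one _ h2

/-- Gabber's condition for germs of sequences with bounded denominators. -/
theorem isGabber : Groth.Agent.Hensel.PairGabber.IsGabber (B A t K) (I A t K) := by
  refine ⟨I_le_jacobson, ?_⟩
  intro n hn p hp hpI
  have hG : Groth.Agent.Hensel.PairGabber.IsGabber A (Ideal.span {t}) :=
    Groth.Agent.Hensel.PairGabber.isGabber_of_henselianRing
  choose z hz hzp using fun i => (mem_I_iff (A := A) (t := t) (K := K) _).1 (hpI i)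
  -- uniform bounds
  have hbd : ∀ m : ℕ, ∃ N : ℕ, ∀ k, N ≤ k → ∀ i ∈ Finset.range (n + 1), ∃ a : A,
      (z i).1 k = algebraMap A K (t ^ m * a) := by
    intro m
    choose N hN using fun i => hz i m
    refine ⟨(Finset.range (n + 1)).sup N, fun k hk i hi => hN i k ((Finset.le_sup hi).trans hk)⟩
  obtain ⟨N₁, hN₁⟩ := hbd 1
  have h1 : ∀ k, ∃ α : A, α - 1 ∈ Ideal.span {t} ∧ (N₁ ≤ k →
      algebraMap A K α ^ n * (algebraMap A K α - 1) +
        ∑ i ∈ Finset.range (n + 1), (z i).1 k * algebraMap A K α ^ i = 0) := by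
    intro k
    by_cases hk : N₁ ≤ k
    · choose! a ha using hN₁ k hk
      let q : A[X] := ∑ i ∈ Finset.range (n + 1), C (t * a i) * X ^ i
      have hq : q.natDegree ≤ n := by
        refine natDegree_sum_le_of_forall_le _ _ fun i hi => ?_
        refine (natDegree_C_mul_X_pow_le _ _).trans ?_
        exact Nat.lt_succ_iff.1 (Finset.mem_range.1 hi)
      have hqI : ∀ i, q.coeff i ∈ Ideal.span {t} := by
        intro i
        rw [finsetSum_coeff]
        refine Ideal.sum_mem _ fun j _ => ?_
        rw [coeff_C_mul]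
        exact Ideal.mul_mem_right _ _ (Ideal.mul_mem_right _ _ (Ideal.mem_span_singleton_self t))
      obtain ⟨α, hα, hroot⟩ := hG.2 n hn q hq hqI
      refine ⟨α, hα, fun _ => ?_⟩
      have h2 : α ^ n * (α - 1) + ∑ i ∈ Finset.range (n + 1), t * a i * α ^ i = 0 := by
        have := hroot.eq_zero
        simpa [q, eval_finsetSum] using this
      have h3 := congrArg (algebraMap A K) h2
      rw [map_zero, map_add, map_mul, map_pow, map_sub, map_one, map_sum] at h3
      rw [← h3]
      congr 1
      refine Finset.sum_congr rfl fun i hi => ?_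
      rw [ha i hi, pow_one, map_mul (algebraMap A K) (t * a i), map_pow]
    · exact ⟨1, by simp, fun h => absurd h hk⟩
  choose α hα hαeq using h1
  refine ⟨mk A t K (cst α), ?_, ?_⟩
  · rw [← map_one (mk A t K), ← map_sub]
    refine Ideal.mem_map_of_mem _ ?_
    intro m
    obtain ⟨N, hN⟩ := hbd m
    refine ⟨max N N₁, fun k hk => ?_⟩
    choose! b hb using hN k ((le_max_left _ _).trans hk)
    have h2 := hαeq k ((le_max_right _ _).trans hk)
    obtain ⟨u, hu⟩ := isUnit_of_sub_one_mem (hα k)
    refine ⟨-(↑u⁻¹ : A) ^ n * ∑ i ∈ Finset.range (n + 1), b i * α k ^ i, ?_⟩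
    change algebraMap A K (α k) - 1 = _
    have h3 : algebraMap A K (↑u⁻¹ : A) ^ n * algebraMap A K (α k) ^ n = 1 := by
      rw [← mul_pow, ← map_mul, ← hu, Units.inv_mul, map_one, one_pow]
    have h4 : ∑ i ∈ Finset.range (n + 1), (z i).1 k * algebraMap A K (α k) ^ i =
        algebraMap A K (t ^ m) * algebraMap A K (∑ i ∈ Finset.range (n + 1), b i * α k ^ i) := by
      rw [map_sum, Finset.mul_sum]
      refine Finset.sum_congr rfl fun i hi => ?_
      rw [hb i hi, map_mul, map_mul, map_pow (algebraMap A K) (α k)]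
      ring
    rw [h4] at h2
    rw [map_mul, map_mul, map_neg, map_pow (algebraMap A K) (↑u⁻¹ : A)]
    linear_combination (algebraMap A K (↑u⁻¹ : A) ^ n) * h2 - (algebraMap A K (α k) - 1) * h3
  · rw [IsRoot.def, eval_add, eval_mul, eval_pow, eval_sub, eval_X, eval_one,
      eval_eq_sum_range' (Nat.lt_succ_of_le hp)]
    have h6 : mk A t K (cst α) ^ n * (mk A t K (cst α) - 1) +
        ∑ i ∈ Finset.range (n + 1), p.coeff i * mk A t K (cst α) ^ i =
        mk A t K (cst α ^ n * (cst α - 1) +
          ∑ i ∈ Finset.range (n + 1), z i * (cst α) ^ i) := by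
      rw [map_add, map_mul, map_pow, map_sub, map_one, map_sum]
      congr 1
      refine Finset.sum_congr rfl fun i _ => ?_
      rw [map_mul, map_pow, hzp]
    refine h6.trans ?_
    rw [mk_eq_zero_iff]
    refine ⟨N₁, fun k hk => ?_⟩
    have h2 := hαeq k hk
    have h5 : ∀ (s : Finset ℕ) (f : ℕ → Bd A t K), (∑ i ∈ s, f i).1 k = ∑ i ∈ s, (f i).1 k := by
      intro s f
      rw [AddSubmonoidClass.coe_finsetSum, Finset.sum_apply]
    change algebraMap A K (α k) ^ n * (algebraMap A K (α k) - 1) +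
      (∑ i ∈ Finset.range (n + 1), z i * (cst α) ^ i).1 k = 0
    rw [h5]
    exact h2

instance henselianRing : HenselianRing (B A t K) (I A t K) :=
  Groth.Agent.Hensel.PairEtale.henselianRing_of_isGabber isGabber

end Hens

section Points

variable {A : Type u} [CommRing A] {t : A} {K : Type u} [CommRing K] [Algebra A K] [IsLocalization.Away t K]

/-- points with values in germs descend to points with values in `K` -/
theorem exists_point_of_germ {C : Type u} [CommRing C] [Algebra K C] [Algebra.FinitePresentation K C]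
    (τ : C →ₐ[K] B A t K) : Nonempty (C →ₐ[K] K) := by
  obtain ⟨n, f, hf, hfg⟩ := Algebra.FinitePresentation.out (R := K) (A := C)
  choose y hy using fun i : Fin n => mk_surjective A t K (τ (f (MvPolynomial.X i)))
  let g : MvPolynomial (Fin n) K →ₐ[K] Bd A t K := MvPolynomial.aeval y
  have hg : ∀ p, mk A t K (g p) = τ (f p) := by
    intro p
    have h1 : (mk A t K).comp g = τ.comp f := by
      ext i
      simp only [AlgHom.comp_apply, g, MvPolynomial.aeval_X]
      exact hy i
    exact DFunLike.congr_fun h1 p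
  obtain ⟨s, hs⟩ := hfg
  have hE : ∀ p ∈ s, ∃ N : ℕ, ∀ k, N ≤ k → (g p).1 k = 0 := by
    intro p hp
    have h1 : f p = 0 := by
      have : p ∈ RingHom.ker f.toRingHom := by rw [← hs]; exact Ideal.subset_span hp
      exact this
    have h2 := hg p
    rw [h1, map_zero, mk_eq_zero_iff] at h2
    exact h2
  choose! N hN using hE
  let ev : Bd A t K →ₐ[K] K := (Pi.evalAlgHom K (fun _ : ℕ => K) (s.sup N)).comp (Bd A t K).val
  have hker : ∀ p, f p = 0 → ev (g p) = 0 := by
    intro p hp
    have h1 : p ∈ Ideal.span (s : Set (MvPolynomial (Fin n) K)) := by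
      rw [hs]; exact hp
    have h2 : Ideal.span (s : Set (MvPolynomial (Fin n) K)) ≤ RingHom.ker (ev.comp g).toRingHom := by
      rw [Ideal.span_le]
      intro q hq
      exact hN q hq _ (Finset.le_sup hq)
    exact h2 h1
  exact ⟨Ideal.Quotient.liftₐ (RingHom.ker f) (ev.comp g) (fun p hp => hker p hp) |>.comp
    (Ideal.quotientKerAlgEquivOfSurjective hf).symm.toAlgHom⟩

/-- An `A`-algebra `D` with maps to all `A/t^n` maps to null-sequence germs modulo null sequences. -/
theorem exists_theta {D : Type u} [CommRing D] [Algebra A D] (ε : ∀ n : ℕ, D →+* A ⧸ Ideal.span {t ^ n})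
    (hε : ∀ n a, ε n (algebraMap A D a) = Ideal.Quotient.mk _ a) :
    ∃ θ : D →+* Q A t K, ∀ a : A, θ (algebraMap A D a) =
      algebraMap K (Q A t K) (algebraMap A K a) := by
  let π : (ℕ → A) →+* (∀ n, A ⧸ Ideal.span {t ^ n}) := RingHom.pi fun n =>
    (Ideal.Quotient.mk (Ideal.span {t ^ n})).comp (Pi.evalRingHom _ n)
  have hπ : Function.Surjective π := by
    intro y
    choose s hs using fun n => Ideal.Quotient.mk_surjective (y n)
    exact ⟨s, funext hs⟩
  let ι : (ℕ → A) →+* Q A t K :=
    ((algebraMap (B A t K) (Q A t K)).comp (mk A t K).toRingHom).comp (cst (t := t) (K := K))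
  have hker : ∀ s, π s = 0 → ι s = 0 := by
    intro s hs
    refine Ideal.Quotient.eq_zero_iff_mem.2 (Ideal.mem_map_of_mem _ ?_)
    intro m
    refine ⟨m, fun n hn => ?_⟩
    have h1 : Ideal.Quotient.mk (Ideal.span {t ^ n}) (s n) = 0 := congrFun hs n
    rw [Ideal.Quotient.eq_zero_iff_mem, Ideal.mem_span_singleton] at h1
    obtain ⟨a, ha⟩ := h1
    refine ⟨t ^ (n - m) * a, ?_⟩
    rw [cst_apply, ha, ← mul_assoc, ← pow_add, Nat.add_sub_cancel' hn]
  obtain ⟨j, hj⟩ := hπ.hasRightInverse
  let ρ : (∀ n, A ⧸ Ideal.span {t ^ n}) →+* Q A t K :=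
    π.liftOfRightInverse j hj ⟨ι, fun s hs => hker s hs⟩
  have hρ : ∀ s, ρ (π s) = ι s := fun s => RingHom.liftOfRightInverse_comp_apply π j hj ⟨ι, _⟩ s
  refine ⟨ρ.comp (RingHom.pi ε), fun a => ?_⟩
  have h1 : RingHom.pi ε (algebraMap A D a) = π (fun _ => a) := by
    funext n
    exact hε n a
  rw [RingHom.comp_apply, h1, hρ]
  rfl

/-- **Approximation**: over a henselian pair `(A, tA)`, a smooth algebra over `K = A[1/t]` with a point in `D[1/t]`,
where `D` is an `A`-algebra with `A`-algebra maps to all `A/t^n`, has a point in `K`. -/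
theorem exists_point [HenselianRing A (Ideal.span {t})] {D : Type u} [CommRing D] [Algebra A D]
    (ε : ∀ n : ℕ, D →+* A ⧸ Ideal.span {t ^ n})
    (hε : ∀ n a, ε n (algebraMap A D a) = Ideal.Quotient.mk _ a)
    {L : Type u} [CommRing L] [Algebra D L] [IsLocalization.Away (algebraMap A D t) L]
    {C : Type u} [CommRing C] [Algebra K C] [Algebra.Smooth K C] (σ : C →+* L)
    (hσ : ∀ a : A, σ (algebraMap K C (algebraMap A K a)) = algebraMap D L (algebraMap A D a)) :
    Nonempty (C →ₐ[K] K) := by
  obtain ⟨θ, hθ⟩ := exists_theta (K := K) ε hε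
  have htu : IsUnit (θ (algebraMap A D t)) := by
    rw [hθ]
    exact (IsLocalization.Away.algebraMap_isUnit t).map _
  let Θ : L →+* Q A t K := IsLocalization.Away.lift (algebraMap A D t) htu
  have hΘ : ∀ d, Θ (algebraMap D L d) = θ d := fun d => IsLocalization.Away.lift_eq _ htu d
  have hK : (Θ.comp (σ.comp (algebraMap K C))) = algebraMap K (Q A t K) := by
    refine IsLocalization.ringHom_ext (Submonoid.powers t) ?_
    ext a
    change Θ (σ (algebraMap K C (algebraMap A K a))) = _
    rw [hσ, hΘ, hθ]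
    rfl
  let σ' : C →ₐ[K] Q A t K :=
    { Θ.comp σ with commutes' := fun x => DFunLike.congr_fun hK x }
  let R := B A t K
  let σ'' : TensorProduct K R C →ₐ[R] Q A t K :=
    Algebra.TensorProduct.lift (Algebra.ofId R _) σ' fun _ _ => Commute.all _ _
  obtain ⟨τ, -⟩ := Groth.Agent.Hensel.SmoothLift.exists_lift (A := R) (I := I A t K) σ''
  exact exists_point_of_germ ((τ.restrictScalars K).comp Algebra.TensorProduct.includeRight)

end Points

end K551.NullSeq
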