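import Groth.Agent.NonAbH1.K551.OrbAlg
import Mathlib.RingTheory.IntegralClosure.IsIntegralClosure.Basic
import Mathlib.RingTheory.Ideal.GoingUp

/-!
# Integrality of `GL` over the orbit functions
-/

set_option autoImplicit false
set_option linter.unusedSectionVars false
universe u v

open TensorProduct Matrix Kronecker

namespace K551.OrbUniv

open OrbBase

section Int

variable {D : Type u} [CommRing D] {ι : Type} [Fintype ι] [DecidableEq ι]

/-- `1 ⊗ e` -/
noncomputable def row (M : Matrix ι ι D) (e : Matrix Unit ι D) : Matrix (ι × Unit) (ι × ι) D := M ⊗ₖ e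

lemma row_bet (β : Matrix (ι × ι) (ι × ι) D) (ε : Matrix Unit ι D) (hβ : row 1 ε * β = row 1 ε) (g : GL ι D) :
    row 1 (ε * ((g⁻¹ : GL ι D) : Matrix ι ι D)) * bet β g =
      row ((g⁻¹ : GL ι D) : Matrix ι ι D) (ε * ((g⁻¹ : GL ι D) : Matrix ι ι D)) := by
  have h1 : row 1 (ε * ((g⁻¹ : GL ι D) : Matrix ι ι D)) * ((1 : Matrix ι ι D) ⊗ₖ (g : Matrix ι ι D)) = row 1 ε := by
    rw [row, ← Matrix.mul_kronecker_mul, mul_one, Matrix.mul_assoc, ← Units.val_mul, inv_mul_cancel, Units.val_one,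
      Matrix.mul_one, row]
  have h2 : row 1 ε * (((g⁻¹ : GL ι D) : Matrix ι ι D) ⊗ₖ ((g⁻¹ : GL ι D) : Matrix ι ι D)) =
      row ((g⁻¹ : GL ι D) : Matrix ι ι D) (ε * ((g⁻¹ : GL ι D) : Matrix ι ι D)) := by
    rw [row, ← Matrix.mul_kronecker_mul, one_mul, row]
  rw [bet, ← Matrix.mul_assoc, ← Matrix.mul_assoc, h1, hβ, h2]

lemma row_tht (θ : Matrix (ι × ι) (ι × ι) D) (ε : Matrix Unit ι D) (hθ : row 1 ε * θ = row 1 ε) (g : GL ι D) :
    row 1 (ε * ((g⁻¹ : GL ι D) : Matrix ι ι D)) * tht θ g =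
      row (g : Matrix ι ι D) (ε * ((g⁻¹ : GL ι D) : Matrix ι ι D)) := by
  have h1 : row 1 (ε * ((g⁻¹ : GL ι D) : Matrix ι ι D)) * ((g : Matrix ι ι D) ⊗ₖ (g : Matrix ι ι D)) =
      ((g : Matrix ι ι D) ⊗ₖ (1 : Matrix Unit Unit D)) * row 1 ε := by
    rw [row, ← Matrix.mul_kronecker_mul, one_mul, Matrix.mul_assoc, ← Units.val_mul, inv_mul_cancel, Units.val_one,
      Matrix.mul_one, row, ← Matrix.mul_kronecker_mul, mul_one, Matrix.one_mul]
  have h2 : row 1 ε * ((1 : Matrix ι ι D) ⊗ₖ ((g⁻¹ : GL ι D) : Matrix ι ι D)) =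
      row 1 (ε * ((g⁻¹ : GL ι D) : Matrix ι ι D)) := by
    rw [row, ← Matrix.mul_kronecker_mul, one_mul, row]
  rw [tht, ← Matrix.mul_assoc, ← Matrix.mul_assoc, h1, Matrix.mul_assoc _ (row 1 ε), hθ, Matrix.mul_assoc, h2, row, row,
    ← Matrix.mul_kronecker_mul, mul_one, Matrix.one_mul]

lemma row_mul_apply (e : Matrix Unit ι D) (M : Matrix (ι × ι) (ι × ι) D) (c a b : ι) :
    (row 1 e * M) (c, ()) (a, b) = ∑ d, e () d * M (c, d) (a, b) := by
  rw [Matrix.mul_apply, Fintype.sum_prod_type, Finset.sum_eq_single c]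
  · refine Finset.sum_congr rfl fun d _ => ?_
    rw [row, Matrix.kronecker_apply, Matrix.one_apply_eq, one_mul]
  · intro c' _ hc'
    refine Finset.sum_eq_zero fun d _ => ?_
    rw [row, Matrix.kronecker_apply, Matrix.one_apply_ne hc'.symm, zero_mul, zero_mul]
  · intro h
    exact absurd (Finset.mem_univ _) h

theorem isIntegral_entries [IsDomain D] {K : Type u} [Field K] [Algebra K D] (B : Subalgebra K D)
    (β θ : Matrix (ι × ι) (ι × ι) D) (hβθ : β * θ = 1)
    (ε : Matrix Unit ι D) (hε : ε ≠ 0) (hβ : row 1 ε * β = row 1 ε) (g : GL ι D)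
    (h1 : ∀ i j, bet β g i j ∈ B) (h2 : ∀ i j, tht θ g i j ∈ B) (c a : ι) :
    IsIntegral B (g c a) ∧ IsIntegral B ((g⁻¹ : GL ι D) c a) := by
  have hθ : row 1 ε * θ = row 1 ε := by
    conv_lhs => rw [← hβ]
    rw [Matrix.mul_assoc, hβθ, Matrix.mul_one]
  set e : Matrix Unit ι D := ε * ((g⁻¹ : GL ι D) : Matrix ι ι D) with he
  have he0 : e ≠ 0 := by
    intro h
    apply hε
    have : e * (g : Matrix ι ι D) = ε := by
      rw [he, Matrix.mul_assoc, ← Units.val_mul, inv_mul_cancel, Units.val_one, Matrix.mul_one]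
    rw [← this, h, Matrix.zero_mul]
  let N : Submodule B D := Submodule.span B (Set.range fun d => e () d)
  have hN : N ≠ ⊥ := by
    intro h
    apply he0
    ext ⟨⟩ d
    have h3 : e () d ∈ N := Submodule.subset_span ⟨d, rfl⟩
    rw [h] at h3
    exact h3
  have hfg : N.FG := Submodule.fg_span (Set.finite_range _)
  have key : ∀ (x : D), (∀ b, x * e () b ∈ N) → IsIntegral B x := by
    intro x hx
    refine isIntegral_of_smul_mem_submodule N hN hfg x ?_
    intro n hn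
    induction hn using Submodule.span_induction with
    | mem n hn =>
      obtain ⟨b, rfl⟩ := hn
      exact hx b
    | zero => rw [smul_zero]; exact N.zero_mem
    | add x y _ _ hx hy => rw [smul_add]; exact N.add_mem hx hy
    | smul r y _ hy => rw [smul_comm]; exact N.smul_mem _ hy
  constructor
  · refine key _ fun b => ?_
    have h3 := congrFun (congrFun (row_tht θ ε hθ g) (c, ())) (a, b)
    rw [row_mul_apply] at h3
    have h4 : row (g : Matrix ι ι D) (ε * ((g⁻¹ : GL ι D) : Matrix ι ι D)) (c, ()) (a, b) = g c a * e () b := rfl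
    rw [h4] at h3
    rw [← h3]
    refine sum_mem fun d _ => ?_
    rw [mul_comm]
    exact N.smul_mem (⟨_, h2 (c, d) (a, b)⟩ : B) (Submodule.subset_span ⟨d, rfl⟩)
  · refine key _ fun b => ?_
    have h3 := congrFun (congrFun (row_bet β ε hβ g) (c, ())) (a, b)
    rw [row_mul_apply] at h3
    have h4 : row ((g⁻¹ : GL ι D) : Matrix ι ι D) (ε * ((g⁻¹ : GL ι D) : Matrix ι ι D)) (c, ()) (a, b) =
      (g⁻¹ : GL ι D) c a * e () b := rfl
    rw [h4] at h3
    rw [← h3]
    refine sum_mem fun d _ => ?_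
    rw [mul_comm]
    exact N.smul_mem (⟨_, h1 (c, d) (a, b)⟩ : B) (Submodule.subset_span ⟨d, rfl⟩)

end Int

end K551.OrbUniv
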