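import Mathlib.LinearAlgebra.TensorProduct.Basis
import Mathlib.RingTheory.TensorProduct.Free
import Mathlib.LinearAlgebra.InvariantBasisNumber
import Mathlib.RingTheory.FiniteType
import Groth.Agent.NonAbH1.K551.OrbInt

/-!
# Torsors in terms of algebras, and their structure matrices
-/

set_option autoImplicit false
set_option linter.unusedSectionVars false
universe u v

open TensorProduct Matrix Kronecker

namespace K551.OrbAT

/-- A simply transitive action of `Hom(O, -)` on `Hom(B, -)`. -/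
structure AT (k : Type u) (O : Type u) (D : Type u) (B : Type u) [Field k] [CommRing O] [Algebra k O] [CommRing D]
    [Algebra k D] [CommRing B] [Algebra k B] [Algebra D B] [IsScalarTower k D B] where
  /-- action -/
  act : ∀ {C : Type u} [CommRing C] [Algebra k C] [Algebra D C] [IsScalarTower k D C],
    (O →ₐ[k] C) → (B →ₐ[D] C) → (B →ₐ[D] C)
  /-- transporter -/
  dif : ∀ {C : Type u} [CommRing C] [Algebra k C] [Algebra D C] [IsScalarTower k D C],
    (B →ₐ[D] C) → (B →ₐ[D] C) → (O →ₐ[k] C)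
  act_comp : ∀ {C C' : Type u} [CommRing C] [Algebra k C] [Algebra D C] [IsScalarTower k D C]
    [CommRing C'] [Algebra k C'] [Algebra D C'] [IsScalarTower k D C'] (f : C →ₐ[D] C') (g : O →ₐ[k] C)
    (x : B →ₐ[D] C), f.comp (act g x) = act ((f.restrictScalars k).comp g) (f.comp x)
  dif_comp : ∀ {C C' : Type u} [CommRing C] [Algebra k C] [Algebra D C] [IsScalarTower k D C]
    [CommRing C'] [Algebra k C'] [Algebra D C'] [IsScalarTower k D C'] (f : C →ₐ[D] C')
    (x y : B →ₐ[D] C), (f.restrictScalars k).comp (dif x y) = dif (f.comp x) (f.comp y)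
  act_dif : ∀ {C : Type u} [CommRing C] [Algebra k C] [Algebra D C] [IsScalarTower k D C] (x y : B →ₐ[D] C),
    act (dif x y) y = x
  dif_act : ∀ {C : Type u} [CommRing C] [Algebra k C] [Algebra D C] [IsScalarTower k D C] (g : O →ₐ[k] C)
    (y : B →ₐ[D] C), dif (act g y) y = g

section Mat

variable {k O D B : Type u} [Field k] [CommRing O] [Algebra k O] [CommRing D]
    [Algebra k D] [CommRing B] [Algebra k B] [Algebra D B] [IsScalarTower k D B] (T : AT k O D B)
    {ι ι' : Type} [Fintype ι] [Fintype ι'] (v : Module.Basis ι k O) (w : Module.Basis ι' D B)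

/-- universal point of `B ⊗ O` -/
noncomputable def yu : B →ₐ[D] B ⊗[k] O :=
  T.act (Algebra.TensorProduct.includeRight : O →ₐ[k] B ⊗[k] O)
    (Algebra.TensorProduct.includeLeft : B →ₐ[D] B ⊗[k] O)

/-- universal transporter -/
noncomputable def du : O →ₐ[k] B ⊗[D] B :=
  T.dif (Algebra.TensorProduct.includeLeft : B →ₐ[D] B ⊗[D] B) (Algebra.TensorProduct.includeRight : B →ₐ[D] B ⊗[D] B)

/-- structure matrix -/
noncomputable def mb : Matrix (ι × ι') (ι' × ι') D :=
  fun i j => (w.tensorProduct v).repr (yu T (w j.1) * (w j.2 ⊗ₜ 1)) (i.2, i.1)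

/-- inverse structure matrix -/
noncomputable def mt : Matrix (ι' × ι') (ι × ι') D :=
  fun j i => (w.tensorProduct w).repr (du T (v i.1) * (1 ⊗ₜ w i.2)) (j.1, j.2)

lemma yu_mul (a b : ι') : yu T (w a) * (w b ⊗ₜ[k] (1 : O)) = ∑ c, ∑ e, mb T v w (c, e) (a, b) • (w e ⊗ₜ[k] v c) := by
  conv_lhs => rw [← (w.tensorProduct v).sum_repr (yu T (w a) * (w b ⊗ₜ[k] (1 : O)))]
  rw [Fintype.sum_prod_type, Finset.sum_comm]
  refine Finset.sum_congr rfl fun c _ => Finset.sum_congr rfl fun e _ => ?_
  rw [Module.Basis.tensorProduct_apply]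
  rfl

lemma du_mul (c : ι) (e : ι') : du T (v c) * ((1 : B) ⊗ₜ[D] w e) = ∑ a, ∑ b, mt T v w (a, b) (c, e) • (w a ⊗ₜ[D] w b) := by
  conv_lhs => rw [← (w.tensorProduct w).sum_repr (du T (v c) * ((1 : B) ⊗ₜ[D] w e))]
  rw [Fintype.sum_prod_type]
  refine Finset.sum_congr rfl fun c _ => Finset.sum_congr rfl fun e _ => ?_
  rw [Module.Basis.tensorProduct_apply]
  rfl

variable {C : Type u} [CommRing C] [Algebra k C] [Algebra D C] [IsScalarTower k D C]

/-- the fundamental relation -/
theorem act_mul (g : O →ₐ[k] C) (x : B →ₐ[D] C) (a b : ι') :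
    T.act g x (w a) * x (w b) = ∑ c, ∑ e, mb T v w (c, e) (a, b) • (g (v c) * x (w e)) := by
  let F : B ⊗[k] O →ₐ[D] C := Algebra.TensorProduct.lift x g (fun _ _ => Commute.all _ _)
  have hF : ∀ (b : B) (o : O), F (b ⊗ₜ[k] o) = x b * g o := fun b o => Algebra.TensorProduct.lift_tmul _ _ _ _ _
  have h1 : F.comp (yu T) = T.act g x := by
    rw [yu, T.act_comp]
    congr 1
    · ext t
      change F ((1 : B) ⊗ₜ[k] t) = _
      rw [hF, map_one, one_mul]
    · ext t
      change F (t ⊗ₜ[k] (1 : O)) = _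
      rw [hF, map_one, mul_one]
  have h2 := congrArg F (yu_mul T v w a b)
  rw [map_mul, ← AlgHom.comp_apply, h1] at h2
  rw [hF, map_one, mul_one] at h2
  rw [h2, map_sum]
  refine Finset.sum_congr rfl fun c _ => ?_
  rw [map_sum]
  refine Finset.sum_congr rfl fun e _ => ?_
  rw [map_smul, hF, mul_comm (x _)]

/-- the second fundamental relation -/
theorem dif_mul (x y : B →ₐ[D] C) (c : ι) (e : ι') :
    T.dif x y (v c) * y (w e) = ∑ a, ∑ b, mt T v w (a, b) (c, e) • (x (w a) * y (w b)) := by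
  let F : B ⊗[D] B →ₐ[D] C := Algebra.TensorProduct.lift x y (fun _ _ => Commute.all _ _)
  have hF : ∀ (b o : B), F (b ⊗ₜ[D] o) = x b * y o := fun b o => Algebra.TensorProduct.lift_tmul _ _ _ _ _
  have h1 : (F.restrictScalars k).comp (du T) = T.dif x y := by
    rw [du, T.dif_comp]
    congr 1
    · ext t
      change F (t ⊗ₜ[D] (1 : B)) = _
      rw [hF, map_one, mul_one]
    · ext t
      change F ((1 : B) ⊗ₜ[D] t) = _
      rw [hF, map_one, one_mul]
  have h2 := congrArg F (du_mul T v w c e)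
  rw [map_mul] at h2
  have h5 : F (du T (v c)) = T.dif x y (v c) := DFunLike.congr_fun h1 (v c)
  rw [hF, map_one, one_mul, h5] at h2
  rw [h2, map_sum]
  refine Finset.sum_congr rfl fun c _ => ?_
  rw [map_sum]
  refine Finset.sum_congr rfl fun e _ => ?_
  rw [map_smul, hF]

theorem act_mul' (g : O →ₐ[k] C) (x : B →ₐ[D] C) (j : ι' × ι') :
    T.act g x (w j.1) * x (w j.2) = ∑ i : ι × ι', mb T v w i j • (g (v i.1) * x (w i.2)) := by
  rw [act_mul T v w, Fintype.sum_prod_type]

theorem dif_mul' (x y : B →ₐ[D] C) (i : ι × ι') :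
    T.dif x y (v i.1) * y (w i.2) = ∑ j : ι' × ι', mt T v w j i • (x (w j.1) * y (w j.2)) := by
  rw [dif_mul T v w, Fintype.sum_prod_type]

lemma sum_smul_sum {I J L R M' : Type*} [Fintype I] [Fintype J] [CommRing R] [AddCommGroup M'] [Module R M']
    (M : Matrix I J R) (N : Matrix J L R) (X : I → M') (p : L) :
    ∑ j, N j p • ∑ i, M i j • X i = ∑ i, (M * N) i p • X i := by
  simp only [Finset.smul_sum, smul_smul, Matrix.mul_apply, Finset.sum_smul]
  rw [Finset.sum_comm]
  refine Finset.sum_congr rfl fun i _ => Finset.sum_congr rfl fun j _ => ?_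
  rw [mul_comm]

lemma sum_ext_aux {I R M : Type*} [Fintype I] [CommRing R] [AddCommGroup M] [Module R M] {X : I → M}
    (b : Module.Basis I R M) (hX : ∀ i, X i = b i)
    {f g : I → R} (h : ∑ i, f i • X i = ∑ i, g i • X i) : f = g := by
  simp only [hX] at h
  have h1 := congrArg b.equivFun h
  simpa [← Module.Basis.equivFun_symm_apply] using h1

lemma eq_one_aux {I R M : Type*} [Fintype I] [DecidableEq I] [CommRing R] [AddCommGroup M] [Module R M] {X : I → M}
    (b : Module.Basis I R M) (hX : ∀ i, X i = b i) (N : Matrix I I R)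
    (h : ∀ p, X p = ∑ i, N i p • X i) : N = 1 := by
  ext i p
  have h1 : (fun i => (1 : Matrix I I R) i p) = fun i => N i p := by
    refine sum_ext_aux b hX ?_
    rw [← h p, Finset.sum_eq_single p]
    · rw [Matrix.one_apply_eq, one_smul]
    · intro j _ hj
      rw [Matrix.one_apply_ne hj, zero_smul]
    · intro hp
      exact absurd (Finset.mem_univ _) hp
  exact (congrFun h1 i).symm

variable [DecidableEq ι] [DecidableEq ι']

theorem mb_mul_mt : mb T v w * mt T v w = 1 := by
  let g : O →ₐ[k] B ⊗[k] O := Algebra.TensorProduct.includeRight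
  let x : B →ₐ[D] B ⊗[k] O := Algebra.TensorProduct.includeLeft
  refine eq_one_aux (X := fun i : ι × ι' => g (v i.1) * x (w i.2))
    ((w.tensorProduct v).reindex (Equiv.prodComm _ _)) ?_ _ ?_
  · rintro ⟨c, e⟩
    rw [Module.Basis.reindex_apply, Equiv.prodComm_symm, Equiv.prodComm_apply, Prod.swap_prod_mk,
      Module.Basis.tensorProduct_apply]
    change ((1 : B) ⊗ₜ[k] v c) * (w e ⊗ₜ[k] (1 : O)) = _
    rw [Algebra.TensorProduct.tmul_mul_tmul, one_mul, mul_one]
  · intro p
    have h2 := dif_mul' T v w (T.act g x) x p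
    rw [T.dif_act] at h2
    rw [h2]
    simp only [act_mul' T v w g x]
    exact sum_smul_sum _ _ _ _

theorem mt_mul_mb : mt T v w * mb T v w = 1 := by
  let x : B →ₐ[D] B ⊗[D] B := Algebra.TensorProduct.includeLeft
  let y : B →ₐ[D] B ⊗[D] B := Algebra.TensorProduct.includeRight
  refine eq_one_aux (X := fun i : ι' × ι' => x (w i.1) * y (w i.2)) (w.tensorProduct w) ?_ _ ?_
  · rintro ⟨c, e⟩
    rw [Module.Basis.tensorProduct_apply]
    change (w c ⊗ₜ[D] (1 : B)) * ((1 : B) ⊗ₜ[D] w e) = _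
    rw [Algebra.TensorProduct.tmul_mul_tmul, one_mul, mul_one]
  · intro p
    have h2 := act_mul' T v w (T.dif x y) y p
    rw [T.act_dif] at h2
    rw [h2]
    simp only [dif_mul' T v w x y]
    exact sum_smul_sum _ _ _ _

include T v w in
/-- The ranks are equal. -/
theorem card_eq [Nontrivial D] [Nonempty ι'] : Fintype.card ι = Fintype.card ι' := by
  have h1 : Fintype.card (ι × ι') = Fintype.card (ι' × ι') := by
    let e : ((ι' × ι') → D) ≃ₗ[D] ((ι × ι') → D) := LinearEquiv.ofLinearMap (Matrix.toLin' (mb T v w))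
      (Matrix.toLin' (mt T v w)) (by rw [← Matrix.toLin'_mul, mb_mul_mt, Matrix.toLin'_one])
      (by rw [← Matrix.toLin'_mul, mt_mul_mb, Matrix.toLin'_one])
    exact (card_eq_of_linearEquiv D e).symm
  rw [Fintype.card_prod, Fintype.card_prod] at h1
  exact Nat.eq_of_mul_eq_mul_right Fintype.card_pos h1

end Mat

end K551.OrbAT
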