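import Groth.Agent.NonAbH1.K551.OrbAT

/-!
# Torsors in terms of algebras: sections
-/

set_option autoImplicit false
set_option linter.unusedSectionVars false
universe u v

open TensorProduct Matrix Kronecker

namespace K551.OrbAT

/-- the group functor -/
structure GS (k : Type u) (O : Type u) [Field k] [CommRing O] [Algebra k O] where
  /-- left translation -/
  T : AT k O k O
  /-- unit -/
  one : O →ₐ[k] k
  mul_one : ∀ {C : Type u} [CommRing C] [Algebra k C] (g : O →ₐ[k] C), T.act g ((Algebra.ofId k C).comp one) = g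
  one_mul : ∀ {C : Type u} [CommRing C] [Algebra k C] (g : O →ₐ[k] C), T.act ((Algebra.ofId k C).comp one) g = g

variable {k O D B : Type u} [Field k] [CommRing O] [Algebra k O] [CommRing D]
    [Algebra k D] [CommRing B] [Algebra k B] [Algebra D B] [IsScalarTower k D B]

/-- compatibility with the group structure -/
structure Compat (G : GS k O) (T : AT k O D B) : Prop where
  mul_act : ∀ {C : Type u} [CommRing C] [Algebra k C] [Algebra D C] [IsScalarTower k D C] (g h : O →ₐ[k] C)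
    (x : B →ₐ[D] C), T.act (G.T.act g h) x = T.act g (T.act h x)
  one_act : ∀ {C : Type u} [CommRing C] [Algebra k C] [Algebra D C] [IsScalarTower k D C] (x : B →ₐ[D] C),
    T.act ((Algebra.ofId k C).comp G.one) x = x

section Sec

variable (T : AT k O D B) {ι ι' : Type} [Fintype ι] [Fintype ι'] (v : Module.Basis ι k O) (w : Module.Basis ι' D B)
  {D₁ : Type u} [CommRing D₁] [Algebra k D₁] [Algebra D D₁] [IsScalarTower k D D₁] (x₀ : B →ₐ[D] D₁)

/-- the base point with values in `C` -/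
noncomputable def xC (C : Type u) [CommRing C] [Algebra D C] [Algebra D₁ C] [IsScalarTower D D₁ C] : B →ₐ[D] C :=
  (IsScalarTower.toAlgHom D D₁ C).comp x₀

/-- matrix of the section -/
noncomputable def hm : Matrix ι ι' D₁ := fun c a =>
  (Algebra.TensorProduct.basis D₁ v).repr (T.act (Algebra.TensorProduct.includeRight : O →ₐ[k] D₁ ⊗[k] O)
    (xC x₀ (D₁ ⊗[k] O)) (w a)) c

/-- inverse matrix of the section -/
noncomputable def hm' : Matrix ι' ι D₁ := fun a c =>
  (Algebra.TensorProduct.basis D₁ w).repr (T.dif (Algebra.TensorProduct.includeRight : B →ₐ[D] D₁ ⊗[D] B)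
    (xC x₀ (D₁ ⊗[D] B)) (v c)) a

variable {C : Type u} [CommRing C] [Algebra k C] [Algebra D C] [IsScalarTower k D C] [Algebra D₁ C]
  [IsScalarTower D D₁ C] [IsScalarTower k D₁ C]

lemma act_xC (g : O →ₐ[k] C) (a : ι') : T.act g (xC x₀ C) (w a) = ∑ c, hm T v w x₀ c a • g (v c) := by
  let F : D₁ ⊗[k] O →ₐ[D₁] C := Algebra.TensorProduct.lift (Algebra.ofId D₁ C) g (fun _ _ => Commute.all _ _)
  have hF : ∀ (b : D₁) (o : O), F (b ⊗ₜ[k] o) = algebraMap D₁ C b * g o := fun b o => Algebra.TensorProduct.lift_tmul _ _ _ _ _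
  let F' : D₁ ⊗[k] O →ₐ[D] C := F.restrictScalars D
  have h1 : F'.comp (T.act (Algebra.TensorProduct.includeRight : O →ₐ[k] D₁ ⊗[k] O) (xC x₀ (D₁ ⊗[k] O))) =
      T.act g (xC x₀ C) := by
    rw [T.act_comp]
    congr 1
    · ext t
      change F ((1 : D₁) ⊗ₜ[k] t) = _
      rw [hF, map_one, one_mul]
    · ext t
      change F ((x₀ t) ⊗ₜ[k] (1 : O)) = algebraMap D₁ C (x₀ t)
      rw [hF, map_one, mul_one]
  rw [← h1]
  have h2 := congrArg F ((Algebra.TensorProduct.basis D₁ v).sum_repr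
    (T.act (Algebra.TensorProduct.includeRight : O →ₐ[k] D₁ ⊗[k] O) (xC x₀ (D₁ ⊗[k] O)) (w a)))
  refine h2.symm.trans ?_
  rw [map_sum]
  refine Finset.sum_congr rfl fun c _ => ?_
  rw [map_smul, Algebra.TensorProduct.basis_apply, hF, map_one, one_mul]
  rfl

lemma dif_xC (x : B →ₐ[D] C) (c : ι) : T.dif x (xC x₀ C) (v c) = ∑ a, hm' T v w x₀ a c • x (w a) := by
  let F : D₁ ⊗[D] B →ₐ[D₁] C := Algebra.TensorProduct.lift (Algebra.ofId D₁ C) x (fun _ _ => Commute.all _ _)
  have hF : ∀ (b : D₁) (o : B), F (b ⊗ₜ[D] o) = algebraMap D₁ C b * x o := fun b o => Algebra.TensorProduct.lift_tmul _ _ _ _ _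
  let F' : D₁ ⊗[D] B →ₐ[D] C := F.restrictScalars D
  have h1 : (F'.restrictScalars k).comp (T.dif (Algebra.TensorProduct.includeRight : B →ₐ[D] D₁ ⊗[D] B) (xC x₀ (D₁ ⊗[D] B))) =
      T.dif x (xC x₀ C) := by
    rw [T.dif_comp]
    congr 1
    · ext t
      change F ((1 : D₁) ⊗ₜ[D] t) = _
      rw [hF, map_one, one_mul]
    · ext t
      change F ((x₀ t) ⊗ₜ[D] (1 : B)) = algebraMap D₁ C (x₀ t)
      rw [hF, map_one, mul_one]
  rw [← h1]
  have h2 := congrArg F ((Algebra.TensorProduct.basis D₁ w).sum_repr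
    (T.dif (Algebra.TensorProduct.includeRight : B →ₐ[D] D₁ ⊗[D] B) (xC x₀ (D₁ ⊗[D] B)) (v c)))
  refine h2.symm.trans ?_
  rw [map_sum]
  refine Finset.sum_congr rfl fun c _ => ?_
  rw [map_smul, Algebra.TensorProduct.basis_apply, hF, map_one, one_mul]
  rfl

variable [DecidableEq ι] [DecidableEq ι']

theorem hm_mul_hm' : hm T v w x₀ * hm' T v w x₀ = 1 := by
  let g : O →ₐ[k] D₁ ⊗[k] O := Algebra.TensorProduct.includeRight
  refine eq_one_aux (X := fun i => g (v i)) (Algebra.TensorProduct.basis D₁ v) ?_ _ ?_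
  · intro i
    rw [Algebra.TensorProduct.basis_apply]
    rfl
  · intro p
    have h2 := dif_xC T v w x₀ (T.act g (xC x₀ (D₁ ⊗[k] O))) p
    rw [T.dif_act] at h2
    rw [h2]
    simp only [act_xC T v w x₀ g]
    exact sum_smul_sum _ _ _ _

theorem hm'_mul_hm : hm' T v w x₀ * hm T v w x₀ = 1 := by
  let x : B →ₐ[D] D₁ ⊗[D] B := Algebra.TensorProduct.includeRight
  refine eq_one_aux (X := fun i => x (w i)) (Algebra.TensorProduct.basis D₁ w) ?_ _ ?_
  · intro i
    rw [Algebra.TensorProduct.basis_apply]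
    rfl
  · intro p
    have h2 := act_xC T v w x₀ (T.dif x (xC x₀ (D₁ ⊗[D] B))) p
    rw [T.act_dif] at h2
    rw [h2]
    simp only [dif_xC T v w x₀ x]
    exact sum_smul_sum _ _ _ _

/-- the main identity -/
theorem main_identity (G : GS k O) (hG : Compat G T) :
    (mb G.T v v).map (algebraMap k D₁) * (hm T v w x₀ ⊗ₖ hm T v w x₀) =
      ((1 : Matrix ι ι D₁) ⊗ₖ hm T v w x₀) * (mb T v w).map (algebraMap D D₁) := by
  let C := (D₁ ⊗[k] O) ⊗[k] O
  let g : O →ₐ[k] C := Algebra.TensorProduct.includeRight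
  let g' : O →ₐ[k] C := (Algebra.TensorProduct.includeLeft : D₁ ⊗[k] O →ₐ[k] C).comp
    (Algebra.TensorProduct.includeRight : O →ₐ[k] D₁ ⊗[k] O)
  let bas : Module.Basis (ι × ι) D₁ C := ((Algebra.TensorProduct.basis D₁ v).tensorProduct v).reindex (Equiv.prodComm _ _)
  have hbas : ∀ i : ι × ι, g (v i.1) * g' (v i.2) = bas i := by
    rintro ⟨c, e⟩
    rw [Module.Basis.reindex_apply, Equiv.prodComm_symm, Equiv.prodComm_apply, Prod.swap_prod_mk,
      Module.Basis.tensorProduct_apply, Algebra.TensorProduct.basis_apply]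
    change ((1 : D₁ ⊗[k] O) ⊗ₜ[k] v c) * (((1 : D₁) ⊗ₜ[k] v e) ⊗ₜ[k] (1 : O)) = _
    rw [Algebra.TensorProduct.tmul_mul_tmul, one_mul, mul_one]
  have key : ∀ j : ι' × ι', T.act g (T.act g' (xC x₀ C)) (w j.1) * T.act g' (xC x₀ C) (w j.2) =
      ∑ i : ι × ι, ((mb G.T v v).map (algebraMap k D₁) * (hm T v w x₀ ⊗ₖ hm T v w x₀)) i j • (g (v i.1) * g' (v i.2)) := by
    intro j
    rw [← hG.mul_act, act_xC T v w x₀, act_xC T v w x₀, Finset.sum_mul_sum]
    have h1 : ∀ c e, (hm T v w x₀ c j.1 • G.T.act g g' (v c)) * (hm T v w x₀ e j.2 • g' (v e)) =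
      (hm T v w x₀ ⊗ₖ hm T v w x₀) (c, e) j • (G.T.act g g' (v c) * g' (v e)) := by
      intro c e
      rw [smul_mul_smul_comm]
      rfl
    simp only [h1]
    have h2 : ∀ c e, G.T.act g g' (v c) * g' (v e) = ∑ i : ι × ι, ((mb G.T v v).map (algebraMap k D₁)) i (c, e) •
        (g (v i.1) * g' (v i.2)) := by
      intro c e
      rw [act_mul' G.T v v g g' (c, e)]
      refine Finset.sum_congr rfl fun i _ => ?_
      rw [Matrix.map_apply, algebraMap_smul]
    simp only [h2]
    rw [← Fintype.sum_prod_type' (f := fun c e => (hm T v w x₀ ⊗ₖ hm T v w x₀) (c, e) j •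
      ∑ i : ι × ι, ((mb G.T v v).map (algebraMap k D₁)) i (c, e) • (g (v i.1) * g' (v i.2)))]
    exact sum_smul_sum _ _ _ _
  have key' : ∀ j : ι' × ι', T.act g (T.act g' (xC x₀ C)) (w j.1) * T.act g' (xC x₀ C) (w j.2) =
      ∑ i : ι × ι, (((1 : Matrix ι ι D₁) ⊗ₖ hm T v w x₀) * (mb T v w).map (algebraMap D D₁)) i j •
        (g (v i.1) * g' (v i.2)) := by
    intro j
    rw [act_mul' T v w g (T.act g' (xC x₀ C)) j]
    have h1 : ∀ i : ι × ι', g (v i.1) * T.act g' (xC x₀ C) (w i.2) =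
        ∑ p : ι × ι, ((1 : Matrix ι ι D₁) ⊗ₖ hm T v w x₀) p i • (g (v p.1) * g' (v p.2)) := by
      rintro ⟨c, e⟩
      have h3 : ∑ p : ι × ι, ((1 : Matrix ι ι D₁) ⊗ₖ hm T v w x₀) p (c, e) • (g (v p.1) * g' (v p.2)) =
          ∑ e', hm T v w x₀ e' e • (g (v c) * g' (v e')) := by
        rw [Fintype.sum_prod_type, Finset.sum_eq_single c]
        · refine Finset.sum_congr rfl fun e' _ => ?_
          rw [Matrix.kronecker_apply, Matrix.one_apply_eq, one_mul]
        · intro c' _ hc'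
          refine Finset.sum_eq_zero fun e' _ => ?_
          rw [Matrix.kronecker_apply, Matrix.one_apply_ne hc', zero_mul, zero_smul]
        · intro h
          exact absurd (Finset.mem_univ _) h
      rw [h3, act_xC T v w x₀, Finset.mul_sum]
      refine Finset.sum_congr rfl fun e' _ => ?_
      rw [mul_smul_comm]
    simp only [h1]
    have h2 : ∀ (i : ι × ι') (z : C), mb T v w i j • z = ((mb T v w).map (algebraMap D D₁)) i j • z := by
      intro i z
      rw [Matrix.map_apply, algebraMap_smul]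
    simp only [h2]
    exact sum_smul_sum _ _ _ _
  ext i j
  exact congrFun (sum_ext_aux bas hbas ((key j).symm.trans (key' j))) i

end Sec

end K551.OrbAT
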