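import Groth.Agent.NonAbH1.K551.OrbSimple2

/-!
# The ring of orbit functions has no stable ideals
-/

set_option autoImplicit false
set_option linter.unusedSectionVars false
universe u v

open TensorProduct Matrix Kronecker

namespace K551.OrbUniv

open OrbBase

variable {K : Type u} [Field K] {ι : Type} [Fintype ι] [DecidableEq ι]

variable {Λ : Type u} [CommRing Λ] [Algebra K Λ] {π : Λ →ₐ[K] K}
  {P : Type u} [CommRing P] [Algebra K P] (U : UGL π ι P) (β θ : Matrix (ι × ι) (ι × ι) Λ)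

lemma row_map {D D' : Type u} [CommRing D] [CommRing D'] (f : D →+* D') (M : Matrix ι ι D) (e : Matrix Unit ι D) :
    (row M e).map f = row (M.map f) (e.map f) := by
  ext i j
  simp [row]

lemma isIntegral_BQ (hβθ : β * θ = 1) (ε : Matrix Unit ι K) (hε : ε ≠ 0) (hβ : row 1 ε * β.map π = row 1 ε)
    (q : Q K ι) : IsIntegral (BQ U β θ) q := by
  have h1 : rb π (Q K ι) β * rb π (Q K ι) θ = 1 := by
    have h2 : (β * θ).map ((algebraMap K (Q K ι)).comp π.toRingHom) = 1 := by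
      rw [hβθ]
      exact ((algebraMap K (Q K ι)).comp π.toRingHom).mapMatrix.map_one
    rw [Matrix.map_mul] at h2
    exact h2
  have h2 : ε.map (algebraMap K (Q K ι)) ≠ 0 := by
    intro h
    apply hε
    ext i j
    have h3 : algebraMap K (Q K ι) (ε i j) = 0 := congrFun (congrFun h i) j
    exact (map_eq_zero_iff _ (FaithfulSMul.algebraMap_injective K (Q K ι))).1 h3
  have h3 : row 1 (ε.map (algebraMap K (Q K ι))) * rb π (Q K ι) β = row 1 (ε.map (algebraMap K (Q K ι))) := by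
    have h4 := congrArg (fun M => M.map (algebraMap K (Q K ι))) hβ
    rw [Matrix.map_mul, row_map, show (1 : Matrix ι ι K).map (algebraMap K (Q K ι)) = 1 from
      (algebraMap K (Q K ι)).mapMatrix.map_one] at h4
    exact h4
  have h4 := isIntegral_entries (BQ U β θ) _ _ h1 _ h2 h3 (g0 K ι) (bet_mem_BQ U β θ) (tht_mem_BQ U β θ)
  exact isIntegral_q _ (fun a b => (h4 a b).1) (fun a b => (h4 a b).2) q

lemma tr_cc (γ : GL ι K) (q : Q K ι) : tr U (GeneralLinearGroup.map (algebraMap K Λ) γ) (U.cc q) =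
    U.cc (qpt (gk K (Q K ι) γ * g0 K ι) q) := by
  have h : (tr U (GeneralLinearGroup.map (algebraMap K Λ) γ)).comp U.cc = U.cc.comp (qpt (gk K (Q K ι) γ * g0 K ι)) := by
    apply q_ext'
    have h1 : GeneralLinearGroup.map ((tr U (GeneralLinearGroup.map (algebraMap K Λ) γ)).comp U.cc).toRingHom (g0 K ι) =
        ga π P (gm (tr U (GeneralLinearGroup.map (algebraMap K Λ) γ)) U.uu) := by
      rw [ga_gm, U.ga_uu]
      rfl
    have h2 : GeneralLinearGroup.map (U.cc.comp (qpt (gk K (Q K ι) γ * g0 K ι))).toRingHom (g0 K ι) =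
        GeneralLinearGroup.map U.cc.toRingHom (gk K (Q K ι) γ * g0 K ι) := by
      conv_rhs => rw [← map_qpt (K := K) (gk K (Q K ι) γ * g0 K ι)]
      rfl
    have h3 : ga π P (gr K P (GeneralLinearGroup.map (algebraMap K Λ) γ)) = gk K P γ := by
      ext a b
      change aug π P ((1 : P) ⊗ₜ[K] (algebraMap K Λ (γ a b))) = algebraMap K P (γ a b)
      rw [aug_tmul, AlgHom.commutes, Algebra.algebraMap_eq_smul_one (A := P)]
      rfl
    have h4 : GeneralLinearGroup.map U.cc.toRingHom (gk K (Q K ι) γ) = gk K P γ := by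
      ext a b
      exact U.cc.commutes _
    rw [h1, h2, gm_tr, map_mul, map_mul, h3, h4, U.ga_uu]
  exact DFunLike.congr_fun h q

/-- The ring of orbit functions has no nontrivial stable ideal. -/
theorem eq_top_of_stable [Infinite K] (hβθ : β * θ = 1) (ε : Matrix Unit ι K) (hε : ε ≠ 0)
    (hβ : row 1 ε * β.map π = row 1 ε) (𝔞 : Ideal (OA U β θ)) (h0 : 𝔞 ≠ ⊥)
    (hst : ∀ (γ : GL ι Λ) (f : OA U β θ), f ∈ 𝔞 → (⟨tr U γ f.1, tr_mem_OA U β θ γ f.2⟩ : OA U β θ) ∈ 𝔞) : 𝔞 = ⊤ := by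
  obtain ⟨f₀, hf₀, hf₀0⟩ := Submodule.exists_mem_ne_zero_of_ne_bot h0
  let W : AddSubgroup P := 𝔞.toAddSubgroup.map (OA U β θ).val.toRingHom.toAddMonoidHom
  obtain ⟨q, hq0, hq⟩ := U.exists_inv W ⟨f₀.1, ⟨f₀, hf₀, rfl⟩, fun h => hf₀0 (Subtype.ext h)⟩ (by
    rintro γ _ ⟨f, hf, rfl⟩
    exact ⟨_, hst γ f hf, rfl⟩)
  -- the ideal of `BQ`
  let B := BQ U β θ
  let j : B →+* OA U β θ := (U.cc.toRingHom.comp B.val.toRingHom).codRestrict (OA U β θ).toSubring (fun x => x.2)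
  have hj : ∀ x : B, (j x : P) = U.cc x := fun x => rfl
  let 𝔟 : Ideal B := 𝔞.comap j
  obtain ⟨f, hf, hfq⟩ := hq
  have hqB : q ∈ B := by
    change U.cc q ∈ OA U β θ
    rw [← hfq]
    exact f.2
  have hq𝔟 : (⟨q, hqB⟩ : B) ∈ 𝔟 := by
    change j ⟨q, hqB⟩ ∈ 𝔞
    have : j ⟨q, hqB⟩ = f := Subtype.ext hfq.symm
    rw [this]
    exact hf
  by_contra hne
  have h𝔟 : 𝔟 ≠ ⊤ := by
    intro h
    apply hne
    rw [Ideal.eq_top_iff_one] at h ⊢
    have h2 : j 1 ∈ 𝔞 := h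
    rwa [map_one] at h2
  obtain ⟨𝔪, h𝔪, hle⟩ := Ideal.exists_le_maximal 𝔟 h𝔟
  have : Algebra.IsIntegral B (Q K ι) := ⟨isIntegral_BQ U β θ hβθ ε hε hβ⟩
  obtain ⟨𝔫, h𝔫, hcomap⟩ := Ideal.exists_ideal_over_prime_of_isIntegral_of_isDomain (S := Q K ι) 𝔪 (by
    rw [(RingHom.injective_iff_ker_eq_bot _).1 (show Function.Injective (algebraMap B (Q K ι)) from
      Subtype.val_injective)]
    exact bot_le)
  let κ := Q K ι ⧸ 𝔫
  let pr : Q K ι →ₐ[K] κ := Ideal.Quotient.mkₐ K 𝔫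
  have hz : ∀ γ : GL ι K, qpt (gk K κ γ * GeneralLinearGroup.map pr.toRingHom (g0 K ι)) q = 0 := by
    intro γ
    have h1 : qpt (gk K κ γ * GeneralLinearGroup.map pr.toRingHom (g0 K ι)) = pr.comp (qpt (gk K (Q K ι) γ * g0 K ι)) := by
      apply q_ext'
      rw [map_qpt]
      have h2 : GeneralLinearGroup.map (pr.comp (qpt (gk K (Q K ι) γ * g0 K ι))).toRingHom (g0 K ι) =
        GeneralLinearGroup.map pr.toRingHom (GeneralLinearGroup.map (qpt (gk K (Q K ι) γ * g0 K ι)).toRingHom (g0 K ι)) := rfl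
      rw [h2, map_qpt, map_mul]
      congr 1
    rw [h1, AlgHom.comp_apply]
    have h3 : U.cc (qpt (gk K (Q K ι) γ * g0 K ι) q) ∈ OA U β θ := by
      rw [← tr_cc]
      exact tr_mem_OA U β θ _ hqB
    have h4 : (⟨qpt (gk K (Q K ι) γ * g0 K ι) q, h3⟩ : B) ∈ 𝔟 := by
      change j _ ∈ 𝔞
      have h5 := hst (GeneralLinearGroup.map (algebraMap K Λ) γ) _ hq𝔟
      convert h5 using 1
      apply Subtype.ext
      exact (tr_cc U γ q).symm
    have h5 := hle h4
    rw [← hcomap] at h5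
    exact Ideal.Quotient.eq_zero_iff_mem.2 h5
  exact hq0 (eq_zero_of_forall (R := κ) _ q hz)

end K551.OrbUniv
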