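import Groth.Agent.NonAbH1.K551.OrbAT2
import Groth.Agent.NonAbH1.K551.OrbSimple3

/-!
# Torsors in terms of algebras: sections and orbits
-/

set_option autoImplicit false
set_option linter.unusedSectionVars false
universe u v

open TensorProduct Matrix Kronecker

namespace K551.OrbAT

open K551.OrbUniv

section Aux

variable {D : Type u} [CommRing D] {ι : Type} [Fintype ι] [DecidableEq ι]

lemma one_kron_mul (M N : Matrix ι ι D) : ((1 : Matrix ι ι D) ⊗ₖ M) * ((1 : Matrix ι ι D) ⊗ₖ N) =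
    (1 : Matrix ι ι D) ⊗ₖ (M * N) := by
  rw [← Matrix.mul_kronecker_mul, mul_one]

lemma bet_mul_tht (β θ : Matrix (ι × ι) (ι × ι) D) (h : β * θ = 1) (g : GL ι D) : bet β g * tht θ g = 1 := by
  have h1 : (((g⁻¹ : GL ι D) : Matrix ι ι D) ⊗ₖ ((g⁻¹ : GL ι D) : Matrix ι ι D)) * ((g : Matrix ι ι D) ⊗ₖ (g : Matrix ι ι D)) = 1 := by
    rw [← Matrix.mul_kronecker_mul, ← Units.val_mul, inv_mul_cancel, Units.val_one, Matrix.one_kronecker_one]
  have h2 : ((1 : Matrix ι ι D) ⊗ₖ (g : Matrix ι ι D)) * ((1 : Matrix ι ι D) ⊗ₖ ((g⁻¹ : GL ι D) : Matrix ι ι D)) = 1 := by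
    rw [one_kron_mul, ← Units.val_mul, mul_inv_cancel, Units.val_one, Matrix.one_kronecker_one]
  rw [bet, tht]
  simp only [Matrix.mul_assoc]
  rw [← Matrix.mul_assoc (((g⁻¹ : GL ι D) : Matrix ι ι D) ⊗ₖ ((g⁻¹ : GL ι D) : Matrix ι ι D)), h1, Matrix.one_mul,
    ← Matrix.mul_assoc β, h, Matrix.one_mul, h2]

end Aux

variable {k O D B : Type u} [Field k] [CommRing O] [Algebra k O] [CommRing D]
    [Algebra k D] [CommRing B] [Algebra k B] [Algebra D B] [IsScalarTower k D B]
    (T : AT k O D B) {ι : Type} [Fintype ι] [DecidableEq ι] (v : Module.Basis ι k O) (w : Module.Basis ι D B)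
    {D₁ : Type u} [CommRing D₁] [Algebra k D₁] [Algebra D D₁] [IsScalarTower k D D₁]

/-- A section gives a point of the orbit. -/
theorem exists_gl_of_section (G : GS k O) (hG : Compat G T) (x₀ : B →ₐ[D] D₁) :
    ∃ g : GL ι D₁, (mb T v w).map (algebraMap D D₁) = bet ((mb G.T v v).map (algebraMap k D₁)) g ∧
      (mt T v w).map (algebraMap D D₁) = tht ((mt G.T v v).map (algebraMap k D₁)) g := by
  let g : GL ι D₁ := ⟨hm' T v w x₀, hm T v w x₀, hm'_mul_hm T v w x₀, hm_mul_hm' T v w x₀⟩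
  have h1 : (mb T v w).map (algebraMap D D₁) = bet ((mb G.T v v).map (algebraMap k D₁)) g := by
    have h2 := main_identity T v w x₀ G hG
    have h3 : (g : Matrix ι ι D₁) = hm' T v w x₀ := rfl
    have h4 : ((g⁻¹ : GL ι D₁) : Matrix ι ι D₁) = hm T v w x₀ := rfl
    rw [bet, h3, h4, Matrix.mul_assoc, h2, ← Matrix.mul_assoc, one_kron_mul, hm'_mul_hm, Matrix.one_kronecker_one,
      Matrix.one_mul]
  refine ⟨g, h1, ?_⟩
  have h5 : (mb G.T v v).map (algebraMap k D₁) * (mt G.T v v).map (algebraMap k D₁) = 1 := by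
    rw [← Matrix.map_mul, mb_mul_mt]
    exact (algebraMap k D₁).mapMatrix.map_one
  have h6 : (mt T v w).map (algebraMap D D₁) * (mb T v w).map (algebraMap D D₁) = 1 := by
    rw [← Matrix.map_mul, mt_mul_mb]
    exact (algebraMap D D₁).mapMatrix.map_one
  have h7 := bet_mul_tht _ _ h5 g
  rw [← h1] at h7
  calc (mt T v w).map (algebraMap D D₁) = (mt T v w).map (algebraMap D D₁) *
      ((mb T v w).map (algebraMap D D₁) * tht ((mt G.T v v).map (algebraMap k D₁)) g) := by rw [h7, Matrix.mul_one]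
    _ = _ := by rw [← Matrix.mul_assoc, h6, Matrix.one_mul]

/-- the counit as a row -/
noncomputable def er (G : GS k O) (D₁ : Type u) [CommRing D₁] [Algebra k D₁] : Matrix Unit ι D₁ :=
  fun _ c => algebraMap k D₁ (G.one (v c))

lemma er_er (G : GS k O) : (er v G D₁ ⊗ₖ er v G D₁) * (mb G.T v v).map (algebraMap k D₁) = er v G D₁ ⊗ₖ er v G D₁ := by
  ext ⟨⟨⟩, ⟨⟩⟩ ⟨a, b⟩
  have h1 := act_mul' G.T v v (C := D₁) ((Algebra.ofId k D₁).comp G.one) ((Algebra.ofId k D₁).comp G.one) (a, b)
  rw [G.one_mul] at h1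
  have h2 : (er v G D₁ ⊗ₖ er v G D₁) ((), ()) (a, b) = ((Algebra.ofId k D₁).comp G.one) (v a) *
    ((Algebra.ofId k D₁).comp G.one) (v b) := rfl
  rw [h2]
  refine Eq.trans ?_ h1.symm
  rw [Matrix.mul_apply]
  refine Finset.sum_congr rfl fun i _ => ?_
  rw [Matrix.map_apply, mul_comm, Algebra.smul_def]
  rfl

lemma row_er (G : GS k O) : row 1 (er v G k) * mb G.T v v = row 1 (er v G k) := by
  ext ⟨c, ⟨⟩⟩ ⟨a, b⟩
  have h1 := act_mul' G.T v v (C := O) (AlgHom.id k O) ((Algebra.ofId k O).comp G.one) (a, b)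
  rw [G.mul_one] at h1
  have h3 : ∀ z (i : ι), z * ((Algebra.ofId k O).comp G.one) (v i) = G.one (v i) • z := by
    intro z i
    rw [mul_comm, Algebra.smul_def]
    rfl
  simp only [AlgHom.id_apply, h3] at h1
  have h2 := congrArg (fun z => v.repr z c) h1
  simp only [map_smul, map_sum, Module.Basis.repr_self, Finsupp.coe_finsetSum, Finset.sum_apply,
    Finsupp.smul_apply, smul_eq_mul] at h2
  rw [row_mul_apply]
  have h4 : row 1 (er v G k) (c, ()) (a, b) = G.one (v b) * (Finsupp.single a (1 : k)) c := by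
    change (1 : Matrix ι ι k) c a * algebraMap k k (G.one (v b)) = _
    rw [mul_comm]
    congr 1
    by_cases h : a = c
    · subst h; rw [Matrix.one_apply_eq, Finsupp.single_eq_same]
    · rw [Matrix.one_apply_ne (Ne.symm h), Finsupp.single_eq_of_ne (Ne.symm h)]
  rw [h4, h2]
  symm
  rw [Fintype.sum_prod_type, Finset.sum_eq_single c]
  · refine Finset.sum_congr rfl fun d _ => ?_
    rw [Finsupp.single_eq_same, mul_one, mul_comm]
    rfl
  · intro c' _ hc'
    refine Finset.sum_eq_zero fun d _ => ?_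
    rw [Finsupp.single_eq_of_ne hc'.symm, mul_zero, mul_zero]
  · intro h
    exact absurd (Finset.mem_univ _) h

lemma er_ne_zero (G : GS k O) : er v G k ≠ 0 := by
  intro h
  have h1 : ∀ c, G.one (v c) = 0 := fun c => congrFun (congrFun h ()) c
  have h2 : G.one.toLinearMap = 0 := v.ext fun c => h1 c
  have h3 : G.one 1 = 0 := DFunLike.congr_fun h2 1
  rw [map_one] at h3
  exact one_ne_zero h3

/-- A point of the orbit gives a section. -/
theorem nonempty_section_of_gl (G : GS k O) (hG : Compat G T) (g : GL ι D₁)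
    (hg : (mb T v w).map (algebraMap D D₁) = bet ((mb G.T v v).map (algebraMap k D₁)) g) : Nonempty (B →ₐ[D] D₁) := by
  let h : Matrix ι ι D₁ := ((g⁻¹ : GL ι D₁) : Matrix ι ι D₁)
  let r : Matrix Unit ι D₁ := er v G D₁ * h
  let σ : B →ₗ[D] D₁ := w.constr D (fun a => r () a)
  have hσ : ∀ a, σ (w a) = r () a := fun a => w.constr_basis D _ a
  have hr : (er v G D₁ ⊗ₖ r) * (mb T v w).map (algebraMap D D₁) = r ⊗ₖ r := by
    have h1 : (er v G D₁ ⊗ₖ r) * ((1 : Matrix ι ι D₁) ⊗ₖ (g : Matrix ι ι D₁)) = er v G D₁ ⊗ₖ er v G D₁ := by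
      rw [← Matrix.mul_kronecker_mul, Matrix.mul_one, Matrix.mul_assoc, ← Units.val_mul, inv_mul_cancel,
        Units.val_one, Matrix.mul_one]
    rw [hg, bet, Matrix.mul_assoc, ← Matrix.mul_assoc, h1, ← Matrix.mul_assoc, er_er, ← Matrix.mul_kronecker_mul]
  have hmul : ∀ a b, σ (w a * w b) = σ (w a) * σ (w b) := by
    intro a b
    have h1 := act_mul' T v w (C := B) ((Algebra.ofId k B).comp G.one) (AlgHom.id D B) (a, b)
    rw [hG.one_act] at h1
    have h2 : σ (w a * w b) = ∑ i : ι × ι, mb T v w i (a, b) • (G.one (v i.1) • σ (w i.2)) := by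
      have h3 : ∀ i : ι × ι, ((Algebra.ofId k B).comp G.one) (v i.1) * w i.2 =
          algebraMap k D (G.one (v i.1)) • w i.2 := by
        intro i
        rw [Algebra.smul_def, ← IsScalarTower.algebraMap_apply k D B]
        rfl
      simp only [h3, AlgHom.id_apply] at h1
      rw [h1, map_sum]
      refine Finset.sum_congr rfl fun i _ => ?_
      rw [map_smul, map_smul, algebraMap_smul]
    rw [h2, hσ, hσ]
    have h4 := congrFun (congrFun hr ((), ())) (a, b)
    rw [Matrix.kronecker_apply] at h4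
    rw [← h4, Matrix.mul_apply]
    refine Finset.sum_congr rfl fun i _ => ?_
    rw [hσ, Matrix.map_apply, Matrix.kronecker_apply, mul_comm, Algebra.smul_def, Algebra.smul_def]
    rfl
  have hmul' : ∀ x y, σ (x * y) = σ x * σ y := by
    intro x y
    have h1 : (LinearMap.mul D B).compr₂ σ = (LinearMap.mul D D₁).compl₁₂ σ σ :=
      w.ext fun a => w.ext fun b => hmul a b
    exact LinearMap.congr_fun (LinearMap.congr_fun h1 x) y
  have hone : σ 1 = 1 := by
    have h1 : ∀ a, σ 1 * r () a = r () a := by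
      intro a
      rw [← hσ, ← hmul', _root_.one_mul]
    have h2 : ∀ c, σ 1 * er v G D₁ () c = er v G D₁ () c := by
      intro c
      have h3 : er v G D₁ = r * (g : Matrix ι ι D₁) := by
        rw [Matrix.mul_assoc, ← Units.val_mul, inv_mul_cancel, Units.val_one, Matrix.mul_one]
      rw [h3, Matrix.mul_apply, Finset.mul_sum]
      refine Finset.sum_congr rfl fun a _ => ?_
      rw [← mul_assoc, h1]
    have h3 : (1 : D₁) = ∑ c, algebraMap k D₁ (v.repr 1 c) * er v G D₁ () c := by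
      have h4 := congrArg (fun z => algebraMap k D₁ (G.one z)) (v.sum_repr 1)
      simp only [map_sum, map_smul, map_one, smul_eq_mul, map_mul] at h4
      exact h4.symm
    have h5 : σ 1 * 1 = 1 := by
      conv_lhs => rw [h3]
      conv_rhs => rw [h3]
      rw [Finset.mul_sum]
      refine Finset.sum_congr rfl fun c _ => ?_
      rw [mul_left_comm, h2]
    rwa [_root_.mul_one] at h5
  exact ⟨AlgHom.ofLinearMap σ hone hmul'⟩

end K551.OrbAT
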