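import Groth.Agent.Flat2D.GenFibAlg
import Mathlib.RingTheory.RingHom.FaithfullyFlat

/-!
# Faithful flatness by translation
-/

set_option autoImplicit false
set_option linter.unusedSectionVars false
universe u v

open TensorProduct

namespace K551.OrbFlat

variable {A B : Type u} [CommRing A] [CommRing B] [Algebra A B]

/-- flatness over `D(f)` -/
def Fl (A B : Type u) [CommRing A] [CommRing B] [Algebra A B] (f : A) : Prop :=
  ∀ (B' : Type u) [CommRing B'] [Algebra B B'] [IsLocalization.Away (algebraMap A B f) B'],
    ((algebraMap B B').comp (algebraMap A B)).Flat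

lemma fl_of_free (f : A) (h : Module.Free (Localization.Away f) (Localization.Away f ⊗[A] B)) : Fl A B f := by
  intro B' _ _ _
  let _ : Algebra A B' := ((algebraMap B B').comp (algebraMap A B)).toAlgebra
  have : IsScalarTower A B B' := IsScalarTower.of_algebraMap_eq' rfl
  have h1 : Module.Flat A (Localization.Away f ⊗[A] B) :=
    Module.Flat.trans A (Localization.Away f) (Localization.Away f ⊗[A] B)
  have h2 : IsLocalization (Algebra.algebraMapSubmonoid B (Submonoid.powers f)) B' := by
    rw [Algebra.algebraMapSubmonoid_powers]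
    infer_instance
  have h3 : IsLocalizedModule (Submonoid.powers f) (IsScalarTower.toAlgHom A B B').toLinearMap :=
    isLocalizedModule_iff_isLocalization.2 h2
  have h4 : IsLocalizedModule (Submonoid.powers f) (TensorProduct.mk A (Localization.Away f) B 1) := inferInstance
  have e := IsLocalizedModule.linearEquiv (Submonoid.powers f) (IsScalarTower.toAlgHom A B B').toLinearMap
    (TensorProduct.mk A (Localization.Away f) B 1)
  have h5 : Module.Flat A B' := Module.Flat.of_linearEquiv e
  exact RingHom.flat_algebraMap_iff.2 h5

lemma fl_translate (e : A ≃+* A) (e' : B ≃+* B) (he : ∀ a, e' (algebraMap A B a) = algebraMap A B (e a)) (f : A)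
    (h : Fl A B f) : Fl A B (e f) := by
  intro B' _ _ hB'
  let _ : Algebra B B' := ‹Algebra B B'›
  have key := @IsLocalization.isLocalization_of_base_ringEquiv B _ (Submonoid.powers (algebraMap A B (e f))) B' _ _ B _
    hB' e'.symm
  rw [Submonoid.map_powers] at key
  have h1 : (e'.symm : B →+* B) (algebraMap A B (e f)) = algebraMap A B f := by
    rw [← he]
    exact e'.symm_apply_apply _
  have h1' : e'.symm.toMonoidHom (algebraMap A B (e f)) = algebraMap A B f := h1
  have h2 := @h B' _ ((algebraMap B B').comp e'.symm.symm.toRingHom).toAlgebra (by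
    rw [← h1']
    exact key)
  have h3 : (((algebraMap B B').comp e'.symm.symm.toRingHom).comp (algebraMap A B)) =
      ((algebraMap B B').comp (algebraMap A B)).comp e.toRingHom := by
    ext a
    exact congrArg (algebraMap B B') (he a)
  have h4 : (((algebraMap B B').comp e'.symm.symm.toRingHom).comp (algebraMap A B)).Flat := h2
  rw [h3] at h4
  exact (RingHom.Flat.comp_iff_of_bijective_right e.bijective).1 h4

lemma exists_prime_of_free [IsDomain B] [FaithfulSMul A B] (f : A) (hf : f ≠ 0)
    (h : Module.Free (Localization.Away f) (Localization.Away f ⊗[A] B))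
    (p : PrimeSpectrum A) (hp : f ∉ p.asIdeal) : ∃ q : PrimeSpectrum B, PrimeSpectrum.comap (algebraMap A B) q = p := by
  have hn : Nontrivial (Localization.Away f ⊗[A] B) := by
    have hinj : Function.Injective (TensorProduct.mk A (Localization.Away f) B 1) := by
      rw [← LinearMap.ker_eq_bot, eq_bot_iff]
      intro x hx
      have h4 : IsLocalizedModule (Submonoid.powers f) (TensorProduct.mk A (Localization.Away f) B 1) := inferInstance
      obtain ⟨⟨_, n, rfl⟩, hc⟩ := (IsLocalizedModule.eq_zero_iff (Submonoid.powers f) (TensorProduct.mk A (Localization.Away f) B 1)).1 hx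
      rw [Submonoid.smul_def, Algebra.smul_def] at hc
      rcases mul_eq_zero.1 hc with h5 | h5
      · exfalso
        simp only at h5
        rw [map_pow] at h5
        exact pow_ne_zero n ((map_ne_zero_iff _ (FaithfulSMul.algebraMap_injective A B)).2 hf) h5
      · exact h5
    exact hinj.nontrivial
  have hff : Module.FaithfullyFlat (Localization.Away f) (Localization.Away f ⊗[A] B) := inferInstance
  obtain ⟨p', hp'⟩ : ∃ p' : PrimeSpectrum (Localization.Away f),
      PrimeSpectrum.comap (algebraMap A (Localization.Away f)) p' = p := by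
    have h1 := PrimeSpectrum.localization_away_comap_range (Localization.Away f) f
    have h2 : p ∈ (PrimeSpectrum.basicOpen f : Set (PrimeSpectrum A)) := hp
    rw [← h1] at h2
    exact h2
  obtain ⟨q', hq'⟩ := PrimeSpectrum.comap_surjective_of_faithfullyFlat
    (A := Localization.Away f) (B := Localization.Away f ⊗[A] B) p'
  refine ⟨PrimeSpectrum.comap (Algebra.TensorProduct.includeRight : B →ₐ[A] Localization.Away f ⊗[A] B).toRingHom q', ?_⟩
  rw [← hp', ← hq', ← PrimeSpectrum.comap_comp_apply, ← PrimeSpectrum.comap_comp_apply]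
  congr 1
  ext a
  change (1 : Localization.Away f) ⊗ₜ[A] (algebraMap A B a) = (algebraMap A (Localization.Away f) a) ⊗ₜ[A] (1 : B)
  rw [Algebra.algebraMap_eq_smul_one, tmul_smul, smul_tmul', ← Algebra.algebraMap_eq_smul_one]

/-- An algebra of finite type over a domain, with enough automorphisms, is faithfully flat. -/
theorem faithfullyFlat_of_translates [IsDomain A] [IsDomain B] [FaithfulSMul A B] [Algebra.FiniteType A B]
    {I : Type*} (e : I → A ≃+* A) (e' : I → B ≃+* B) (he : ∀ i a, e' i (algebraMap A B a) = algebraMap A B (e i a))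
    (hs : ∀ f : A, f ≠ 0 → Ideal.span (Set.range fun i => e i f) = ⊤) : (algebraMap A B).FaithfullyFlat := by
  obtain ⟨f, hf, hfree⟩ := Groth.Agent.Flat2D.GenFibAlg.exists_free A B
  rw [RingHom.FaithfullyFlat.iff_flat_and_comap_surjective]
  constructor
  · refine RingHom.Flat.ofLocalizationSpanTarget (algebraMap A B) (Set.range fun i => algebraMap A B (e i f)) ?_ ?_
    · have h1 := congrArg (Ideal.map (algebraMap A B)) (hs f hf)
      rw [Ideal.map_span, Ideal.map_top, ← Set.range_comp] at h1
      exact h1
    · rintro ⟨_, i, rfl⟩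
      exact fl_translate (e i) (e' i) (he i) f (fl_of_free f hfree) _
  · intro p
    obtain ⟨i, hi⟩ : ∃ i, e i f ∉ p.asIdeal := by
      by_contra hcon
      push Not at hcon
      apply p.2.ne_top
      rw [eq_top_iff, ← hs f hf, Ideal.span_le]
      rintro _ ⟨i, rfl⟩
      exact hcon i
    obtain ⟨q, hq⟩ := exists_prime_of_free f hf hfree (PrimeSpectrum.comap (e i).toRingHom p) hi
    refine ⟨PrimeSpectrum.comap (e' i).symm.toRingHom q, ?_⟩
    have h1 : p = PrimeSpectrum.comap (e i).symm.toRingHom (PrimeSpectrum.comap (e i).toRingHom p) := by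
      rw [← PrimeSpectrum.comap_comp_apply]
      have : (e i).toRingHom.comp (e i).symm.toRingHom = RingHom.id A := by
        ext a
        exact (e i).apply_symm_apply a
      rw [this]
      rfl
    rw [h1, ← hq, ← PrimeSpectrum.comap_comp_apply, ← PrimeSpectrum.comap_comp_apply]
    congr 1
    ext a
    change (e' i).symm (algebraMap A B a) = algebraMap A B ((e i).symm a)
    rw [RingEquiv.symm_apply_eq, he, RingEquiv.apply_symm_apply]

end K551.OrbFlat
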