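import Groth.Agent.NonAbH1.K551.OrbSimple3
import Groth.Agent.NonAbH1.K551.OrbFlat
import Mathlib.RingTheory.FinitePresentation
import Mathlib.RingTheory.RingHom.FinitePresentation

/-!
# The orbit theorem
-/

set_option autoImplicit false
set_option linter.unusedSectionVars false
universe u v

open TensorProduct Matrix Kronecker

namespace K551.OrbUniv

open OrbBase OrbFlat

variable {K : Type u} [Field K] {ι : Type} [Fintype ι] [DecidableEq ι]

variable {Λ : Type u} [CommRing Λ] [Algebra K Λ] {π : Λ →ₐ[K] K}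
  {P : Type u} [CommRing P] [Algebra K P] (U : UGL π ι P) (β θ : Matrix (ι × ι) (ι × ι) Λ)

/-- translation on orbit functions -/
noncomputable def trA (γ : GL ι Λ) : OA U β θ ≃+* OA U β θ where
  toFun f := ⟨tr U γ f.1, tr_mem_OA U β θ γ f.2⟩
  invFun f := ⟨tr U γ⁻¹ f.1, tr_mem_OA U β θ γ⁻¹ f.2⟩
  left_inv f := Subtype.ext (tr_inv_tr U γ f.1)
  right_inv f := Subtype.ext (tr_tr_inv U γ f.1)
  map_add' f g := Subtype.ext (map_add (tr U γ) f.1 g.1)
  map_mul' f g := Subtype.ext (map_mul (tr U γ) f.1 g.1)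

/-- translation on functions -/
noncomputable def trP (γ : GL ι Λ) : P ≃+* P where
  toFun f := tr U γ f
  invFun f := tr U γ⁻¹ f
  left_inv f := tr_inv_tr U γ f
  right_inv f := tr_tr_inv U γ f
  map_add' f g := map_add (tr U γ) f g
  map_mul' f g := map_mul (tr U γ) f g

theorem faithfullyFlat_OA [Infinite K] [IsDomain P] [Algebra.FiniteType K P]
    (hβθ : β * θ = 1) (ε : Matrix Unit ι K) (hε : ε ≠ 0)
    (hβ : row 1 ε * β.map π = row 1 ε) : (algebraMap (OA U β θ) P).FaithfullyFlat := by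
  have h1 : Algebra.FiniteType (OA U β θ) P := Algebra.FiniteType.of_restrictScalars_finiteType K _ _
  refine faithfullyFlat_of_translates (I := GL ι Λ) (trA U β θ) (trP U) (fun γ a => rfl) ?_
  intro f hf
  refine eq_top_of_stable U β θ hβθ ε hε hβ _ ?_ ?_
  · intro h
    have h2 : trA U β θ 1 f ∈ Ideal.span (Set.range fun i => trA U β θ i f) := Ideal.subset_span ⟨1, rfl⟩
    rw [h] at h2
    have h3 : trA U β θ 1 f = 0 := h2
    exact hf ((map_eq_zero_iff _ (trA U β θ 1).injective).1 h3)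
  · intro γ x hx
    have h2 : (⟨tr U γ x.1, tr_mem_OA U β θ γ x.2⟩ : OA U β θ) = trA U β θ γ x := rfl
    rw [h2]
    induction hx using Submodule.span_induction with
    | mem x hx =>
      obtain ⟨γ', rfl⟩ := hx
      refine Ideal.subset_span ⟨γ' * γ, ?_⟩
      apply Subtype.ext
      exact (DFunLike.congr_fun (tr_comp U γ γ') f.1).symm
    | zero => rw [map_zero]; exact zero_mem _
    | add x y _ _ hx hy => rw [map_add]; exact add_mem (hx rfl) (hy rfl)
    | smul a x _ hx => rw [smul_eq_mul, map_mul]; exact Ideal.mul_mem_left _ _ (hx rfl)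

theorem finiteType_OA [Module.Finite K Λ] : Algebra.FiniteType K (OA U β θ) := by
  let b := Module.finBasis K Λ
  let n := Module.finrank K Λ
  let S : Set P := Set.range (fun t : Fin n × (ι × ι) × (ι × ι) => cf (b.coord t.1) P (ub U β t.2.1 t.2.2)) ∪
    Set.range (fun t : Fin n × (ι × ι) × (ι × ι) => cf (b.coord t.1) P (ut U θ t.2.1 t.2.2))
  have hS : S.Finite := (Set.finite_range _).union (Set.finite_range _)
  have hcf : ∀ (l : Λ →ₗ[K] K) (x : P ⊗[K] Λ), cf l P x = ∑ j, l (b j) • cf (b.coord j) P x := by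
    intro l x
    conv_lhs => rw [sum_cf b x]
    rw [map_sum]
    refine Finset.sum_congr rfl fun j _ => ?_
    rw [cf_tmul]
  have hle : OA U β θ = Algebra.adjoin K S := by
    apply le_antisymm
    · refine Algebra.adjoin_le ?_
      rintro f (⟨l, i, j, rfl⟩ | ⟨l, i, j, rfl⟩)
      · rw [hcf]
        exact sum_mem fun t _ => (Algebra.adjoin K S).smul_mem (Algebra.subset_adjoin (Or.inl ⟨(t, i, j), rfl⟩)) _
      · rw [hcf]
        exact sum_mem fun t _ => (Algebra.adjoin K S).smul_mem (Algebra.subset_adjoin (Or.inr ⟨(t, i, j), rfl⟩)) _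
    · refine Algebra.adjoin_mono ?_
      rintro f (⟨⟨t, i, j⟩, rfl⟩ | ⟨⟨t, i, j⟩, rfl⟩)
      · exact Or.inl ⟨_, i, j, rfl⟩
      · exact Or.inr ⟨_, i, j, rfl⟩
  rw [← Subalgebra.fg_iff_finiteType, hle]
  exact Subalgebra.fg_def.2 ⟨S, hS, rfl⟩

lemma exists_hom (R : Type u) [CommRing R] [Algebra K R] (I : Type u) (Ri : I → Type u) [∀ i, CommRing (Ri i)]
    [∀ i, Algebra K (Ri i)] (ψ : ∀ i, R →ₐ[K] Ri i) (hψ : ∀ r, (∀ i, ψ i r = 0) → r = 0)
    (β' θ' : Matrix (ι × ι) (ι × ι) (R ⊗[K] Λ)) (g : ∀ i, GL ι (Ri i ⊗[K] Λ))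
    (hβ : ∀ i, β'.map (tm (ψ i)) = bet (β.map (kr K (Ri i))) (g i))
    (hθ : ∀ i, θ'.map (tm (ψ i)) = tht (θ.map (kr K (Ri i))) (g i)) :
    ∃ φ : OA U β θ →ₐ[K] R, (∀ l i j, φ ⟨_, ub_mem U β θ l i j⟩ = cf l R (β' i j)) ∧
      ∀ l i j, φ ⟨_, ut_mem U β θ l i j⟩ = cf l R (θ' i j) := by
  let Ψ : R →ₐ[K] (∀ i, Ri i) := AlgHom.pi ψ
  have hΨ : Function.Injective Ψ := by
    rw [injective_iff_map_eq_zero]
    intro r hr
    exact hψ r fun i => congrFun hr i
  let G : P →ₐ[K] (∀ i, Ri i) := AlgHom.pi (fun i => U.pnt (g i))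
  have hb : ∀ l i j, G (cf l P (ub U β i j)) = Ψ (cf l R (β' i j)) := by
    intro l i j
    ext k
    change U.pnt (g k) (cf l P (ub U β i j)) = ψ k (cf l R (β' i j))
    have h1 := congrFun (congrFun (ub_map U β (U.pnt (g k))) i) j
    have h2 := congrFun (congrFun (hβ k) i) j
    rw [U.gm_pnt] at h1
    rw [← cf_tm, ← cf_tm]
    exact congrArg (cf l (Ri k)) (h1.trans h2.symm)
  have ht : ∀ l i j, G (cf l P (ut U θ i j)) = Ψ (cf l R (θ' i j)) := by
    intro l i j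
    ext k
    change U.pnt (g k) (cf l P (ut U θ i j)) = ψ k (cf l R (θ' i j))
    have h1 := congrFun (congrFun (ut_map U θ (U.pnt (g k))) i) j
    have h2 := congrFun (congrFun (hθ k) i) j
    rw [U.gm_pnt] at h1
    rw [← cf_tm, ← cf_tm]
    exact congrArg (cf l (Ri k)) (h1.trans h2.symm)
  have hle : OA U β θ ≤ Ψ.range.comap G := by
    refine Algebra.adjoin_le ?_
    rintro f (⟨l, i, j, rfl⟩ | ⟨l, i, j, rfl⟩)
    · exact ⟨_, (hb l i j).symm⟩
    · exact ⟨_, (ht l i j).symm⟩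
  let e := AlgEquiv.ofInjective Ψ hΨ
  let G' : OA U β θ →ₐ[K] Ψ.range := (G.comp (OA U β θ).val).codRestrict Ψ.range (fun x => hle x.2)
  refine ⟨e.symm.toAlgHom.comp G', ?_, ?_⟩
  · intro l i j
    change e.symm (G' _) = _
    rw [AlgEquiv.symm_apply_eq]
    exact Subtype.ext (hb l i j)
  · intro l i j
    change e.symm (G' _) = _
    rw [AlgEquiv.symm_apply_eq]
    exact Subtype.ext (ht l i j)

lemma ext_cf [Module.Finite K Λ] {R : Type u} [CommRing R] [Algebra K R] {x y : R ⊗[K] Λ}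
    (h : ∀ l : Λ →ₗ[K] K, cf l R x = cf l R y) : x = y := by
  rw [sum_cf (Module.finBasis K Λ) x, sum_cf (Module.finBasis K Λ) y]
  refine Finset.sum_congr rfl fun j _ => ?_
  rw [h]

/-- **The orbit theorem.** -/
theorem orbit_main [Infinite K] [Module.Finite K Λ] (π : Λ →ₐ[K] K) (hπ : IsNilpotent (RingHom.ker π))
    (β θ : Matrix (ι × ι) (ι × ι) Λ) (hβθ : β * θ = 1) (ε : Matrix Unit ι K) (hε : ε ≠ 0)
    (hβ : row 1 ε * β.map π = row 1 ε)
    (R : Type u) [CommRing R] [Algebra K R] (I : Type u) (Ri : I → Type u) [∀ i, CommRing (Ri i)]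
    [∀ i, Algebra K (Ri i)] (ψ : ∀ i, R →ₐ[K] Ri i) (hψ : ∀ r, (∀ i, ψ i r = 0) → r = 0)
    (β' θ' : Matrix (ι × ι) (ι × ι) (R ⊗[K] Λ)) (g : ∀ i, GL ι (Ri i ⊗[K] Λ))
    (hβ' : ∀ i, β'.map (tm (ψ i)) = bet (β.map (kr K (Ri i))) (g i))
    (hθ' : ∀ i, θ'.map (tm (ψ i)) = tht (θ.map (kr K (Ri i))) (g i)) :
    ∃ (R₁ : Type u) (_ : CommRing R₁) (_ : Algebra K R₁) (p : R →ₐ[K] R₁),
      p.toRingHom.FaithfullyFlat ∧ p.toRingHom.FinitePresentation ∧
      ∃ g : GL ι (R₁ ⊗[K] Λ), β'.map (tm p) = bet (β.map (kr K R₁)) g ∧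
        θ'.map (tm p) = tht (θ.map (kr K R₁)) g := by
  obtain ⟨P, _, _, _, _, ⟨U⟩⟩ := exists_ugl (ι := ι) π hπ
  obtain ⟨φ, hφ1, hφ2⟩ := exists_hom U β θ R I Ri ψ hψ β' θ' g hβ' hθ'
  have hff := faithfullyFlat_OA U β θ hβθ ε hε hβ
  have hft := finiteType_OA U β θ
  have hno : IsNoetherianRing (OA U β θ) := Algebra.FiniteType.isNoetherianRing K _
  have hftP : Algebra.FiniteType (OA U β θ) P := Algebra.FiniteType.of_restrictScalars_finiteType K _ _
  have hfp : Algebra.FinitePresentation (OA U β θ) P := Algebra.FinitePresentation.of_finiteType.1 hftP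
  let _ : Algebra (OA U β θ) R := φ.toRingHom.toAlgebra
  have : IsScalarTower K (OA U β θ) R := IsScalarTower.of_algebraMap_eq fun x => (φ.commutes x).symm
  have hffP : Module.FaithfullyFlat (OA U β θ) P := RingHom.faithfullyFlat_algebraMap_iff.1 hff
  let p : R →ₐ[K] R ⊗[OA U β θ] P := Algebra.TensorProduct.includeLeft
  let q : P →ₐ[K] R ⊗[OA U β θ] P :=
    (Algebra.TensorProduct.includeRight : P →ₐ[OA U β θ] R ⊗[OA U β θ] P).restrictScalars K
  have hpq : ∀ x : OA U β θ, p (φ x) = q x := by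
    intro x
    change (algebraMap (OA U β θ) R x) ⊗ₜ[OA U β θ] (1 : P) = (1 : R) ⊗ₜ[OA U β θ] (algebraMap (OA U β θ) P x)
    rw [Algebra.algebraMap_eq_smul_one (A := R), Algebra.algebraMap_eq_smul_one (A := P), smul_tmul]
  refine ⟨R ⊗[OA U β θ] P, inferInstance, inferInstance, p, ?_, ?_, gm q U.uu, ?_, ?_⟩
  · have : Module.FaithfullyFlat R (R ⊗[OA U β θ] P) := inferInstance
    exact RingHom.faithfullyFlat_algebraMap_iff.2 this
  · have : Algebra.FinitePresentation R (R ⊗[OA U β θ] P) := inferInstance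
    exact RingHom.finitePresentation_algebraMap.2 this
  · rw [← ub_map]
    ext i j
    refine ext_cf fun l => ?_
    change cf l _ (tm p (β' i j)) = cf l _ (tm q (ub U β i j))
    rw [cf_tm, cf_tm, ← hφ1, hpq]
  · rw [← ut_map]
    ext i j
    refine ext_cf fun l => ?_
    change cf l _ (tm p (θ' i j)) = cf l _ (tm q (ut U θ i j))
    rw [cf_tm, cf_tm, ← hφ2, hpq]

end K551.OrbUniv
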