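import Groth.Agent.NonAbH1.K551.OrbAT3
import Groth.Agent.NonAbH1.K551.OrbMain

/-!
# Torsors over `R ⊗ Λ` which are generically trivial
-/

set_option autoImplicit false
set_option linter.unusedSectionVars false
universe u v

open TensorProduct Matrix Kronecker

namespace K551.OrbAT

open K551.OrbUniv K551.OrbBase

variable {K : Type u} [Field K] {Λ : Type u} [CommRing Λ] [Algebra K Λ]
  {k' O B : Type u} [Field k'] [CommRing O] [Algebra k' O] (j : k' →+* Λ)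
  {R : Type u} [CommRing R] [Algebra K R]
  [Algebra k' (R ⊗[K] Λ)] (hj : ∀ c, algebraMap k' (R ⊗[K] Λ) c = (1 : R) ⊗ₜ[K] (j c))
  [CommRing B] [Algebra k' B] [Algebra (R ⊗[K] Λ) B] [IsScalarTower k' (R ⊗[K] Λ) B]
  {ι : Type} [Fintype ι] [DecidableEq ι]

include hj in
theorem exists_section [Infinite K] [Module.Finite K Λ] (π : Λ →ₐ[K] K) (hπ : IsNilpotent (RingHom.ker π))
    (v : Module.Basis ι k' O) (w : Module.Basis ι (R ⊗[K] Λ) B) (T : AT k' O (R ⊗[K] Λ) B) (G : GS k' O)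
    (hG : Compat G T)
    (I : Type u) (Ri : I → Type u) [∀ i, CommRing (Ri i)]
    [∀ i, Algebra K (Ri i)] (ψ : ∀ i, R →ₐ[K] Ri i) (hψ : ∀ r, (∀ i, ψ i r = 0) → r = 0)
    (hx : ∀ i, ∃ x : B →+* Ri i ⊗[K] Λ, ∀ d, x (algebraMap (R ⊗[K] Λ) B d) = tm (ψ i) d) :
    ∃ (R₁ : Type u) (_ : CommRing R₁) (_ : Algebra K R₁) (p : R →ₐ[K] R₁),
      p.toRingHom.FaithfullyFlat ∧ p.toRingHom.FinitePresentation ∧
      ∃ x : B →+* R₁ ⊗[K] Λ, ∀ d, x (algebraMap (R ⊗[K] Λ) B d) = tm p d := by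
  let β : Matrix (ι × ι) (ι × ι) Λ := (mb G.T v v).map j
  let θ : Matrix (ι × ι) (ι × ι) Λ := (mt G.T v v).map j
  have hβθ : β * θ = 1 := by
    change (mb G.T v v).map j * (mt G.T v v).map j = 1
    rw [← Matrix.map_mul, mb_mul_mt]
    exact j.mapMatrix.map_one
  let ρ : k' →+* K := π.toRingHom.comp j
  let ε : Matrix Unit ι K := (er v G k').map ρ
  have hε : ε ≠ 0 := by
    intro h
    apply er_ne_zero v G
    ext i j
    exact (map_eq_zero_iff _ ρ.injective).1 (congrFun (congrFun h i) j)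
  have hβ : row 1 ε * β.map π = row 1 ε := by
    have h1 := congrArg (fun M => M.map ρ) (row_er v G)
    rw [Matrix.map_mul, OrbUniv.row_map, show (1 : Matrix ι ι k').map ρ = 1 from ρ.mapMatrix.map_one] at h1
    exact h1
  have hg : ∀ (R' : Type u) [CommRing R'] [Algebra K R'] (p : R →ₐ[K] R') (x : B →+* R' ⊗[K] Λ),
      (∀ d, x (algebraMap (R ⊗[K] Λ) B d) = tm p d) → ∃ g : GL ι (R' ⊗[K] Λ),
      (mb T v w).map (tm p) = bet (β.map (kr K R')) g ∧ (mt T v w).map (tm p) = tht (θ.map (kr K R')) g := by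
    intro R' _ _ p x hx
    let _ : Algebra (R ⊗[K] Λ) (R' ⊗[K] Λ) := (tm p).toRingHom.toAlgebra
    let _ : Algebra k' (R' ⊗[K] Λ) := ((kr K R').comp j).toAlgebra
    have : IsScalarTower k' (R ⊗[K] Λ) (R' ⊗[K] Λ) := IsScalarTower.of_algebraMap_eq fun c => by
      change (1 : R') ⊗ₜ[K] (j c) = tm p (algebraMap k' (R ⊗[K] Λ) c)
      rw [hj, tm_tmul, map_one]
    let x₀ : B →ₐ[R ⊗[K] Λ] R' ⊗[K] Λ := { x with commutes' := hx }
    obtain ⟨g, hg1, hg2⟩ := exists_gl_of_section T v w G hG x₀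
    exact ⟨g, hg1, hg2⟩
  choose x hx' using hx
  choose g hg1 hg2 using fun i => hg (Ri i) (ψ i) (x i) (hx' i)
  obtain ⟨R₁, _, _, p, hp1, hp2, g₁, hg₁, -⟩ := orbit_main π hπ β θ hβθ ε hε hβ R I Ri ψ hψ (mb T v w) (mt T v w) g hg1 hg2
  refine ⟨R₁, inferInstance, inferInstance, p, hp1, hp2, ?_⟩
  let _ : Algebra (R ⊗[K] Λ) (R₁ ⊗[K] Λ) := (tm p).toRingHom.toAlgebra
  let _ : Algebra k' (R₁ ⊗[K] Λ) := ((kr K R₁).comp j).toAlgebra
  have : IsScalarTower k' (R ⊗[K] Λ) (R₁ ⊗[K] Λ) := IsScalarTower.of_algebraMap_eq fun c => by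
    change (1 : R₁) ⊗ₜ[K] (j c) = tm p (algebraMap k' (R ⊗[K] Λ) c)
    rw [hj, tm_tmul, map_one]
  obtain ⟨y⟩ := nonempty_section_of_gl T v w (D₁ := R₁ ⊗[K] Λ) G hG g₁ hg₁
  exact ⟨y.toRingHom, fun d => y.commutes d⟩

end K551.OrbAT
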