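import Groth.Agent.NonAbH1.K551.OrbSimple

/-!
# The algebra of orbit functions
-/

set_option autoImplicit false
set_option linter.unusedSectionVars false
universe u v

open TensorProduct Matrix Kronecker

namespace K551.OrbUniv

open OrbBase

variable {K : Type u} [Field K] {Λ : Type u} [CommRing Λ] [Algebra K Λ] {π : Λ →ₐ[K] K}
  {ι : Type} [Fintype ι] [DecidableEq ι] {P : Type u} [CommRing P] [Algebra K P] (U : UGL π ι P)

section Tr

/-- translation by `γ` -/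
noncomputable def tr (γ : GL ι Λ) : P →ₐ[K] P := U.pnt (gr K P γ * U.uu)

lemma gm_tr (γ : GL ι Λ) : gm (tr U γ) U.uu = gr K P γ * U.uu := U.gm_pnt _

lemma tr_comp (γ γ' : GL ι Λ) : (tr U γ).comp (tr U γ') = tr U (γ' * γ) := by
  apply U.uniq
  rw [gm_comp, gm_tr, map_mul, gm_gr, gm_tr, gm_tr, map_mul, mul_assoc]

lemma tr_one : tr U 1 = AlgHom.id K _ := by
  apply U.uniq
  rw [gm_tr, gm_id, map_one, one_mul]

lemma tr_tr_inv (γ : GL ι Λ) (f : P) : tr U γ (tr U γ⁻¹ f) = f := by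
  have h := tr_comp U γ γ⁻¹
  rw [inv_mul_cancel, tr_one] at h
  exact DFunLike.congr_fun h f

lemma tr_inv_tr (γ : GL ι Λ) (f : P) : tr U γ⁻¹ (tr U γ f) = f := by
  have h := tr_comp U γ⁻¹ γ
  rw [mul_inv_cancel, tr_one] at h
  exact DFunLike.congr_fun h f

end Tr

section OA

variable (β θ : Matrix (ι × ι) (ι × ι) Λ)

/-- universal `β` -/
noncomputable def ub : Matrix (ι × ι) (ι × ι) (P ⊗[K] Λ) := bet (β.map (kr K P)) U.uu

/-- universal `θ` -/
noncomputable def ut : Matrix (ι × ι) (ι × ι) (P ⊗[K] Λ) := tht (θ.map (kr K P)) U.uu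

/-- the ring of orbit functions -/
noncomputable def OA : Subalgebra K P :=
  Algebra.adjoin K ({f | ∃ (l : Λ →ₗ[K] K) (i j : ι × ι), f = cf l P (ub U β i j)} ∪
    {f | ∃ (l : Λ →ₗ[K] K) (i j : ι × ι), f = cf l P (ut U θ i j)})

lemma ub_mem (l : Λ →ₗ[K] K) (i j : ι × ι) : cf l P (ub U β i j) ∈ OA U β θ :=
  Algebra.subset_adjoin (Or.inl ⟨l, i, j, rfl⟩)

lemma ut_mem (l : Λ →ₗ[K] K) (i j : ι × ι) : cf l P (ut U θ i j) ∈ OA U β θ :=
  Algebra.subset_adjoin (Or.inr ⟨l, i, j, rfl⟩)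

variable {R : Type u} [CommRing R] [Algebra K R]

lemma map_kr {R' : Type u} [CommRing R'] [Algebra K R'] (p : R →ₐ[K] R') (M : Matrix (ι × ι) (ι × ι) Λ) :
    (M.map (kr K R)).map (tm p) = M.map (kr K R') := by
  ext i j
  change tm p ((1 : R) ⊗ₜ[K] M i j) = (1 : R') ⊗ₜ[K] M i j
  rw [tm_tmul, map_one]

lemma ub_map (p : P →ₐ[K] R) : (ub U β).map (tm p) = bet (β.map (kr K R)) (gm p U.uu) := by
  rw [ub, ← map_kr p β]
  exact bet_map (tm p).toRingHom _ _

lemma ut_map (p : P →ₐ[K] R) : (ut U θ).map (tm p) = tht (θ.map (kr K R)) (gm p U.uu) := by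
  rw [ut, ← map_kr p θ]
  exact tht_map (tm p).toRingHom _ _

lemma tr_ub (γ : GL ι Λ) : (ub U β).map (tm (tr U γ)) = bet (ub U β) (gr K P γ) := by
  rw [ub_map, gm_tr, bet_mul]
  rfl

lemma tr_ut (γ : GL ι Λ) : (ut U θ).map (tm (tr U γ)) = tht (ut U θ) (gr K P γ) := by
  rw [ut_map, gm_tr, tht_mul]
  rfl

lemma tr_mem_OA (γ : GL ι Λ) {f : P} (hf : f ∈ OA U β θ) : tr U γ f ∈ OA U β θ := by
  induction hf using Algebra.adjoin_induction with
  | mem f hf =>
    rcases hf with ⟨l, i, j, rfl⟩ | ⟨l, i, j, rfl⟩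
    · rw [← cf_tm]
      have h1 : tm (tr U γ) (ub U β i j) = bet (ub U β) (gr K P γ) i j :=
        congrFun (congrFun (tr_ub U β γ) i) j
      rw [h1]
      exact bet_mem_SA (S := Subalgebra.toSubmodule (OA U β θ)) (ub U β)
        (fun i j l => ub_mem U β θ l i j) γ i j l
    · rw [← cf_tm]
      have h1 : tm (tr U γ) (ut U θ i j) = tht (ut U θ) (gr K P γ) i j :=
        congrFun (congrFun (tr_ut U θ γ) i) j
      rw [h1]
      exact tht_mem_SA (S := Subalgebra.toSubmodule (OA U β θ)) (ut U θ)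
        (fun i j l => ut_mem U β θ l i j) γ i j l
  | algebraMap r =>
    rw [AlgHom.commutes]
    exact Subalgebra.algebraMap_mem _ _
  | add x y _ _ hx hy =>
    rw [map_add]
    exact Subalgebra.add_mem _ hx hy
  | mul x y _ _ hx hy =>
    rw [map_mul]
    exact Subalgebra.mul_mem _ hx hy

end OA

end K551.OrbUniv
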