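import Mathlib.LinearAlgebra.Matrix.GeneralLinearGroup.Defs
import Mathlib.LinearAlgebra.TensorProduct.Basis
import Mathlib.RingTheory.TensorProduct.Basic
import Mathlib.RingTheory.Nilpotent.Basic
import Mathlib.LinearAlgebra.FiniteDimensional.Basic
import Mathlib.LinearAlgebra.Matrix.NonsingularInverse

/-!
# Invertible matrices over `R ⊗ Λ`, `Λ` a finite dimensional algebra with nilpotent augmentation ideal
-/

set_option autoImplicit false
universe u v

open TensorProduct

namespace K551.OrbBase

section Adapted

variable {K : Type u} [Field K] {Λ : Type u} [CommRing Λ] [Algebra K Λ] [Module.Finite K Λ]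

/-- A basis of a submodule killed by a power of `I`, adapted to multiplication by `I`. -/
theorem exists_adapted (I : Ideal Λ) (n : ℕ) : ∀ (M : Submodule Λ Λ), I ^ n • M = ⊥ →
    ∃ (J : Type) (_ : Fintype J) (e : J → Λ) (w : J → ℕ), LinearIndependent K e ∧
      Submodule.span K (Set.range e) = M.restrictScalars K ∧
      ∀ j, ∀ x ∈ I, x * e j ∈ Submodule.span K (e '' {l | w j < w l}) := by
  induction n with
  | zero =>
    intro M hM
    rw [pow_zero, Ideal.one_eq_top, Submodule.top_smul] at hM
    refine ⟨Empty, inferInstance, fun j => j.elim, fun _ => 0, linearIndependent_empty_type, ?_, fun j => j.elim⟩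
    rw [Set.range_eq_empty, Submodule.span_empty, hM]
    rfl
  | succ n ih =>
    intro M hM
    obtain ⟨J', _, e', w', hli, hsp, hmul⟩ := ih (I • M) (by rw [← mul_smul, ← pow_succ]; exact hM)
    have hle : (I • M).restrictScalars K ≤ M.restrictScalars K := by
      intro x hx
      exact (Submodule.smul_le_right : I • M ≤ M) hx
    obtain ⟨C, hC⟩ := Submodule.exists_isCompl ((I • M).restrictScalars K)
    let C' : Submodule K Λ := C ⊓ M.restrictScalars K
    have hdis : Disjoint C' ((I • M).restrictScalars K) :=
      (hC.disjoint.symm).mono_left inf_le_left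
    have hsup : C' ⊔ (I • M).restrictScalars K = M.restrictScalars K := by
      apply le_antisymm
      · exact sup_le inf_le_right hle
      · intro x hx
        have hx' : x ∈ (I • M).restrictScalars K ⊔ C := by rw [hC.sup_eq_top]; trivial
        obtain ⟨y, hy, z, hz, rfl⟩ := Submodule.mem_sup.1 hx'
        refine Submodule.mem_sup.2 ⟨z, ⟨hz, ?_⟩, y, hy, add_comm _ _⟩
        have : y + z - y ∈ M.restrictScalars K := Submodule.sub_mem _ hx (hle hy)
        rwa [add_sub_cancel_left] at this
    let bC := Module.finBasis K C'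
    refine ⟨Fin (Module.finrank K C') ⊕ J', inferInstance, Sum.elim (fun i => (bC i : Λ)) e',
      Sum.elim (fun _ => 0) (fun j => w' j + 1), ?_, ?_, ?_⟩
    · have h1 : LinearIndependent K (fun i => (bC i : Λ)) :=
        bC.linearIndependent.map' C'.subtype (Submodule.ker_subtype _)
      refine h1.sum_type hli ?_
      rw [hsp]
      refine hdis.mono_left ?_
      rw [Submodule.span_le]
      rintro _ ⟨i, rfl⟩
      exact (bC i).2
    · rw [Set.Sum.elim_range, Submodule.span_union, hsp]
      have h2 : Submodule.span K (Set.range fun i => (bC i : Λ)) = C' := by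
        have h3 : Set.range (fun i => (bC i : Λ)) = C'.subtype '' (Set.range bC) := by
          rw [← Set.range_comp]; rfl
        rw [h3, ← Submodule.map_span, bC.span_eq, Submodule.map_top, Submodule.range_subtype]
      rw [h2, hsup]
    · rintro (i | j) x hx
      · have h4 : x * (bC i : Λ) ∈ I • M := Submodule.smul_mem_smul hx (bC i).2.2
        have h5 : x * (bC i : Λ) ∈ Submodule.span K (Set.range e') := by rw [hsp]; exact h4
        refine Submodule.span_mono ?_ h5
        rintro _ ⟨l, rfl⟩
        exact ⟨Sum.inr l, by simp, rfl⟩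
      · refine Submodule.span_mono ?_ (hmul j x hx)
        rintro _ ⟨l, hl, rfl⟩
        exact ⟨Sum.inr l, by simpa using hl, rfl⟩

/-- An adapted basis of `Λ`: `1` together with a basis of the augmentation ideal. -/
structure Adapt (π : Λ →ₐ[K] K) (J : Type) where
  /-- the basis -/
  b : Module.Basis (Option J) K Λ
  /-- the weights -/
  w : J → ℕ
  b_none : b none = 1
  π_some : ∀ j, π (b (some j)) = 0
  mul_mem : ∀ i j, b (some i) * b (some j) ∈ Submodule.span K ((fun l => b (some l)) '' {l | w j < w l})
  w_pos : ∀ j, 0 < w j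

theorem exists_adapt (π : Λ →ₐ[K] K) (hπ : IsNilpotent (RingHom.ker π)) :
    ∃ (J : Type) (_ : Fintype J), Nonempty (Adapt π J) := by
  obtain ⟨n, hn⟩ := hπ
  obtain ⟨J, hJ, e, w, hli, hsp, hmul⟩ := exists_adapted (K := K) (RingHom.ker π) n (RingHom.ker π) (by
    rw [hn]
    exact Submodule.bot_smul _)
  have hker : ∀ j, π (e j) = 0 := by
    intro j
    have : e j ∈ Submodule.span K (Set.range e) := Submodule.subset_span ⟨j, rfl⟩
    rw [hsp] at this
    exact this
  have hli' : LinearIndependent K (fun o : Option J => o.elim (1 : Λ) e) := by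
    rw [linearIndependent_option]
    refine ⟨hli, ?_⟩
    intro h
    have h1 : (1 : Λ) ∈ (RingHom.ker π).restrictScalars K := by
      rw [← hsp]; exact h
    have h2 : π 1 = 0 := h1
    rw [map_one] at h2
    exact one_ne_zero h2
  have hspan : ⊤ ≤ Submodule.span K (Set.range (fun o : Option J => o.elim (1 : Λ) e)) := by
    intro x _
    have h1 : x - algebraMap K Λ (π x) ∈ Submodule.span K (Set.range e) := by
      rw [hsp]
      change π (x - algebraMap K Λ (π x)) = 0
      rw [map_sub, AlgHom.commutes, sub_eq_zero]
      rfl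
    have h2 : Submodule.span K (Set.range e) ≤ Submodule.span K (Set.range (fun o : Option J => o.elim (1 : Λ) e)) := by
      apply Submodule.span_mono
      rintro _ ⟨j, rfl⟩
      exact ⟨some j, rfl⟩
    have h3 : algebraMap K Λ (π x) ∈ Submodule.span K (Set.range (fun o : Option J => o.elim (1 : Λ) e)) := by
      rw [Algebra.algebraMap_eq_smul_one]
      exact Submodule.smul_mem _ _ (Submodule.subset_span ⟨none, rfl⟩)
    have h4 := Submodule.add_mem _ (h2 h1) h3
    rwa [sub_add_cancel] at h4
  refine ⟨J, hJ, ⟨⟨Module.Basis.mk hli' hspan, fun j => w j + 1, ?_, ?_, ?_, fun j => Nat.succ_pos _⟩⟩⟩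
  · rw [Module.Basis.mk_apply]; rfl
  · intro j
    rw [Module.Basis.mk_apply]; exact hker j
  · intro i j
    have h1 := hmul j (e i) (hker i)
    simp only [Module.Basis.mk_apply]
    refine Submodule.span_mono ?_ h1
    rintro _ ⟨l, hl, rfl⟩
    exact ⟨l, by simpa using hl, rfl⟩

end Adapted

end K551.OrbBase
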