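import Groth.Agent.NonAbH1.K551.OrbBase
import Mathlib.RingTheory.Ideal.Operations
import Mathlib.RingTheory.Ideal.Maps
import Mathlib.RingTheory.TensorProduct.Maps

/-!
# Invertible matrices over `R ⊗ Λ`: functoriality
-/

set_option autoImplicit false
universe u v

open TensorProduct Matrix

namespace K551.OrbBase

section Tensor

variable {K : Type u} [Field K] {Λ : Type u} [CommRing Λ] [Algebra K Λ] (π : Λ →ₐ[K] K)

/-- base change of a morphism -/
noncomputable def tm {R R' : Type u} [CommRing R] [Algebra K R] [CommRing R'] [Algebra K R'] (p : R →ₐ[K] R') :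
    R ⊗[K] Λ →ₐ[K] R' ⊗[K] Λ := Algebra.TensorProduct.map p (AlgHom.id K Λ)

/-- augmentation -/
noncomputable def aug (R : Type u) [CommRing R] [Algebra K R] : R ⊗[K] Λ →ₐ[R] R :=
  Algebra.TensorProduct.lift (AlgHom.id R R) ((Algebra.ofId K R).comp π) (fun _ _ => Commute.all _ _)

/-- coefficient -/
noncomputable def cf (l : Λ →ₗ[K] K) (R : Type u) [CommRing R] [Algebra K R] : R ⊗[K] Λ →ₗ[R] R :=
  (AlgebraTensorModule.rid K R R).toLinearMap ∘ₗ l.baseChange R

variable {R R' : Type u} [CommRing R] [Algebra K R] [CommRing R'] [Algebra K R']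

@[simp] lemma tm_tmul (p : R →ₐ[K] R') (r : R) (l : Λ) : tm p (r ⊗ₜ[K] l) = p r ⊗ₜ l :=
  Algebra.TensorProduct.map_tmul _ _ _ _

@[simp] lemma aug_tmul (r : R) (l : Λ) : aug π R (r ⊗ₜ[K] l) = π l • r := by
  rw [aug, Algebra.TensorProduct.lift_tmul, AlgHom.comp_apply, Algebra.smul_def, mul_comm]
  rfl

@[simp] lemma cf_tmul (l : Λ →ₗ[K] K) (r : R) (x : Λ) : cf l R (r ⊗ₜ[K] x) = l x • r := by
  rw [cf, LinearMap.comp_apply, LinearMap.baseChange_tmul]
  change AlgebraTensorModule.rid K R R (r ⊗ₜ[K] l x) = _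
  rw [AlgebraTensorModule.rid_tmul]

lemma aug_tm (p : R →ₐ[K] R') (x : R ⊗[K] Λ) : aug π R' (tm p x) = p (aug π R x) := by
  induction x with
  | zero => simp
  | add x y hx hy => rw [map_add, map_add, hx, hy, map_add, map_add]
  | tmul r l => rw [tm_tmul, aug_tmul, aug_tmul, map_smul]

lemma cf_tm (l : Λ →ₗ[K] K) (p : R →ₐ[K] R') (x : R ⊗[K] Λ) : cf l R' (tm p x) = p (cf l R x) := by
  induction x with
  | zero => simp
  | add x y hx hy => rw [map_add, map_add, hx, hy, map_add, map_add]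
  | tmul r y => rw [tm_tmul, cf_tmul, cf_tmul, map_smul]

lemma cf_aug (x : R ⊗[K] Λ) : cf π.toLinearMap R x = aug π R x := by
  induction x with
  | zero => simp
  | add x y hx hy => rw [map_add, map_add, hx, hy]
  | tmul r y => rw [cf_tmul, aug_tmul]; rfl

lemma tm_comp {R'' : Type u} [CommRing R''] [Algebra K R''] (p : R →ₐ[K] R') (q : R' →ₐ[K] R'') (x : R ⊗[K] Λ) :
    tm (q.comp p) x = tm q (tm p x) := by
  induction x with
  | zero => simp
  | add x y hx hy => rw [map_add, map_add, hx, hy, map_add]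
  | tmul r y => rw [tm_tmul, tm_tmul, tm_tmul]; rfl

lemma tm_id (x : R ⊗[K] Λ) : tm (AlgHom.id K R) x = x := by
  induction x with
  | zero => simp
  | add x y hx hy => rw [map_add, hx, hy]
  | tmul r y => rw [tm_tmul]; rfl

lemma sum_cf {J : Type} [Fintype J] (b : Module.Basis J K Λ) (x : R ⊗[K] Λ) :
    x = ∑ j, cf (b.coord j) R x ⊗ₜ[K] b j := by
  induction x with
  | zero => simp
  | add x y hx hy =>
    conv_lhs => rw [hx, hy]
    rw [← Finset.sum_add_distrib]
    refine Finset.sum_congr rfl fun j _ => ?_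
    rw [map_add, add_tmul]
  | tmul r y =>
    conv_lhs => rw [← b.sum_repr y, tmul_sum]
    refine Finset.sum_congr rfl fun j _ => ?_
    rw [cf_tmul, tmul_smul, smul_tmul']
    rfl

lemma sub_aug_mem (x : R ⊗[K] Λ) : x - (aug π R x) ⊗ₜ[K] 1 ∈
    Ideal.map (Algebra.TensorProduct.includeRight : Λ →ₐ[K] R ⊗[K] Λ) (RingHom.ker π) := by
  induction x with
  | zero => simp
  | add x y hx hy =>
    have := Ideal.add_mem _ hx hy
    rw [map_add, add_tmul]
    convert this using 1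
    ring
  | tmul r l =>
    rw [aug_tmul, smul_tmul]
    have h1 : r ⊗ₜ[K] l - r ⊗ₜ[K] (π l • (1 : Λ)) = (r ⊗ₜ[K] (1 : Λ)) *
        (Algebra.TensorProduct.includeRight : Λ →ₐ[K] R ⊗[K] Λ) (l - π l • (1 : Λ)) := by
      rw [Algebra.TensorProduct.includeRight_apply, Algebra.TensorProduct.tmul_mul_tmul, mul_one, one_mul, tmul_sub]
    rw [h1]
    refine Ideal.mul_mem_left _ _ (Ideal.mem_map_of_mem _ ?_)
    rw [RingHom.mem_ker, map_sub, map_smul, map_one, smul_eq_mul, mul_one, sub_self]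

lemma ker_aug_le (R : Type u) [CommRing R] [Algebra K R] : RingHom.ker (aug π R) ≤
    Ideal.map (Algebra.TensorProduct.includeRight : Λ →ₐ[K] R ⊗[K] Λ) (RingHom.ker π) := by
  intro x hx
  have := sub_aug_mem π x
  rw [RingHom.mem_ker] at hx
  rwa [hx, zero_tmul, sub_zero] at this

lemma isNilpotent_ker_aug (hπ : IsNilpotent (RingHom.ker π)) (R : Type u) [CommRing R] [Algebra K R] :
    IsNilpotent (RingHom.ker (aug π R)) := by
  obtain ⟨n, hn⟩ := hπ
  refine ⟨n, ?_⟩
  rw [Ideal.zero_eq_bot, eq_bot_iff]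
  refine (Ideal.pow_right_mono (ker_aug_le π R) n).trans ?_
  rw [← Ideal.map_pow, hn, Ideal.zero_eq_bot, Ideal.map_bot]

lemma aug_incl (r : R) : aug π R (r ⊗ₜ[K] (1 : Λ)) = r := by
  rw [aug_tmul, map_one, one_smul]

lemma isUnit_of_aug (hπ : IsNilpotent (RingHom.ker π)) {x : R ⊗[K] Λ} (hx : IsUnit (aug π R x)) : IsUnit x := by
  obtain ⟨y, hy⟩ := hx.exists_right_inv
  have h1 : x * (y ⊗ₜ[K] (1 : Λ)) - 1 ∈ RingHom.ker (aug π R) := by
    rw [RingHom.mem_ker, map_sub, map_mul, aug_incl, hy, map_one, sub_self]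
  obtain ⟨n, hn⟩ := isNilpotent_ker_aug π hπ R
  have h2 : IsNilpotent (x * (y ⊗ₜ[K] (1 : Λ)) - 1) := by
    refine ⟨n, ?_⟩
    have := Ideal.pow_mem_pow h1 n
    rwa [hn] at this
  have h3 : IsUnit (x * (y ⊗ₜ[K] (1 : Λ))) := by
    have := h2.isUnit_add_one
    rwa [sub_add_cancel] at this
  exact isUnit_of_mul_isUnit_left h3

end Tensor

end K551.OrbBase
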