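import Groth.Agent.NonAbH1.K551.OrbGeo
import Groth.Agent.NonAbH1.K551.OrbAT4

/-!
# Charts
-/

set_option autoImplicit false
set_option linter.unusedSectionVars false
universe u

open CategoryTheory CategoryTheory.Limits AlgebraicGeometry
open scoped TensorProduct

namespace K551.OrbSch

open K551.OrbBase

variable {k k' K : Type u} [Field k] [Field k'] [Field K] [Algebra k k'] [Algebra k K]
  {S : Scheme.{u}} (s : S ⟶ Spec (CommRingCat.of k))
  {R : Type u} [CommRing R] [Algebra K R] (f : Spec (CommRingCat.of R) ⟶ S)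

variable (k k' K) in
/-- `k' → Λ` -/
noncomputable def jL : k' →+* K ⊗[k] k' := (Algebra.TensorProduct.includeRight : k' →ₐ[k] K ⊗[k] k').toRingHom

variable (k k' K R) in
/-- `R → R ⊗ Λ` -/
noncomputable def iR : R →+* R ⊗[K] (K ⊗[k] k') :=
  (Algebra.TensorProduct.includeLeft : R →ₐ[K] R ⊗[K] (K ⊗[k] k')).toRingHom

variable (k k' K R) in
/-- `k' → R ⊗ Λ` -/
noncomputable def jR : k' →+* R ⊗[K] (K ⊗[k] k') :=
  (Algebra.TensorProduct.includeRight : (K ⊗[k] k') →ₐ[K] R ⊗[K] (K ⊗[k] k')).toRingHom.comp (jL k k' K)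

lemma isPushout_Lam : IsPushout (CommRingCat.ofHom ((algebraMap K R).comp (algebraMap k K)))
    (CommRingCat.ofHom (algebraMap k k')) (CommRingCat.ofHom (iR k k' K R)) (CommRingCat.ofHom (jR k k' K R)) := by
  have h1 := CommRingCat.isPushout_tensorProduct k K k'
  have h2 := CommRingCat.isPushout_tensorProduct K R (K ⊗[k] k')
  have h3 := (h1.flip.paste_vert h2.flip).flip
  exact h3

/-- The structure of a chart. -/
def IsChart : Prop := f ≫ s = Spec.map (CommRingCat.ofHom ((algebraMap K R).comp (algebraMap k K)))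

variable {s f} (hf : IsChart (k := k) (K := K) s f)

include hf in
lemma tR_cond : (Spec.map (CommRingCat.ofHom (iR k k' K R)) ≫ f) ≫ s =
    Spec.map (CommRingCat.ofHom (jR k k' K R)) ≫ Spec.map (CommRingCat.ofHom (algebraMap k k')) := by
  rw [Category.assoc, show f ≫ s = _ from hf, ← Spec.map_comp, ← Spec.map_comp]
  congr 1
  exact isPushout_Lam.w

variable (k') in
/-- `Spec (R ⊗ Λ) → S'` -/
noncomputable def tR : Spec (CommRingCat.of (R ⊗[K] (K ⊗[k] k'))) ⟶
    pullback s (Spec.map (CommRingCat.ofHom (algebraMap k k'))) :=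
  pullback.lift (Spec.map (CommRingCat.ofHom (iR k k' K R)) ≫ f) (Spec.map (CommRingCat.ofHom (jR k k' K R))) (tR_cond hf)

lemma tR_fst : tR k' hf ≫ pullback.fst _ _ = Spec.map (CommRingCat.ofHom (iR k k' K R)) ≫ f := pullback.lift_fst _ _ _

lemma tR_snd : tR k' hf ≫ pullback.snd _ _ = Spec.map (CommRingCat.ofHom (jR k k' K R)) := pullback.lift_snd _ _ _

lemma isPullback_tR : IsPullback (tR k' hf) (Spec.map (CommRingCat.ofHom (iR k k' K R)))
    (pullback.fst s (Spec.map (CommRingCat.ofHom (algebraMap k k')))) f := by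
  have h1 : IsPullback (pullback.snd s (Spec.map (CommRingCat.ofHom (algebraMap k k')))) (pullback.fst _ _)
    (Spec.map (CommRingCat.ofHom (algebraMap k k'))) s := (IsPullback.of_hasPullback _ _).flip
  refine IsPullback.of_right ?_ (tR_fst hf) h1
  rw [tR_snd, show f ≫ s = _ from hf]
  exact (isPullback_SpecMap_of_isPushout _ _ _ _ isPushout_Lam).flip

section Mor

variable {R₁ : Type u} [CommRing R₁] [Algebra K R₁] (p : R →ₐ[K] R₁)

lemma isChart_comp (hf : IsChart (k := k) (K := K) s f) :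
    IsChart (k := k) (K := K) (R := R₁) s (Spec.map (CommRingCat.ofHom p.toRingHom) ≫ f) := by
  change (_ ≫ f) ≫ s = _
  rw [Category.assoc, show f ≫ s = _ from hf, ← Spec.map_comp]
  congr 1
  ext c
  exact p.commutes _

lemma tR_comp : tR k' (isChart_comp p hf) = Spec.map (CommRingCat.ofHom (tm (Λ := K ⊗[k] k') p).toRingHom) ≫ tR k' hf := by
  apply pullback.hom_ext
  · have h : CommRingCat.ofHom p.toRingHom ≫ CommRingCat.ofHom (iR k k' K R₁) =
        CommRingCat.ofHom (iR k k' K R) ≫ CommRingCat.ofHom (tm (Λ := K ⊗[k] k') p).toRingHom := by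
      ext c
      change (p c) ⊗ₜ[K] (1 : K ⊗[k] k') = tm p (c ⊗ₜ[K] (1 : K ⊗[k] k'))
      rw [tm_tmul]
    rw [tR_fst, Category.assoc, tR_fst, ← Category.assoc, ← Category.assoc, ← Spec.map_comp, ← Spec.map_comp, h]
  · rw [tR_snd, Category.assoc, tR_snd, ← Spec.map_comp]
    congr 2
    ext c
    change (1 : R₁) ⊗ₜ[K] ((1 : K) ⊗ₜ[k] c) = tm p ((1 : R) ⊗ₜ[K] ((1 : K) ⊗ₜ[k] c))
    rw [tm_tmul, map_one]

variable {X : Over (pullback s (Spec.map (CommRingCat.ofHom (algebraMap k k'))))}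
  {B : Type u} [CommRing B] [Algebra (R ⊗[K] (K ⊗[k] k')) B] {b : Spec (CommRingCat.of B) ⟶ X.left}
  (hb : IsPullback b (Spec.map (CommRingCat.ofHom (algebraMap (R ⊗[K] (K ⊗[k] k')) B))) X.hom (tR k' hf))

include hb in
/-- A ring map gives a section. -/
lemma hasSection_of_hom (x : B →+* R₁ ⊗[K] (K ⊗[k] k')) (hx : ∀ d, x (algebraMap _ B d) = tm p d) :
    NonAbH1.HasSectionOver X (pullback.snd (Spec.map (CommRingCat.ofHom p.toRingHom) ≫ f)
      (pullback.fst s (Spec.map (CommRingCat.ofHom (algebraMap k k'))))) := by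
  have h1 := isPullback_tR (k' := k') (isChart_comp p hf)
  have h2 : h1.flip.isoPullback.inv ≫ tR k' (isChart_comp p hf) = pullback.snd _ _ := h1.flip.isoPullback_inv_snd
  refine ⟨h1.flip.isoPullback.inv ≫ Spec.map (CommRingCat.ofHom x) ≫ b, ?_⟩
  have h4 : CommRingCat.ofHom (algebraMap (R ⊗[K] (K ⊗[k] k')) B) ≫ CommRingCat.ofHom x =
      CommRingCat.ofHom (tm (Λ := K ⊗[k] k') p).toRingHom := by
    apply CommRingCat.hom_ext
    exact RingHom.ext hx
  have h3 : Spec.map (CommRingCat.ofHom x) ≫ b ≫ X.hom = tR k' (isChart_comp p hf) := by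
    rw [hb.w, tR_comp, ← Category.assoc, ← Spec.map_comp, h4]
  rw [Category.assoc, Category.assoc, h3]
  exact h2

include hb in
/-- A section gives a ring map. -/
lemma exists_hom_of_section (c : Spec (CommRingCat.of (R₁ ⊗[K] (K ⊗[k] k'))) ⟶ X.left)
    (hc : c ≫ X.hom = tR k' (isChart_comp p hf)) :
    ∃ x : B →+* R₁ ⊗[K] (K ⊗[k] k'), ∀ d, x (algebraMap _ B d) = tm p d := by
  have hc' : c ≫ X.hom = Spec.map (CommRingCat.ofHom (tm (Λ := K ⊗[k] k') p).toRingHom) ≫ tR k' hf := by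
    rw [hc, tR_comp]
  have h1 : CommRingCat.ofHom (algebraMap (R ⊗[K] (K ⊗[k] k')) B) ≫ Spec.preimage (hb.lift c _ hc') =
      CommRingCat.ofHom (tm (Λ := K ⊗[k] k') p).toRingHom := by
    apply Spec.map_injective
    rw [Spec.map_comp, Spec.map_preimage, hb.lift_snd]
  exact ⟨(Spec.preimage (hb.lift c _ hc')).hom, fun d => congr($h1 d)⟩

end Mor

end K551.OrbSch
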