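import Groth.Agent.Ega4late.H537.SchDensePull
import Mathlib.RingTheory.RingHom.FaithfullyFlat
import Mathlib.AlgebraicGeometry.Sites.Fpqc

/-!
# Vanishing on a schematically dense open can be tested on a flat cover
-/

set_option autoImplicit false
set_option linter.unusedSectionVars false
universe u

open CategoryTheory CategoryTheory.Limits AlgebraicGeometry

namespace K551.OrbSch

theorem stalkMap_injective_of_flat {X Y : Scheme.{u}} (f : X ⟶ Y) [Flat f] (x : X) :
    Function.Injective (f.stalkMap x).hom := by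
  algebraize [(f.stalkMap x).hom]
  have h1 : Module.Flat (Y.presheaf.stalk (f x)) (X.presheaf.stalk x) := Flat.stalkMap f x
  have h2 : IsLocalHom (algebraMap (Y.presheaf.stalk (f x)) (X.presheaf.stalk x)) :=
    f.toLRSHom.prop x
  have h3 : Module.FaithfullyFlat (Y.presheaf.stalk (f x)) (X.presheaf.stalk x) :=
    Module.FaithfullyFlat.of_flat_of_isLocalHom
  exact FaithfulSMul.algebraMap_injective (Y.presheaf.stalk (f x)) (X.presheaf.stalk x)

lemma germ_eq_zero {R R' : CommRingCat.{u}} (ψ : R ⟶ R') [Flat (Spec.map ψ)] (r : R) (hr : ψ r = 0)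
    (y : Spec R') : (Spec R).presheaf.germ ⊤ (Spec.map ψ y) trivial ((Scheme.ΓSpecIso R).inv r) = 0 := by
  apply stalkMap_injective_of_flat (Spec.map ψ) y
  rw [map_zero]
  have h1 := Scheme.Hom.germ_stalkMap_apply (Spec.map ψ) ⊤ y trivial ((Scheme.ΓSpecIso R).inv r)
  refine h1.trans ?_
  have h2 : (Spec.map ψ).appTop ((Scheme.ΓSpecIso R).inv r) = (Scheme.ΓSpecIso R').inv (ψ r) :=
    congr($((Scheme.ΓSpecIso_inv_naturality ψ).symm) r)
  have h3 : (Spec.map ψ).app ⊤ ((Scheme.ΓSpecIso R).inv r) = 0 := by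
    refine h2.trans ?_
    rw [hr]
    exact map_zero _
  rw [h3]
  exact map_zero _

variable {S : Scheme.{u}} {R : CommRingCat.{u}} (f : Spec R ⟶ S) (U : S.Opens) {I : Type u} (V : I → Scheme.{u})
  (g : ∀ i, V i ⟶ (U : Scheme.{u}))

/-- index set -/
abbrev Idx : Type u := Σ i : I, (pullback f (g i ≫ U.ι)).affineOpens

/-- members of the cover -/
noncomputable abbrev Cv (j : Idx f U V g) : CommRingCat.{u} := Γ(pullback f (g j.1 ≫ U.ι), j.2.1)

/-- maps -/
noncomputable def cvMap (j : Idx f U V g) : R ⟶ Cv f U V g j :=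
  Spec.preimage (j.2.2.fromSpec ≫ pullback.fst f (g j.1 ≫ U.ι))

lemma specMap_cvMap (j : Idx f U V g) : Spec.map (cvMap f U V g j) = j.2.2.fromSpec ≫ pullback.fst f (g j.1 ≫ U.ι) :=
  Spec.map_preimage _

/-- Joint injectivity. -/
theorem eq_zero_of_cvMap [Flat f] [LocallyOfFinitePresentation f] (hU : CInt.IsSchematicallyDense U)
    (hg : ∀ i, Flat (g i)) (hcov : ∀ u : (U : Scheme.{u}), ∃ i, u ∈ Set.range (g i)) (r : R)
    (hr : ∀ j, cvMap f U V g j r = 0) : r = 0 := by
  have h1 : (Scheme.ΓSpecIso R).inv r = 0 := by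
    refine Groth.Agent.Ega4late.H537.SchDensePull.eq_zero_of_isSchematicallyDense
      (Groth.Agent.Ega4late.H537.SchDensePull.isSchematicallyDense_preimage f U hU) ⊤ _ ?_
    intro x _ hx
    have hx' : f x ∈ U := hx
    obtain ⟨i, v, hv⟩ := hcov ⟨f x, hx'⟩
    obtain ⟨y, hy1, -⟩ := Scheme.Pullback.exists_preimage_pullback (f := f) (g := g i ≫ U.ι) x v (by
      rw [Scheme.Hom.comp_apply, hv]
      rfl)
    obtain ⟨W, hW, hyW, -⟩ := exists_isAffineOpen_mem_and_subset (x := y) (U := ⊤) trivial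
    have hr' := hr ⟨i, ⟨W, hW⟩⟩
    have : Flat (g i) := hg i
    have : Flat (Spec.map (cvMap f U V g ⟨i, ⟨W, hW⟩⟩)) := by
      rw [specMap_cvMap]
      infer_instance
    obtain ⟨z, hz⟩ : y ∈ Set.range hW.fromSpec := by rw [hW.range_fromSpec]; exact hyW
    have h2 := germ_eq_zero (cvMap f U V g ⟨i, ⟨W, hW⟩⟩) r hr' z
    have h3 : Spec.map (cvMap f U V g ⟨i, ⟨W, hW⟩⟩) z = x := by
      rw [specMap_cvMap, Scheme.Hom.comp_apply]
      exact (congrArg _ hz).trans hy1
    rw [h3] at h2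
    exact h2
  have h2 := congrArg (Scheme.ΓSpecIso R).hom h1
  rw [map_zero] at h2
  rw [← h2]
  simp

end K551.OrbSch
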