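import Groth.Agent.NonAbH1.K551.OrbUniv
import Mathlib.Algebra.MvPolynomial.Funext

/-!
# Density of the rational points of `GL`
-/

set_option autoImplicit false
set_option linter.unusedSectionVars false
universe u v

open TensorProduct Matrix

namespace K551.OrbUniv

variable {K : Type u} [Field K] {ι : Type} [Fintype ι] [DecidableEq ι]

instance isDomain_Q : IsDomain (Q K ι) := by
  apply IsLocalization.isDomain_localization
  apply powers_le_nonZeroDivisors_of_noZeroDivisors
  exact det_mvPolynomialX_ne_zero ι K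

/-- constants in `GL`. -/
noncomputable def gk (K : Type u) [Field K] (R : Type u) [CommRing R] [Algebra K R] : GL ι K →* GL ι R :=
  GeneralLinearGroup.map (algebraMap K R)

lemma funextK [Infinite K] {σ : Type} {R : Type u} [CommRing R] [IsDomain R] [Algebra K R] {F : MvPolynomial σ R}
    (h : ∀ c : σ → K, MvPolynomial.eval (fun i => algebraMap K R (c i)) F = 0) : F = 0 := by
  refine MvPolynomial.funext_set (fun _ => Set.range (algebraMap K R))
    (fun _ => Set.infinite_range_of_injective (FaithfulSMul.algebraMap_injective K R)) ?_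
  intro x hx
  have hx' : ∀ i, ∃ c : K, algebraMap K R c = x i := fun i => hx i (Set.mem_univ _)
  choose c hc using hx'
  have := h c
  rw [show (fun i => algebraMap K R (c i)) = x from funext hc] at this
  rw [this, map_zero]

/-- If `f(γ h) = 0` for all `γ ∈ GL(K)` then `f = 0`. -/
lemma poly_eq_zero [Infinite K] {R : Type u} [CommRing R] [IsDomain R] [Algebra K R] (h : GL ι R)
    (f : MvPolynomial (ι × ι) K)
    (hf : ∀ γ : GL ι K, MvPolynomial.aeval (fun i => (gk K R γ * h : GL ι R) i.1 i.2) f = 0) : f = 0 := by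
  -- the polynomial `f(Y h) det(Y)`
  let Y : Matrix ι ι (MvPolynomial (ι × ι) R) := mvPolynomialX ι ι R
  let hY : Matrix ι ι (MvPolynomial (ι × ι) R) := Y * (h : Matrix ι ι R).map MvPolynomial.C
  let F : MvPolynomial (ι × ι) R := MvPolynomial.aeval (fun i => hY i.1 i.2) f
  have hev : ∀ c : ι × ι → R, MvPolynomial.eval c F =
      MvPolynomial.aeval (fun i => ((Matrix.of fun a b => c (a, b)) * (h : Matrix ι ι R)) i.1 i.2) f := by
    intro c
    change (MvPolynomial.eval c) (MvPolynomial.aeval (fun i => hY i.1 i.2) f) = _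
    rw [← MvPolynomial.aeval_eq_eval]
    have h1 : (MvPolynomial.aeval (R := R) c : MvPolynomial (ι × ι) R →ₐ[R] R) (MvPolynomial.aeval (fun i => hY i.1 i.2) f) =
      (((MvPolynomial.aeval (R := R) c : MvPolynomial (ι × ι) R →ₐ[R] R).restrictScalars K).comp
        (MvPolynomial.aeval (R := K) (fun i : ι × ι => hY i.1 i.2))) f := rfl
    rw [h1]
    have h2 : (((MvPolynomial.aeval (R := R) c : MvPolynomial (ι × ι) R →ₐ[R] R).restrictScalars K).comp
        (MvPolynomial.aeval (R := K) (fun i : ι × ι => hY i.1 i.2))) =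
      MvPolynomial.aeval (fun i => ((Matrix.of fun a b => c (a, b)) * (h : Matrix ι ι R)) i.1 i.2) := by
      apply MvPolynomial.algHom_ext
      rintro ⟨a, b⟩
      rw [AlgHom.comp_apply, MvPolynomial.aeval_X, MvPolynomial.aeval_X]
      change MvPolynomial.aeval (R := R) c (hY a b) = _
      simp only [hY, Y, Matrix.mul_apply, map_sum, map_mul, Matrix.map_apply, mvPolynomialX_apply,
        MvPolynomial.aeval_X, MvPolynomial.aeval_C, Matrix.of_apply]
      rfl
    rw [h2]
  have hdet : ∀ c : ι × ι → R, MvPolynomial.eval c (det Y) = det (Matrix.of fun a b => c (a, b)) := by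
    intro c
    rw [RingHom.map_det]
    congr 1
    ext a b
    simp [Y]
  have hF : F * det Y = 0 := by
    apply funextK (K := K)
    intro c
    rw [map_mul, hev, hdet]
    by_cases hc : det (Matrix.of fun a b => c (a, b)) = 0
    · have : det (Matrix.of fun a b => algebraMap K R (c (a, b))) = 0 := by
        have h3 := RingHom.map_det (algebraMap K R) (Matrix.of fun a b => c (a, b))
        rw [hc, map_zero] at h3
        exact h3.symm
      rw [this, mul_zero]
    · have h4 := hf (GeneralLinearGroup.mkOfDetNeZero (Matrix.of fun a b => c (a, b)) hc)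
      rw [← h4]
      have h5 : MvPolynomial.aeval (fun i => ((Matrix.of fun a b => algebraMap K R (c (a, b))) *
          (h : Matrix ι ι R)) i.1 i.2) f = 0 := h4
      rw [h5, zero_mul, h4]
  have hFne : F = 0 := by
    have h6 : det Y ≠ 0 := det_mvPolynomialX_ne_zero ι R
    exact (mul_eq_zero.1 hF).resolve_right h6
  have hf2 : ∀ γ : GL ι K, MvPolynomial.aeval (fun i => γ i.1 i.2) f = (0 : K) := by
    intro γ
    have h7 := hev (fun i => (gk K R γ * h⁻¹ : GL ι R) i.1 i.2)
    rw [hFne, map_zero] at h7
    have h8 : (Matrix.of fun a b => (gk K R γ * h⁻¹ : GL ι R) a b) * (h : Matrix ι ι R) = (gk K R γ : Matrix ι ι R) := by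
      change ((gk K R γ * h⁻¹ : GL ι R) : Matrix ι ι R) * (h : Matrix ι ι R) = _
      rw [← Units.val_mul, inv_mul_cancel_right]
    rw [h8] at h7
    apply FaithfulSMul.algebraMap_injective K R
    rw [map_zero, h7]
    have h9 : (Algebra.ofId K R).comp (MvPolynomial.aeval (fun i : ι × ι => (γ i.1 i.2 : K))) =
        MvPolynomial.aeval (fun i : ι × ι => ((gk K R γ : Matrix ι ι R) i.1 i.2 : R)) := by
      apply MvPolynomial.algHom_ext
      rintro ⟨a, b⟩
      rw [AlgHom.comp_apply, MvPolynomial.aeval_X, MvPolynomial.aeval_X]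
      rfl
    exact DFunLike.congr_fun h9 f
  have h10 : f * det (mvPolynomialX ι ι K) = 0 := by
    apply funextK (K := K)
    intro c
    rw [map_mul]
    by_cases hc : det (Matrix.of fun a b => c (a, b)) = 0
    · have : MvPolynomial.eval (fun i => algebraMap K K (c i)) (det (mvPolynomialX ι ι K)) = 0 := by
        rw [RingHom.map_det, ← hc]
        congr 1
        ext a b
        simp
      rw [this, mul_zero]
    · have h11 := hf2 (GeneralLinearGroup.mkOfDetNeZero (Matrix.of fun a b => c (a, b)) hc)
      have h12 : MvPolynomial.eval (fun i => algebraMap K K (c i)) f = 0 := by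
        rw [← MvPolynomial.aeval_eq_eval]
        exact h11
      rw [h12, zero_mul]
  exact (mul_eq_zero.1 h10).resolve_right (det_mvPolynomialX_ne_zero ι K)

/-- If `q(γ h) = 0` for all `γ ∈ GL(K)` then `q = 0`. -/
theorem eq_zero_of_forall [Infinite K] {R : Type u} [CommRing R] [IsDomain R] [Algebra K R] (h : GL ι R)
    (q : Q K ι) (hq : ∀ γ : GL ι K, qpt (gk K R γ * h) q = 0) : q = 0 := by
  obtain ⟨⟨f, ⟨_, n, rfl⟩⟩, hf⟩ := IsLocalization.surj (Submonoid.powers (det (mvPolynomialX ι ι K))) q
  have h1 : f = 0 := by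
    refine poly_eq_zero h f fun γ => ?_
    rw [← qpt_algebraMap]
    simp only at hf
    rw [← hf, map_mul, hq, zero_mul]
  simp only at hf
  rw [h1, map_zero] at hf
  refine (mul_eq_zero.1 hf).resolve_right ?_
  intro h2
  have h3 := IsLocalization.map_units (Q K ι) (⟨_, n, rfl⟩ : Submonoid.powers (det (mvPolynomialX ι ι K)))
  simp only at h3
  rw [h2] at h3
  exact not_isUnit_zero h3

end K551.OrbUniv
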