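import Groth.Agent.NonAbH1.K551.OrbLoc
import Groth.Agent.NonAbH1.K551.OrbChart
import Mathlib.RingTheory.Finiteness.ModuleFinitePresentation

/-!
# Existence of charts
-/

set_option autoImplicit false
set_option linter.unusedSectionVars false
universe u

open CategoryTheory CategoryTheory.Limits AlgebraicGeometry
open scoped TensorProduct

namespace K551.OrbSch

open K551.OrbBase

/-- An affine model of a base change. -/
lemma exists_model {X Y : Scheme.{u}} (h : X ⟶ Y) [IsAffineHom h] {D : Type u} [CommRing D]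
    (t : Spec (CommRingCat.of D) ⟶ Y) : ∃ (B : Type u) (_ : CommRing B) (_ : Algebra D B)
      (b : Spec (CommRingCat.of B) ⟶ X), IsPullback b (Spec.map (CommRingCat.ofHom (algebraMap D B))) h t := by
  have : IsAffine (pullback h t) := isAffine_of_isAffineHom (pullback.snd h t)
  let B : CommRingCat.{u} := Γ(pullback h t, ⊤)
  let e : pullback h t ≅ Spec B := (pullback h t).isoSpec
  let φ : CommRingCat.of D ⟶ B := Spec.preimage (e.inv ≫ pullback.snd h t)
  let _ : Algebra D B := φ.hom.toAlgebra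
  refine ⟨B, inferInstance, φ.hom.toAlgebra, e.inv ≫ pullback.fst h t, ?_⟩
  have h1 : Spec.map (CommRingCat.ofHom (algebraMap D B)) = e.inv ≫ pullback.snd h t :=
    Spec.map_preimage (e.inv ≫ pullback.snd h t)
  rw [h1]
  exact IsPullback.of_iso (IsPullback.of_hasPullback h t) e (Iso.refl _) (Iso.refl _) (Iso.refl _)
    (by simp) (by simp) (by simp) (by simp)

section Field

variable (k K : Type u) [Field k] [Field K] [Algebra k K] [Module.Finite k K] (R₀ : Type u) [CommRing R₀] [Algebra k R₀]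

lemma isPullback_bcK : IsPullback (Spec.map (CommRingCat.ofHom (Algebra.TensorProduct.includeLeftRingHom : K →+* K ⊗[k] R₀)))
    (Spec.map (CommRingCat.ofHom (Algebra.TensorProduct.includeRight : R₀ →ₐ[k] K ⊗[k] R₀).toRingHom))
    (Spec.map (CommRingCat.ofHom (algebraMap k K))) (Spec.map (CommRingCat.ofHom (algebraMap k R₀))) :=
  isPullback_SpecMap_of_isPushout _ _ _ _ (CommRingCat.isPushout_tensorProduct k K R₀)

lemma props_field : Flat (Spec.map (CommRingCat.ofHom (algebraMap k K))) ∧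
    LocallyOfFinitePresentation (Spec.map (CommRingCat.ofHom (algebraMap k K))) ∧
    Surjective (Spec.map (CommRingCat.ofHom (algebraMap k K))) := by
  refine ⟨?_, ?_, ?_⟩
  · rw [Flat.SpecMap_iff]
    exact RingHom.flat_algebraMap_iff.2 inferInstance
  · have h1 : Algebra.FinitePresentation k K := Algebra.FinitePresentation.of_finiteType.1 inferInstance
    rw [LocallyOfFinitePresentation.SpecMap_iff]
    exact RingHom.finitePresentation_algebraMap.2 h1
  · have h2 : Module.FaithfullyFlat k K := inferInstance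
    constructor
    exact PrimeSpectrum.comap_surjective_of_faithfullyFlat (A := k) (B := K)

lemma props_bcK : Flat (Spec.map (CommRingCat.ofHom (Algebra.TensorProduct.includeRight : R₀ →ₐ[k] K ⊗[k] R₀).toRingHom)) ∧
    LocallyOfFinitePresentation (Spec.map (CommRingCat.ofHom (Algebra.TensorProduct.includeRight : R₀ →ₐ[k] K ⊗[k] R₀).toRingHom)) ∧
    Surjective (Spec.map (CommRingCat.ofHom (Algebra.TensorProduct.includeRight : R₀ →ₐ[k] K ⊗[k] R₀).toRingHom)) := by
  obtain ⟨h1, h2, h3⟩ := props_field k K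
  have h := isPullback_bcK k K R₀
  exact ⟨MorphismProperty.of_isPullback (P := @Flat) h h1,
    MorphismProperty.of_isPullback (P := @LocallyOfFinitePresentation) h h2,
    MorphismProperty.of_isPullback (P := @Surjective) h h3⟩

end Field

variable {k k' K : Type u} [Field k] [Field k'] [Field K] [Algebra k k'] [Algebra k K]
  {S : Scheme.{u}} (s : S ⟶ Spec (CommRingCat.of k))

lemma exists_base_chart [Module.Finite k K] (s₀ : S) : ∃ (R : Type u) (_ : CommRing R) (_ : Algebra K R)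
    (f : Spec (CommRingCat.of R) ⟶ S), IsChart (k := k) (K := K) s f ∧ Flat f ∧ LocallyOfFinitePresentation f ∧
      s₀ ∈ Set.range f := by
  obtain ⟨V, hV, hs₀, -⟩ := exists_isAffineOpen_mem_and_subset (x := s₀) (U := ⊤) trivial
  let R₀ := Γ(S, V)
  let φ : CommRingCat.of k ⟶ R₀ := Spec.preimage (hV.fromSpec ≫ s)
  let _ : Algebra k R₀ := φ.hom.toAlgebra
  obtain ⟨h1, h2, h3⟩ := props_bcK k K R₀
  refine ⟨K ⊗[k] R₀, inferInstance, inferInstance,
    Spec.map (CommRingCat.ofHom (Algebra.TensorProduct.includeRight : R₀ →ₐ[k] K ⊗[k] R₀).toRingHom) ≫ hV.fromSpec,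
    ?_, inferInstance, inferInstance, ?_⟩
  · have h4 : hV.fromSpec ≫ s = Spec.map (CommRingCat.ofHom (algebraMap k R₀)) := (Spec.map_preimage _).symm
    change (_ ≫ _) ≫ s = _
    rw [Category.assoc, h4, ← Spec.map_comp]
    have h5 := (CommRingCat.isPushout_tensorProduct k K R₀).w
    congr 1
    exact h5.symm
  · obtain ⟨y, hy⟩ : s₀ ∈ Set.range hV.fromSpec := by rw [hV.range_fromSpec]; exact hs₀
    obtain ⟨z, hz⟩ := h3.surj y
    refine ⟨z, ?_⟩
    rw [Scheme.Hom.comp_apply]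
    exact (congrArg _ hz).trans hy

variable {s} {R : Type u} [CommRing R] [Algebra K R] {f : Spec (CommRingCat.of R) ⟶ S}
  (hf : IsChart (k := k) (K := K) s f)
  {X : Over (pullback s (Spec.map (CommRingCat.ofHom (algebraMap k k'))))}
  {B : Type u} [CommRing B] [Algebra (R ⊗[K] (K ⊗[k] k')) B] {b : Spec (CommRingCat.of B) ⟶ X.left}
  (hb : IsPullback b (Spec.map (CommRingCat.ofHom (algebraMap (R ⊗[K] (K ⊗[k] k')) B))) X.hom (tR k' hf))

include hb in
/-- base change of a chart -/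
lemma isPullback_refine {R₁ : Type u} [CommRing R₁] [Algebra K R₁] (p : R →ₐ[K] R₁)
    [Algebra (R ⊗[K] (K ⊗[k] k')) (R₁ ⊗[K] (K ⊗[k] k'))]
    (hp : algebraMap (R ⊗[K] (K ⊗[k] k')) (R₁ ⊗[K] (K ⊗[k] k')) = (tm (Λ := K ⊗[k] k') p).toRingHom) :
    IsPullback (Spec.map (CommRingCat.ofHom (Algebra.TensorProduct.includeRight : B →ₐ[R ⊗[K] (K ⊗[k] k')]
      (R₁ ⊗[K] (K ⊗[k] k')) ⊗[R ⊗[K] (K ⊗[k] k')] B).toRingHom) ≫ b)
      (Spec.map (CommRingCat.ofHom (algebraMap (R₁ ⊗[K] (K ⊗[k] k')) ((R₁ ⊗[K] (K ⊗[k] k')) ⊗[R ⊗[K] (K ⊗[k] k')] B))))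
      X.hom (tR k' (isChart_comp p hf)) := by
  have h1 := isPullback_SpecMap_of_isPushout _ _ _ _
    (CommRingCat.isPushout_tensorProduct (R ⊗[K] (K ⊗[k] k')) (R₁ ⊗[K] (K ⊗[k] k')) B)
  rw [tR_comp (hf := hf), ← hp]
  exact h1.flip.paste_horiz hb

/-- Existence of a chart over which `X` is free. -/
theorem exists_chart [Module.Finite k K] (π₀ : K ⊗[k] k' →ₐ[K] K) (hπ : IsNilpotent (RingHom.ker π₀))
    (X : Over (pullback s (Spec.map (CommRingCat.ofHom (algebraMap k k')))))
    [IsFinite X.hom] [Flat X.hom] [LocallyOfFinitePresentation X.hom] [Surjective X.hom] (s₀ : S) :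
    ∃ (R : Type u) (_ : CommRing R) (_ : Algebra K R) (f : Spec (CommRingCat.of R) ⟶ S)
      (hf : IsChart (k := k) (K := K) s f) (B : Type u) (_ : CommRing B) (_ : Algebra (R ⊗[K] (K ⊗[k] k')) B)
      (b : Spec (CommRingCat.of B) ⟶ X.left),
      IsPullback b (Spec.map (CommRingCat.ofHom (algebraMap (R ⊗[K] (K ⊗[k] k')) B))) X.hom (tR k' hf) ∧
      Flat f ∧ LocallyOfFinitePresentation f ∧ s₀ ∈ Set.range f ∧ Module.Free (R ⊗[K] (K ⊗[k] k')) B ∧
      Module.Finite (R ⊗[K] (K ⊗[k] k')) B ∧ Nontrivial B := by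
  obtain ⟨R, _, _, f, hf, hfl, hfp, ⟨z, hz⟩⟩ := exists_base_chart (K := K) s s₀
  obtain ⟨B, _, _, b, hb⟩ := exists_model X.hom (tR k' hf)
  have hB1 : IsFinite (Spec.map (CommRingCat.ofHom (algebraMap (R ⊗[K] (K ⊗[k] k')) B))) :=
    MorphismProperty.of_isPullback (P := @IsFinite) hb inferInstance
  have hB2 : Flat (Spec.map (CommRingCat.ofHom (algebraMap (R ⊗[K] (K ⊗[k] k')) B))) :=
    MorphismProperty.of_isPullback (P := @Flat) hb inferInstance
  have hB3 : LocallyOfFinitePresentation (Spec.map (CommRingCat.ofHom (algebraMap (R ⊗[K] (K ⊗[k] k')) B))) :=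
    MorphismProperty.of_isPullback (P := @LocallyOfFinitePresentation) hb inferInstance
  rw [IsFinite.SpecMap_iff] at hB1
  rw [Flat.SpecMap_iff] at hB2
  rw [LocallyOfFinitePresentation.SpecMap_iff] at hB3
  have hB1' : Module.Finite (R ⊗[K] (K ⊗[k] k')) B := RingHom.finite_algebraMap.1 hB1
  have hB2' : Module.Flat (R ⊗[K] (K ⊗[k] k')) B := RingHom.flat_algebraMap_iff.1 hB2
  have hB3' : Algebra.FinitePresentation (R ⊗[K] (K ⊗[k] k')) B := RingHom.finitePresentation_algebraMap.1 hB3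
  have hB4 : Module.FinitePresentation (R ⊗[K] (K ⊗[k] k')) B :=
    Module.FinitePresentation.of_finite_of_finitePresentation _ _
  obtain ⟨r, hr, hfree⟩ := exists_free_away π₀ hπ B z.asIdeal
  let R₁ := Localization.Away r
  let p : R →ₐ[K] R₁ := IsScalarTower.toAlgHom K R R₁
  let _ : Algebra (R ⊗[K] (K ⊗[k] k')) (R₁ ⊗[K] (K ⊗[k] k')) := (tm (Λ := K ⊗[k] k') p).toRingHom.toAlgebra
  have hloc : IsLocalization.Away (r ⊗ₜ[K] (1 : K ⊗[k] k')) (R₁ ⊗[K] (K ⊗[k] k')) :=
    isLocalization_away_tensor r R₁ rfl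
  have hfree' := hfree (R₁ ⊗[K] (K ⊗[k] k'))
  have hP := isPullback_refine hf hb p rfl
  have hp1 : IsOpenImmersion (Spec.map (CommRingCat.ofHom p.toRingHom)) :=
    IsOpenImmersion.of_isLocalization (R := R) (S := R₁) r
  have hz1 : z ∈ Set.range (Spec.map (CommRingCat.ofHom p.toRingHom)) := by
    have h1 := PrimeSpectrum.localization_away_comap_range R₁ r
    have h2 : z ∈ (PrimeSpectrum.basicOpen r : Set (PrimeSpectrum R)) := hr
    rw [← h1] at h2
    exact h2
  obtain ⟨y, hy⟩ := hz1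
  have hR₁ : Nontrivial R₁ := by
    by_contra h
    rw [not_nontrivial_iff_subsingleton] at h
    exact y.2.ne_top (Ideal.eq_top_iff_one _ |>.2 (by
      rw [Subsingleton.elim (1 : R₁) 0]
      exact zero_mem _))
  have hD : Nontrivial (R₁ ⊗[K] (K ⊗[k] k')) := (aug π₀ R₁).toRingHom.domain_nontrivial
  refine ⟨R₁, inferInstance, inferInstance, Spec.map (CommRingCat.ofHom p.toRingHom) ≫ f, isChart_comp p hf,
    (R₁ ⊗[K] (K ⊗[k] k')) ⊗[R ⊗[K] (K ⊗[k] k')] B, inferInstance, inferInstance, _, hP, inferInstance, inferInstance,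
    ⟨y, ?_⟩, hfree', inferInstance, ?_⟩
  · rw [Scheme.Hom.comp_apply, hy, hz]
  · have hsurj := MorphismProperty.of_isPullback (P := @Surjective) hP inferInstance
    obtain ⟨q⟩ : Nonempty (Spec (CommRingCat.of (R₁ ⊗[K] (K ⊗[k] k')))) := inferInstance
    obtain ⟨w, -⟩ := hsurj.surj q
    by_contra h
    rw [not_nontrivial_iff_subsingleton] at h
    exact w.2.ne_top (Ideal.eq_top_iff_one _ |>.2 (by
      rw [Subsingleton.elim (1 : (R₁ ⊗[K] (K ⊗[k] k')) ⊗[R ⊗[K] (K ⊗[k] k')] B) 0]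
      exact zero_mem _))

end K551.OrbSch
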