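import Mathlib.RingTheory.MvPolynomial.Basic
import Mathlib.Data.Finsupp.Weight
import Mathlib.Algebra.MvPolynomial.Funext

/-!
# A weight filtration on a polynomial ring, and endomorphisms acting unipotently
-/

set_option autoImplicit false
universe u v

open MvPolynomial

namespace K551.OrbFilt

variable {Q : Type u} [CommRing Q] {σ : Type v} (w : σ → ℕ)

/-- polynomials all of whose monomials have weight `< d`. -/
noncomputable def V (Q : Type u) [CommRing Q] {σ : Type v} (w : σ → ℕ) (d : ℕ) : Submodule Q (MvPolynomial σ Q) :=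
  restrictSupport Q {m | Finsupp.weight w m < d}

variable {w}

lemma mem_V {d : ℕ} {f : MvPolynomial σ Q} : f ∈ V Q w d ↔ ∀ m ∈ f.support, Finsupp.weight w m < d := by
  rw [V, mem_restrictSupport_iff]
  rfl

lemma V_zero {f : MvPolynomial σ Q} (h : f ∈ V Q w 0) : f = 0 := by
  rw [mem_V] at h
  rw [← MvPolynomial.support_eq_empty, Finset.eq_empty_iff_forall_notMem]
  intro m hm
  exact absurd (h m hm) (Nat.not_lt_zero _)

lemma V_mono {d d' : ℕ} (h : d ≤ d') : V Q w d ≤ V Q w d' := by
  intro f hf
  rw [mem_V] at hf ⊢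
  exact fun m hm => (hf m hm).trans_le h

lemma mul_mem_V {a b : ℕ} {f g : MvPolynomial σ Q} (hf : f ∈ V Q w a) (hg : g ∈ V Q w (b + 1)) :
    f * g ∈ V Q w (a + b) := by
  classical
  rw [mem_V] at hf hg ⊢
  intro m hm
  have := MvPolynomial.support_mul f g hm
  obtain ⟨x, hx, y, hy, rfl⟩ := Finset.mem_add.1 this
  rw [map_add]
  have h1 := hf x hx
  have h2 := hg y hy
  omega

lemma monomial_mem_V (m : σ →₀ ℕ) (q : Q) : monomial m q ∈ V Q w (Finsupp.weight w m + 1) := by
  classical
  rw [mem_V]
  intro m' hm'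
  have := MvPolynomial.support_monomial_subset hm'
  rw [Finset.mem_singleton] at this
  subst this
  exact Nat.lt_succ_self _

lemma exists_mem_V (f : MvPolynomial σ Q) : ∃ d, f ∈ V Q w d := by
  refine ⟨f.support.sup (fun m => Finsupp.weight w m) + 1, ?_⟩
  rw [mem_V]
  intro m hm
  exact Nat.lt_succ_of_le (Finset.le_sup (f := fun m => Finsupp.weight w m) hm)

/-- An endomorphism which is the identity modulo lower weights on the variables is so on all monomials. -/
theorem sub_mem_V (φ : MvPolynomial σ Q →+* MvPolynomial σ Q) (h1 : ∀ a, φ (C a) = C a)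
    (h2 : ∀ i, φ (X i) - X i ∈ V Q w (w i)) {d : ℕ} {f : MvPolynomial σ Q} (hf : f ∈ V Q w (d + 1)) :
    φ f - f ∈ V Q w d := by
  have hX : ∀ i, X i ∈ V Q w (w i + 1) := by
    intro i
    have := monomial_mem_V (w := w) (Finsupp.single i 1) (1 : Q)
    rw [Finsupp.weight_single, one_smul] at this
    exact this
  have hadd : ∀ m m' : σ →₀ ℕ, φ (monomial m 1) - monomial m 1 ∈ V Q w (Finsupp.weight w m) →
      φ (monomial m' 1) - monomial m' 1 ∈ V Q w (Finsupp.weight w m') →
      φ (monomial (m + m') 1) - monomial (m + m') 1 ∈ V Q w (Finsupp.weight w (m + m')) := by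
    intro m m' hm hm'
    have e1 : (monomial (m + m') (1 : Q)) = monomial m 1 * monomial m' 1 := by
      rw [monomial_mul, one_mul]
    have e2 : φ (monomial (m + m') 1) - monomial (m + m') 1 =
        (φ (monomial m 1) - monomial m 1) * φ (monomial m' 1) +
          (φ (monomial m' 1) - monomial m' 1) * monomial m 1 := by
      rw [e1, map_mul]; ring
    have e3 : φ (monomial m' 1) ∈ V Q w (Finsupp.weight w m' + 1) := by
      have := Submodule.add_mem _ (V_mono (Nat.le_succ _) hm') (monomial_mem_V (w := w) m' (1 : Q))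
      rwa [sub_add_cancel] at this
    rw [e2, map_add]
    refine Submodule.add_mem _ (mul_mem_V hm e3) ?_
    rw [add_comm]
    exact mul_mem_V hm' (monomial_mem_V m 1)
  have key : ∀ m : σ →₀ ℕ, φ (monomial m 1) - monomial m 1 ∈ V Q w (Finsupp.weight w m) := by
    have h0 : φ (monomial 0 1) - monomial 0 1 ∈ V Q w (Finsupp.weight w (0 : σ →₀ ℕ)) := by
      have h3 : φ (monomial 0 1) - monomial 0 1 = 0 := by
        have := h1 1
        rw [C_apply] at this
        rw [this, sub_self]
      rw [h3]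
      exact Submodule.zero_mem _
    intro m
    induction m using Finsupp.induction_linear with
    | zero => exact h0
    | add m m' hm hm' => exact hadd m m' hm hm'
    | single i n =>
      induction n with
      | zero =>
        rw [Finsupp.single_zero]
        exact h0
      | succ n ih =>
        rw [Finsupp.single_add]
        refine hadd _ _ ih ?_
        rw [Finsupp.weight_single, one_smul]
        exact h2 i
  rw [mem_V] at hf
  rw [f.as_sum, map_sum, ← Finset.sum_sub_distrib]
  refine Submodule.sum_mem _ fun m hm => ?_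
  have e1 : monomial m (coeff m f) = C (coeff m f) * monomial m 1 := by
    rw [C_mul_monomial, mul_one]
  rw [e1, map_mul, h1, ← mul_sub, C_mul']
  exact Submodule.smul_mem _ _ (V_mono (Nat.le_of_lt_succ (hf m hm)) (key m))

/-- A nonzero subspace stable under a family of such endomorphisms contains a nonzero invariant element. -/
theorem exists_invariant {T : Type*} (φ : T → (MvPolynomial σ Q →+* MvPolynomial σ Q))
    (h1 : ∀ t a, φ t (C a) = C a) (h2 : ∀ t i, φ t (X i) - X i ∈ V Q w (w i))
    (W : AddSubgroup (MvPolynomial σ Q)) (hW : ∃ f ∈ W, f ≠ 0) (hφ : ∀ t, ∀ f ∈ W, φ t f ∈ W) :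
    ∃ f ∈ W, f ≠ 0 ∧ ∀ t, φ t f = f := by
  classical
  have hex : ∃ d, ∃ f ∈ W, f ≠ 0 ∧ f ∈ V Q w d := by
    obtain ⟨f, hf, hf0⟩ := hW
    obtain ⟨d, hd⟩ := exists_mem_V (w := w) f
    exact ⟨d, f, hf, hf0, hd⟩
  obtain ⟨f, hf, hf0, hfd⟩ := Nat.find_spec hex
  refine ⟨f, hf, hf0, fun t => ?_⟩
  have hpos : Nat.find hex ≠ 0 := by
    intro h0
    rw [h0] at hfd
    exact hf0 (V_zero hfd)
  obtain ⟨d, hd⟩ := Nat.exists_eq_succ_of_ne_zero hpos
  rw [hd] at hfd
  have h3 := sub_mem_V (φ t) (h1 t) (h2 t) hfd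
  by_contra hne
  have h4 : φ t f - f ≠ 0 := fun h => hne (sub_eq_zero.1 h)
  exact Nat.find_min hex (m := d) (by omega) ⟨_, W.sub_mem (hφ t f hf) hf, h4, h3⟩

end K551.OrbFilt
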