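import Groth.Agent.NonAbH1.K551.OrbSec2
import Groth.Agent.NonAbH1.K551.OrbEx
import Groth.Agent.S5091
import Mathlib.AlgebraicGeometry.Noetherian

/-!
# fppf local triviality on the base: the case of an infinite field
-/

set_option autoImplicit false
set_option linter.unusedSectionVars false
universe u

open CategoryTheory CategoryTheory.Limits AlgebraicGeometry
open scoped TensorProduct

namespace K551.OrbSch

open K551.OrbBase K551.OrbAT Groth.Agent.Books.AffBridge K551.Tors

lemma props_of_iso {k' : Type u} [Field k'] {G : Over (Spec (CommRingCat.of k'))} [IsFinite G.hom] {O : Type u}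
    [CommRing O] [Algebra k' O] (e : G ≅ SpecOver k' O) : Flat G.hom ∧ LocallyOfFinitePresentation G.hom := by
  have hO : Module.Finite k' O := finite_of_iso e
  have h1 : Flat (Spec.map (CommRingCat.ofHom (algebraMap k' O))) := by
    rw [Flat.SpecMap_iff]
    exact RingHom.flat_algebraMap_iff.2 inferInstance
  have h2 : LocallyOfFinitePresentation (Spec.map (CommRingCat.ofHom (algebraMap k' O))) := by
    have h1 : Algebra.FinitePresentation k' O := Algebra.FinitePresentation.of_finiteType.1 inferInstance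
    rw [LocallyOfFinitePresentation.SpecMap_iff]
    exact RingHom.finitePresentation_algebraMap.2 h1
  have h3 : e.hom.left ≫ Spec.map (CommRingCat.ofHom (algebraMap k' O)) = G.hom := Over.w e.hom
  rw [← h3]
  exact ⟨(MorphismProperty.cancel_left_of_respectsIso @Flat _ _).2 h1,
    (MorphismProperty.cancel_left_of_respectsIso @LocallyOfFinitePresentation _ _).2 h2⟩

lemma exists_family {S : Scheme.{u}} {P : MorphismProperty Scheme.{u}} {R : Presieve S}
    (hR : R ∈ Scheme.precoverage P S) :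
    ∃ (U : S → Scheme.{u}) (f : ∀ i, U i ⟶ S), (∀ i, R (f i)) ∧ (∀ i, P (f i)) ∧ ∀ i, i ∈ Set.range (f i) := by
  have h1 : ∀ s : S, ∃ (Y : Scheme.{u}) (g : Y ⟶ S), R g ∧ s ∈ Set.range g := by
    intro s
    obtain ⟨Y, g, hg, hs⟩ := hR.1 s
    obtain ⟨hg⟩ := hg
    exact ⟨_, _, hg, hs⟩
  choose U f hf hs using h1
  exact ⟨U, f, hf, fun i => hR.2 (hf i), hs⟩

/-- The case where the theorem on orbits applies. -/
theorem exists_cover {k k' K : Type u} [Field k] [Field k'] [Field K] [Algebra k k'] [Algebra k K]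
    [Infinite K] [Module.Finite k K] [Module.Finite K (K ⊗[k] k')] (π₀ : K ⊗[k] k' →ₐ[K] K)
    (hπ : IsNilpotent (RingHom.ker π₀))
    (G : Over (Spec (CommRingCat.of k'))) [GrpObj G] [IsFinite G.hom]
    (S : Scheme.{u}) (s : S ⟶ Spec (CommRingCat.of k)) (U : S.Opens)
    (hUd : CInt.IsSchematicallyDense U)
    (X : Over (pullback s (Spec.map (CommRingCat.ofHom (algebraMap k k')))))
    (a : AlgGrp.Action (Red.bc (pullback.snd s (Spec.map (CommRingCat.ofHom (algebraMap k k')))) G) X)
    (ha : NonAbH1.IsTorsorFor Scheme.fppfPrecoverage a)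
    (hU : ∃ RU ∈ Scheme.fppfPrecoverage (U : Scheme.{u}), ∀ ⦃V : Scheme.{u}⦄ (g : V ⟶ (U : Scheme.{u})), RU g →
      NonAbH1.HasSectionOver X
        (Limits.pullback.snd g (Limits.pullback.fst s (Spec.map (CommRingCat.ofHom (algebraMap k k'))) ∣_ U) ≫ (Limits.pullback.fst s (Spec.map (CommRingCat.ofHom (algebraMap k k'))) ⁻¹ᵁ U).ι)) :
    ∃ RS ∈ Scheme.fppfPrecoverage S, ∀ ⦃V : Scheme.{u}⦄ (g : V ⟶ S), RS g →
      NonAbH1.HasSectionOver X (Limits.pullback.snd g (Limits.pullback.fst s (Spec.map (CommRingCat.ofHom (algebraMap k k'))))) := by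
  have : IsAffine G.left := isAffine_of_isAffineHom G.hom
  obtain ⟨O, _, _, e, -⟩ := exists_hopf k' G
  obtain ⟨hG1, hG2⟩ := props_of_iso e
  have hG3 : IsFinite (Red.bc (pullback.snd s (Spec.map (CommRingCat.ofHom (algebraMap k k')))) G).hom :=
    inferInstanceAs (IsFinite (pullback.snd _ _))
  have hG4 : Flat (Red.bc (pullback.snd s (Spec.map (CommRingCat.ofHom (algebraMap k k')))) G).hom :=
    inferInstanceAs (Flat (pullback.snd _ _))
  have hG5 : LocallyOfFinitePresentation (Red.bc (pullback.snd s (Spec.map (CommRingCat.ofHom (algebraMap k k')))) G).hom :=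
    inferInstanceAs (LocallyOfFinitePresentation (pullback.snd _ _))
  have hX1 : IsFinite X.hom := isFinite_of_torsor ha
  have hX2 : Flat X.hom := flat_of_torsor ha
  have hX3 : LocallyOfFinitePresentation X.hom := lfp_of_torsor ha
  have hX4 : Surjective X.hom := surjective_of_torsor ha
  obtain ⟨RU, hRU, hsec⟩ := hU
  obtain ⟨V, g, hg, hP, hs⟩ := exists_family (P := @Flat ⊓ @LocallyOfFinitePresentation) hRU
  have hcov : ∀ u : (U : Scheme.{u}), ∃ i, u ∈ Set.range (g i) := fun u => ⟨u, hs u⟩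
  have key : ∀ s₀ : S, ∃ (W : Scheme.{u}) (g : W ⟶ S), Flat g ∧ LocallyOfFinitePresentation g ∧ s₀ ∈ Set.range g ∧
      NonAbH1.HasSectionOver X (Limits.pullback.snd g
        (Limits.pullback.fst s (Spec.map (CommRingCat.ofHom (algebraMap k k'))))) := by
    intro s₀
    obtain ⟨R, _, _, f, hf, B, _, _, b, hb, hf1, hf2, ⟨z, hz⟩, hB1, hB2, hB3⟩ := exists_chart (K := K) π₀ hπ X s₀
    obtain ⟨R₁, _, _, p, hp1, hp2, hsec⟩ := chart_section hf hb π₀ hπ G a ha.1 U hUd g (fun i => (hP i).1) hcov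
      (fun i => hsec (g i) (hg i))
    have h1 : Flat (Spec.map (CommRingCat.ofHom p.toRingHom)) ∧ Surjective (Spec.map (CommRingCat.ofHom p.toRingHom)) :=
      (flat_and_surjective_SpecMap_iff _).2 hp1
    have h2 : LocallyOfFinitePresentation (Spec.map (CommRingCat.ofHom p.toRingHom)) := by
      rw [LocallyOfFinitePresentation.SpecMap_iff]
      exact hp2
    have h3 := h1.1
    obtain ⟨y, hy⟩ := h1.2.surj z
    refine ⟨_, Spec.map (CommRingCat.ofHom p.toRingHom) ≫ f, inferInstance, inferInstance, ⟨y, ?_⟩, hsec⟩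
    rw [Scheme.Hom.comp_apply, hy, hz]
  choose W c hc1 hc2 hc3 hc4 using key
  refine ⟨.ofArrows W c, ?_, ?_⟩
  · exact (Scheme.ofArrows_mem_precoverage_iff _).2 ⟨fun x => ⟨x, hc3 x⟩, fun i => ⟨hc1 i, hc2 i⟩⟩
  · rintro _ _ ⟨i⟩
    exact hc4 i

end K551.OrbSch
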