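import Groth.Agent.NonAbH1.K551.OrbInv2
import Groth.Agent.NonAbH1.K551.OrbDens
import Mathlib.LinearAlgebra.Matrix.Kronecker

/-!
# The orbit functions of a pair of matrices
-/

set_option autoImplicit false
set_option linter.unusedSectionVars false
universe u v

open TensorProduct Matrix Kronecker

namespace K551.OrbUniv

open OrbBase

variable {K : Type u} [Field K] {Λ : Type u} [CommRing Λ] [Algebra K Λ] {ι : Type} [Fintype ι] [DecidableEq ι]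

section Kro

variable {D : Type u} [CommRing D]

/-- `g • β` -/
noncomputable def bet (β : Matrix (ι × ι) (ι × ι) D) (g : GL ι D) : Matrix (ι × ι) (ι × ι) D :=
  ((1 : Matrix ι ι D) ⊗ₖ (g : Matrix ι ι D)) * β * (((g⁻¹ : GL ι D) : Matrix ι ι D) ⊗ₖ ((g⁻¹ : GL ι D) : Matrix ι ι D))

/-- `g • θ` -/
noncomputable def tht (θ : Matrix (ι × ι) (ι × ι) D) (g : GL ι D) : Matrix (ι × ι) (ι × ι) D :=
  ((g : Matrix ι ι D) ⊗ₖ (g : Matrix ι ι D)) * θ * ((1 : Matrix ι ι D) ⊗ₖ ((g⁻¹ : GL ι D) : Matrix ι ι D))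

lemma bet_mul (β : Matrix (ι × ι) (ι × ι) D) (g h : GL ι D) : bet β (g * h) = bet (bet β h) g := by
  simp only [bet, _root_.mul_inv_rev, Units.val_mul, Matrix.mul_kronecker_mul]
  have h1 : (1 : Matrix ι ι D) ⊗ₖ ((g : Matrix ι ι D) * (h : Matrix ι ι D)) =
      ((1 : Matrix ι ι D) ⊗ₖ (g : Matrix ι ι D)) * ((1 : Matrix ι ι D) ⊗ₖ (h : Matrix ι ι D)) := by
    rw [← Matrix.mul_kronecker_mul, mul_one]
  rw [h1]
  simp only [mul_assoc]

lemma tht_mul (θ : Matrix (ι × ι) (ι × ι) D) (g h : GL ι D) : tht θ (g * h) = tht (tht θ h) g := by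
  simp only [tht, _root_.mul_inv_rev, Units.val_mul, Matrix.mul_kronecker_mul]
  have h1 : (1 : Matrix ι ι D) ⊗ₖ (((h⁻¹ : GL ι D) : Matrix ι ι D) * ((g⁻¹ : GL ι D) : Matrix ι ι D)) =
      ((1 : Matrix ι ι D) ⊗ₖ ((h⁻¹ : GL ι D) : Matrix ι ι D)) * ((1 : Matrix ι ι D) ⊗ₖ ((g⁻¹ : GL ι D) : Matrix ι ι D)) := by
    rw [← Matrix.mul_kronecker_mul, mul_one]
  rw [h1]
  simp only [mul_assoc]

variable {D' : Type u} [CommRing D']

lemma map_kronecker (f : D →+* D') (M N : Matrix ι ι D) : (M ⊗ₖ N).map f = M.map f ⊗ₖ N.map f := by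
  ext i j
  simp

lemma bet_map (f : D →+* D') (β : Matrix (ι × ι) (ι × ι) D) (g : GL ι D) :
    (bet β g).map f = bet (β.map f) (GeneralLinearGroup.map f g) := by
  rw [bet, bet, Matrix.map_mul, Matrix.map_mul, map_kronecker, map_kronecker,
    show (1 : Matrix ι ι D).map f = 1 from f.mapMatrix.map_one, ← map_inv]
  rfl

lemma tht_map (f : D →+* D') (θ : Matrix (ι × ι) (ι × ι) D) (g : GL ι D) :
    (tht θ g).map f = tht (θ.map f) (GeneralLinearGroup.map f g) := by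
  rw [tht, tht, Matrix.map_mul, Matrix.map_mul, map_kronecker, map_kronecker,
    show (1 : Matrix ι ι D).map f = 1 from f.mapMatrix.map_one, ← map_inv]
  rfl

end Kro

section Mem

variable {R : Type u} [CommRing R] [Algebra K R]

lemma cf_mul (l : Λ →ₗ[K] K) (a : Λ) (x : R ⊗[K] Λ) :
    cf l R (((1 : R) ⊗ₜ[K] a) * x) = cf (l ∘ₗ LinearMap.mulLeft K a) R x := by
  induction x with
  | zero => simp
  | add x y hx hy => rw [mul_add, map_add, hx, hy, map_add]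
  | tmul r y =>
    rw [Algebra.TensorProduct.tmul_mul_tmul, one_mul, cf_tmul, cf_tmul]
    rfl

/-- elements with coefficients in `S`. -/
def SA (Λ : Type u) [CommRing Λ] [Algebra K Λ] (S : Submodule K R) : AddSubgroup (R ⊗[K] Λ) where
  carrier := {x | ∀ l : Λ →ₗ[K] K, cf l R x ∈ S}
  add_mem' := by
    intro x y hx hy l
    rw [map_add]
    exact S.add_mem (hx l) (hy l)
  zero_mem' := by
    intro l
    rw [map_zero]
    exact S.zero_mem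
  neg_mem' := by
    intro x hx l
    rw [map_neg]
    exact S.neg_mem (hx l)

lemma mem_SA {S : Submodule K R} {x : R ⊗[K] Λ} : x ∈ SA Λ S ↔ ∀ l : Λ →ₗ[K] K, cf l R x ∈ S := Iff.rfl

lemma mul_mem_SA {S : Submodule K R} {x : R ⊗[K] Λ} (a : Λ) (hx : x ∈ SA Λ S) :
    ((1 : R) ⊗ₜ[K] a) * x ∈ SA Λ S := by
  intro l
  rw [cf_mul]
  exact hx _

lemma mat_mul_mem_SA {S : Submodule K R} {κ κ' : Type} [Fintype κ] [Fintype κ'] (N : Matrix κ κ Λ)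
    (M : Matrix κ κ' (R ⊗[K] Λ)) (hM : ∀ i j, M i j ∈ SA Λ S) (i : κ) (j : κ') :
    (N.map (fun a => (1 : R) ⊗ₜ[K] a) * M) i j ∈ SA Λ S := by
  rw [Matrix.mul_apply]
  exact sum_mem fun d _ => mul_mem_SA _ (hM _ _)

lemma mat_mul_mem_SA' {S : Submodule K R} {κ κ' : Type} [Fintype κ] [Fintype κ'] (N : Matrix κ' κ' Λ)
    (M : Matrix κ κ' (R ⊗[K] Λ)) (hM : ∀ i j, M i j ∈ SA Λ S) (i : κ) (j : κ') :
    (M * N.map (fun a => (1 : R) ⊗ₜ[K] a)) i j ∈ SA Λ S := by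
  rw [Matrix.mul_apply]
  refine sum_mem fun d _ => ?_
  rw [mul_comm]
  exact mul_mem_SA _ (hM _ _)

/-- constants -/
noncomputable def kr (K : Type u) [Field K] [Algebra K Λ] (R : Type u) [CommRing R] [Algebra K R] :
    Λ →+* R ⊗[K] Λ := (Algebra.TensorProduct.includeRight (R := K) (A := R) (B := Λ)).toRingHom

lemma bet_mem_SA {S : Submodule K R} (M : Matrix (ι × ι) (ι × ι) (R ⊗[K] Λ)) (hM : ∀ i j, M i j ∈ SA Λ S)
    (γ : GL ι Λ) (i j : ι × ι) : bet M (gr K R γ) i j ∈ SA Λ S := by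
  have h1 : ∀ N N' : Matrix ι ι Λ, N.map (kr K R) ⊗ₖ N'.map (kr K R) = (N ⊗ₖ N').map (fun a => (1 : R) ⊗ₜ[K] a) := by
    intro N N'
    exact (map_kronecker (kr K R) N N').symm
  have h2 : (1 : Matrix ι ι (R ⊗[K] Λ)) = (1 : Matrix ι ι Λ).map (kr K R) := ((kr K R).mapMatrix.map_one).symm
  have h3 : bet M (gr K R γ) = ((1 : Matrix ι ι Λ) ⊗ₖ (γ : Matrix ι ι Λ)).map (fun a => (1 : R) ⊗ₜ[K] a) * M *
      (((γ⁻¹ : GL ι Λ) : Matrix ι ι Λ) ⊗ₖ ((γ⁻¹ : GL ι Λ) : Matrix ι ι Λ)).map (fun a => (1 : R) ⊗ₜ[K] a) := by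
    rw [bet, h2, ← map_inv, ← h1, ← h1]
    rfl
  rw [h3]
  exact mat_mul_mem_SA' _ _ (mat_mul_mem_SA _ _ hM) _ _

lemma tht_mem_SA {S : Submodule K R} (M : Matrix (ι × ι) (ι × ι) (R ⊗[K] Λ)) (hM : ∀ i j, M i j ∈ SA Λ S)
    (γ : GL ι Λ) (i j : ι × ι) : tht M (gr K R γ) i j ∈ SA Λ S := by
  have h1 : ∀ N N' : Matrix ι ι Λ, N.map (kr K R) ⊗ₖ N'.map (kr K R) = (N ⊗ₖ N').map (fun a => (1 : R) ⊗ₜ[K] a) := by
    intro N N'
    exact (map_kronecker (kr K R) N N').symm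
  have h2 : (1 : Matrix ι ι (R ⊗[K] Λ)) = (1 : Matrix ι ι Λ).map (kr K R) := ((kr K R).mapMatrix.map_one).symm
  have h3 : tht M (gr K R γ) = ((γ : Matrix ι ι Λ) ⊗ₖ (γ : Matrix ι ι Λ)).map (fun a => (1 : R) ⊗ₜ[K] a) * M *
      ((1 : Matrix ι ι Λ) ⊗ₖ ((γ⁻¹ : GL ι Λ) : Matrix ι ι Λ)).map (fun a => (1 : R) ⊗ₜ[K] a) := by
    rw [tht, h2, ← map_inv, ← h1, ← h1]
    rfl
  rw [h3]
  exact mat_mul_mem_SA' _ _ (mat_mul_mem_SA _ _ hM) _ _

end Mem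

end K551.OrbUniv
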