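import Groth.Agent.NonAbH1.K551.OrbPG
import Groth.Agent.NonAbH1.K551.Tors
import Groth.Agent.Books.AffBridge
import Groth.Agent.Sga3B.DSPts

/-!
# From group schemes and torsors to algebra
-/

set_option autoImplicit false
set_option linter.unusedSectionVars false
universe u

open CategoryTheory CategoryTheory.Limits MonoidalCategory CartesianMonoidalCategory MonObj GrpObj AlgebraicGeometry
open Groth.Agent.Books.BorelOrb Groth.Agent.Books.AffBridge

namespace K551.OrbAT

section Grp

variable {k : Type u} [Field k] {O : Type u} [CommRing O] [Algebra k O] {G : Over (Spec (CommRingCat.of k))}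
  (e : G ≅ SpecOver k O) {C C' : Type u} [CommRing C] [Algebra k C] [CommRing C'] [Algebra k C']

/-- the point of `G` -/
noncomputable def gp (g : O →ₐ[k] C) : SpecOver k C ⟶ G := specMap k g ≫ e.inv

/-- the algebra map -/
noncomputable def og (γ : SpecOver k C ⟶ G) : O →ₐ[k] C := specPreimage k (γ ≫ e.hom)

lemma og_gp (g : O →ₐ[k] C) : og e (gp e g) = g := by
  rw [og, gp, Category.assoc, e.inv_hom_id, Category.comp_id, specPreimage_specMap]

lemma gp_og (γ : SpecOver k C ⟶ G) : gp e (og e γ) = γ := by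
  rw [og, gp, specMap_specPreimage, Category.assoc, e.hom_inv_id, Category.comp_id]

lemma comp_gp (f : C →ₐ[k] C') (g : O →ₐ[k] C) : specMap k f ≫ gp e g = gp e (f.comp g) := by
  rw [gp, gp, specMap_comp, Category.assoc]

lemma gp_injective {g h : O →ₐ[k] C} (hh : gp e g = gp e h) : g = h := by
  rw [← og_gp e g, hh, og_gp]

lemma comp_og (f : C →ₐ[k] C') (γ : SpecOver k C ⟶ G) : f.comp (og e γ) = og e (specMap k f ≫ γ) := by
  apply gp_injective e
  rw [← comp_gp, gp_og, gp_og]

variable [GrpObj G]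

lemma ofId_comp_one : (Algebra.ofId k C).comp (og e (1 : SpecOver k k ⟶ G)) = og e (1 : SpecOver k C ⟶ G) := by
  rw [comp_og, comp_one]

/-- The group functor of an affine group scheme. -/
noncomputable def pg : PG k O where
  mul g h := og e (gp e g * gp e h)
  inv g := og e (gp e g)⁻¹
  one := og e 1
  comp_mul f g h := by rw [comp_og, comp_mul, comp_gp, comp_gp]
  comp_inv f g := by rw [comp_og, comp_inv, comp_gp]
  mul_assoc g h l := by rw [gp_og, gp_og, _root_.mul_assoc]
  one_mul g := by rw [ofId_comp_one, gp_og, _root_.one_mul, og_gp]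
  mul_one g := by rw [ofId_comp_one, gp_og, _root_.mul_one, og_gp]
  mul_inv g := by rw [ofId_comp_one, gp_og, mul_inv_cancel]
  inv_mul g := by rw [ofId_comp_one, gp_og, inv_mul_cancel]

lemma gp_mul (g h : O →ₐ[k] C) : gp e ((pg e).mul g h) = gp e g * gp e h := gp_og e _

end Grp

section Tor

variable {k : Type u} [Field k] {O : Type u} [CommRing O] [Algebra k O] {G : Over (Spec (CommRingCat.of k))}
  (e : G ≅ SpecOver k O)
  {S' : Scheme.{u}} (q : S' ⟶ Spec (CommRingCat.of k)) {D : Type u} [CommRing D] [Algebra k D]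
  (t : Spec (CommRingCat.of D) ⟶ S') (ht : t ≫ q = Spec.map (CommRingCat.ofHom (algebraMap k D)))
  {C C' : Type u} [CommRing C] [Algebra k C] [Algebra D C] [IsScalarTower k D C]
  [CommRing C'] [Algebra k C'] [Algebra D C'] [IsScalarTower k D C']

/-- `Spec C` over `S'` -/
noncomputable abbrev TC (C : Type u) [CommRing C] [Algebra D C] : Over S' :=
  Over.mk (Spec.map (CommRingCat.ofHom (algebraMap D C)) ≫ t)

omit [Algebra k D] [Algebra k C] [IsScalarTower k D C] [Algebra k C'] [IsScalarTower k D C'] in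
lemma specMap_comp_algHom (f : C →ₐ[D] C') : Spec.map (CommRingCat.ofHom f.toRingHom) ≫
    Spec.map (CommRingCat.ofHom (algebraMap D C)) = Spec.map (CommRingCat.ofHom (algebraMap D C')) := by
  rw [← Spec.map_comp, ← CommRingCat.ofHom_comp]
  congr 2
  ext d
  exact f.commutes d

/-- functoriality -/
noncomputable def tf (f : C →ₐ[D] C') : TC t C' ⟶ TC t C :=
  Over.homMk (Spec.map (CommRingCat.ofHom f.toRingHom)) (by
    change _ ≫ Spec.map _ ≫ t = Spec.map _ ≫ t
    rw [← Category.assoc, specMap_comp_algHom])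

include ht in
lemma TC_q : (Spec.map (CommRingCat.ofHom (algebraMap D C)) ≫ t) ≫ q = Spec.map (CommRingCat.ofHom (algebraMap k C)) := by
  rw [Category.assoc, ht, ← Spec.map_comp, ← CommRingCat.ofHom_comp, ← IsScalarTower.algebraMap_eq]

/-- the point of the group over `S'` -/
noncomputable def gt (g : O →ₐ[k] C) : TC t C ⟶ Red.bc q G :=
  Over.homMk (pullback.lift (gp e g).left (Spec.map (CommRingCat.ofHom (algebraMap D C)) ≫ t) (by
    rw [TC_q q t ht]
    exact Over.w (gp e g))) (pullback.lift_snd _ _ _)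

/-- the algebra map of a point of the group over `S'` -/
noncomputable def tg (γ : TC t C ⟶ Red.bc q G) : O →ₐ[k] C :=
  og e (Over.homMk (γ.left ≫ pullback.fst G.hom q) (by
    change (γ.left ≫ pullback.fst G.hom q) ≫ G.hom = Spec.map (CommRingCat.ofHom (algebraMap k C))
    rw [Category.assoc, pullback.condition, ← TC_q (C := C) q t ht, ← Category.assoc]
    congr 1
    exact Over.w γ))

lemma gt_left_fst (g : O →ₐ[k] C) : (gt e q t ht g).left ≫ pullback.fst G.hom q = (gp e g).left :=
  pullback.lift_fst _ _ _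

lemma tg_gt (g : O →ₐ[k] C) : tg e q t ht (gt e q t ht g) = g := by
  apply gp_injective e
  rw [tg, gp_og]
  ext1
  exact gt_left_fst e q t ht g

lemma gt_injective {g h : O →ₐ[k] C} (hh : gt e q t ht g = gt e q t ht h) : g = h := by
  rw [← tg_gt e q t ht g, hh, tg_gt]

lemma gt_tg (γ : TC t C ⟶ Red.bc q G) : gt e q t ht (tg e q t ht γ) = γ := by
  ext1
  apply pullback.hom_ext
  · refine (gt_left_fst e q t ht _).trans ?_
    rw [tg, gp_og]
    rfl
  · refine (pullback.lift_snd _ _ _).trans ?_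
    exact (Over.w γ).symm

lemma tf_gt (f : C →ₐ[D] C') (g : O →ₐ[k] C) : tf t f ≫ gt e q t ht g = gt e q t ht ((f.restrictScalars k).comp g) := by
  ext1
  apply pullback.hom_ext
  · rw [gt_left_fst, ← comp_gp, Over.comp_left, Category.assoc, gt_left_fst]
    rfl
  · exact (Over.w (tf t f ≫ gt e q t ht g)).trans (Over.w (gt e q t ht ((f.restrictScalars k).comp g))).symm

variable [GrpObj G]

/-- comparison of bases -/
noncomputable def iq : (Over.map q).obj (TC t C) ⟶ SpecOver k C :=
  Over.homMk (𝟙 _) (by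
    change 𝟙 _ ≫ Spec.map (CommRingCat.ofHom (algebraMap k C)) = (Spec.map _ ≫ t) ≫ q
    rw [Category.id_comp, TC_q q t ht])

lemma bcEquiv_symm_gt (g : O →ₐ[k] C) :
    (Groth.Agent.Sga3B.DSPts.bcEquiv q (TC t C) G).symm (gt e q t ht g) = iq q t ht ≫ gp e g := by
  ext1
  rw [Groth.Agent.Sga3B.DSPts.bcEquiv_symm_left, gt_left_fst]
  exact (Category.id_comp _).symm

lemma gt_mul (g h : O →ₐ[k] C) : gt e q t ht ((pg e).mul g h) = gt e q t ht g * gt e q t ht h := by
  apply (Groth.Agent.Sga3B.DSPts.bcEquiv q (TC t C) G).symm.injective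
  rw [map_mul, bcEquiv_symm_gt, bcEquiv_symm_gt, bcEquiv_symm_gt, gp_mul, comp_mul]

lemma gt_one : gt e q t ht ((Algebra.ofId k C).comp (pg e).one) = 1 := by
  apply (Groth.Agent.Sga3B.DSPts.bcEquiv q (TC t C) G).symm.injective
  rw [map_one, bcEquiv_symm_gt]
  change iq q t ht ≫ gp e ((Algebra.ofId k C).comp (og e 1)) = 1
  rw [ofId_comp_one, gp_og, comp_one]

section X

variable {X : Over S'} {B : Type u} [CommRing B] [Algebra k B] [Algebra D B] [IsScalarTower k D B]
  {b : Spec (CommRingCat.of B) ⟶ X.left} (hb : IsPullback b (Spec.map (CommRingCat.ofHom (algebraMap D B))) X.hom t)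

omit [Algebra k D] [Algebra k C] [IsScalarTower k D C] [Algebra k B] [IsScalarTower k D B] in
include hb in
/-- the point of `X` -/
lemma xt_cond (x : B →ₐ[D] C) : (Spec.map (CommRingCat.ofHom x.toRingHom) ≫ b) ≫ X.hom =
    Spec.map (CommRingCat.ofHom (algebraMap D C)) ≫ t := by
  rw [Category.assoc, hb.w, ← Category.assoc, specMap_comp_algHom]

/-- the point of `X` -/
noncomputable def xt (x : B →ₐ[D] C) : TC t C ⟶ X :=
  Over.homMk (Spec.map (CommRingCat.ofHom x.toRingHom) ≫ b) (xt_cond t hb x)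

omit [Algebra k D] [Algebra k C] [IsScalarTower k D C] [Algebra k B] [IsScalarTower k D B] in
lemma tx_cond (ξ : TC t C ⟶ X) (r : D) :
    (Spec.preimage (hb.lift ξ.left (Spec.map (CommRingCat.ofHom (algebraMap D C))) (Over.w ξ))).hom (algebraMap D B r) =
      algebraMap D C r := by
  have h1 : CommRingCat.ofHom (algebraMap D B) ≫
      Spec.preimage (hb.lift ξ.left (Spec.map (CommRingCat.ofHom (algebraMap D C))) (Over.w ξ)) =
      CommRingCat.ofHom (algebraMap D C) := by
    apply Spec.map_injective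
    rw [Spec.map_comp, Spec.map_preimage, hb.lift_snd]
  exact congr($h1 r)

/-- the algebra map of a point of `X` -/
noncomputable def tx (ξ : TC t C ⟶ X) : B →ₐ[D] C where
  __ := (Spec.preimage (hb.lift ξ.left (Spec.map (CommRingCat.ofHom (algebraMap D C))) (Over.w ξ))).hom
  commutes' := tx_cond t hb ξ

lemma specMap_tx (ξ : TC t C ⟶ X) : Spec.map (CommRingCat.ofHom (tx t hb ξ).toRingHom) =
    hb.lift ξ.left (Spec.map (CommRingCat.ofHom (algebraMap D C))) (Over.w ξ) :=
  Spec.map_preimage _

lemma xt_tx (ξ : TC t C ⟶ X) : xt t hb (tx t hb ξ) = ξ := by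
  ext1
  change Spec.map (CommRingCat.ofHom (tx t hb ξ).toRingHom) ≫ b = ξ.left
  rw [specMap_tx, hb.lift_fst]

lemma xt_injective {x y : B →ₐ[D] C} (h : xt t hb x = xt t hb y) : x = y := by
  have h1 : Spec.map (CommRingCat.ofHom x.toRingHom) = Spec.map (CommRingCat.ofHom y.toRingHom) := by
    apply hb.hom_ext
    · exact congrArg CommaMorphism.left h
    · rw [specMap_comp_algHom, specMap_comp_algHom]
  have h2 := Spec.map_injective h1
  ext z
  exact congr($h2 z)

lemma tx_xt (x : B →ₐ[D] C) : tx t hb (xt t hb x) = x :=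
  xt_injective t hb (xt_tx t hb _)

lemma tf_xt (f : C →ₐ[D] C') (x : B →ₐ[D] C) : tf t f ≫ xt t hb x = xt t hb (f.comp x) := by
  ext1
  change Spec.map (CommRingCat.ofHom f.toRingHom) ≫ Spec.map (CommRingCat.ofHom x.toRingHom) ≫ b = 
    Spec.map (CommRingCat.ofHom (f.comp x).toRingHom) ≫ b
  rw [← Category.assoc, ← Spec.map_comp]
  rfl

variable {a : AlgGrp.Action (Red.bc q G) X} (ha : NonAbH1.IsPseudoTorsorSch a)

open K551.Tors

/-- The algebraic torsor. -/
noncomputable def atX : AT k O D B where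
  act g x := tx t hb (sm a (gt e q t ht g) (xt t hb x))
  dif x y := tg e q t ht (dif ha (xt t hb x) (xt t hb y))
  act_comp f g x := by
    apply xt_injective t hb
    rw [← tf_xt, xt_tx, xt_tx, comp_sm, tf_gt, tf_xt]
  dif_comp f x y := by
    apply gt_injective e q t ht
    rw [← tf_gt, gt_tg, gt_tg, comp_dif, tf_xt, tf_xt]
  act_dif x y := by
    apply xt_injective t hb
    rw [xt_tx, gt_tg, sm_dif]
  dif_act g y := by
    rw [xt_tx, dif_eq ha rfl, tg_gt]

lemma xt_act (g : O →ₐ[k] C) (x : B →ₐ[D] C) : xt t hb ((atX e q t ht hb ha).act g x) =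
    sm a (gt e q t ht g) (xt t hb x) := xt_tx t hb _

theorem compat_atX : Compat (pg e).toGS (atX e q t ht hb ha) where
  mul_act g h x := by
    apply xt_injective t hb
    rw [PG.toGS_act, xt_act, gt_mul, mul_sm, xt_act, xt_act]
  one_act x := by
    apply xt_injective t hb
    rw [xt_act]
    change sm a (gt e q t ht ((Algebra.ofId k _).comp (pg e).one)) _ = _
    rw [gt_one, one_sm]

end X

end Tor

end K551.OrbAT
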