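import Groth.Agent.NonAbH1.K551.OrbUniv2
import Groth.Agent.NonAbH1.K551.OrbFilt

/-!
# Invariants of the unipotent part
-/

set_option autoImplicit false
set_option linter.unusedSectionVars false
universe u v

open TensorProduct Matrix

namespace K551.OrbUniv

open OrbBase OrbFilt

variable {K : Type u} [Field K] {Λ : Type u} [CommRing Λ] [Algebra K Λ] {π : Λ →ₐ[K] K}
  {ι : Type} [Fintype ι] [DecidableEq ι] {J : Type} [Fintype J] (A : Adapt π J)
  (hπ : IsNilpotent (RingHom.ker π))

section

variable {R : Type u} [CommRing R] [Algebra K R]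

/-- the nilpotent part -/
noncomputable def nm (e : J → Λ) (x : J × ι × ι → R) : Matrix ι ι (R ⊗[K] Λ) :=
  fun a b => ∑ j, x (j, a, b) ⊗ₜ[K] e j

lemma um_eq (e : J → Λ) (x : J × ι × ι → R) : um (K := K) e x = 1 + nm e x := by
  ext a b
  rfl

lemma um_mul_um (e : J → Λ) (x y : J × ι × ι → R) :
    um (K := K) e x * um e y = um e y + nm e x + nm e x * nm e y := by
  rw [um_eq, um_eq, add_mul, one_mul, mul_add, mul_one]
  abel

lemma nm_mul_nm (e : J → Λ) (x y : J × ι × ι → R) (a b : ι) :
    (nm (K := K) e x * nm e y : Matrix ι ι (R ⊗[K] Λ)) a b = ∑ d, ∑ i, ∑ j, (x (i, a, d) * y (j, d, b)) ⊗ₜ[K] (e i * e j) := by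
  rw [Matrix.mul_apply]
  refine Finset.sum_congr rfl fun d _ => ?_
  rw [nm, nm, Finset.sum_mul]
  refine Finset.sum_congr rfl fun i _ => ?_
  rw [Finset.mul_sum]
  refine Finset.sum_congr rfl fun j _ => ?_
  rw [Algebra.TensorProduct.tmul_mul_tmul]

include A in
lemma cf_nm (x : J × ι × ι → R) (l : J) (a b : ι) :
    cf (A.b.coord (some l)) R (nm (fun j => A.b (some j)) x a b) = x (l, a, b) := by
  rw [nm, map_sum, Finset.sum_eq_single l]
  · rw [cf_tmul, Module.Basis.coord_apply, Module.Basis.repr_self, Finsupp.single_eq_same, one_smul]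
  · intro i _ hi
    rw [cf_tmul, Module.Basis.coord_apply, Module.Basis.repr_self,
      Finsupp.single_eq_of_ne (by simpa using hi.symm), zero_smul]
  · intro h
    exact absurd (Finset.mem_univ _) h

lemma coord_mul_eq_zero (i j l : J) (h : ¬ A.w j < A.w l) :
    A.b.coord (some l) (A.b (some i) * A.b (some j)) = 0 := by
  have h1 := A.mul_mem i j
  have h2 : ∀ z ∈ Submodule.span K ((fun l => A.b (some l)) '' {l | A.w j < A.w l}), A.b.coord (some l) z = 0 := by
    intro z hz
    induction hz using Submodule.span_induction with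
    | mem x hx =>
      obtain ⟨l', hl', rfl⟩ := hx
      have hne : l' ≠ l := by
        rintro rfl
        exact h hl'
      change A.b.coord (some l) (A.b (some l')) = 0
      rw [Module.Basis.coord_apply, Module.Basis.repr_self, Finsupp.single_eq_of_ne (by simpa using hne.symm)]
    | zero => exact map_zero _
    | add x y _ _ hx hy => rw [map_add, hx, hy, add_zero]
    | smul c x _ hx => rw [map_smul, hx, smul_zero]
  exact h2 _ h1

end

variable (ι) in
/-- translation by `1 + ∑ c_j e_j`. -/
noncomputable def trc (c : J × ι × ι → K) : P K ι J →ₐ[K] P K ι J :=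
  pnt A (gum A hπ (fun i => algebraMap K (P K ι J) (c i)) * uu ι A hπ)

lemma trc_cc (c : J × ι × ι → K) (a : Q K ι) : trc ι A hπ c (cc K ι J a) = cc K ι J a := by
  have h1 : (trc ι A hπ c).comp (cc K ι J) = cc K ι J := by
    apply q_ext'
    have h2 := congrArg (ga π _) (gm_pnt A hπ (gum A hπ (fun i => algebraMap K (P K ι J) (c i)) * uu ι A hπ))
    rw [ga_gm, map_mul, ga_gum, one_mul, ga_uu] at h2
    exact h2
  exact DFunLike.congr_fun h1 a

lemma gm_trc (c : J × ι × ι → K) : gm (trc ι A hπ c) (uu ι A hπ) =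
    gum A hπ (fun i => algebraMap K (P K ι J) (c i)) * uu ι A hπ :=
  gm_pnt A hπ _

lemma comp_cc_trc (c : J × ι × ι → K) : (trc ι A hπ c).comp (cc K ι J) = cc K ι J :=
  AlgHom.ext (trc_cc A hπ c)

lemma gum_trc (c : J × ι × ι → K) : gum A hπ (fun i => trc ι A hπ c (MvPolynomial.X i)) =
    gum A hπ (fun i => algebraMap K (P K ι J) (c i)) * gum A hπ (fun i => MvPolynomial.X i) := by
  have h1 := gm_trc A hπ c
  rw [gm_uu, comp_cc_trc, uu, ← mul_assoc] at h1
  exact mul_right_cancel h1

lemma um_trc (c : J × ι × ι → K) : um (K := K) (fun j => A.b (some j)) (fun i => trc ι A hπ c (MvPolynomial.X i)) =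
    um (fun j => A.b (some j)) (fun i => algebraMap K (P K ι J) (c i)) *
      um (fun j => A.b (some j)) (fun i => MvPolynomial.X i) := by
  have h1 := congrArg Units.val (gum_trc A hπ c)
  rw [Units.val_mul, coe_gum, coe_gum, coe_gum] at h1
  exact h1

lemma trc_X (c : J × ι × ι → K) (i : J × ι × ι) :
    trc ι A hπ c (MvPolynomial.X i) - MvPolynomial.X i ∈ V (Q K ι) (fun i : J × ι × ι => A.w i.1) (A.w i.1) := by
  obtain ⟨l, a, b⟩ := i
  have h1 := cf_um A (fun i => trc ι A hπ c (MvPolynomial.X i)) l a b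
  rw [um_trc, um_mul_um, Matrix.add_apply, Matrix.add_apply, map_add, map_add, cf_um, cf_nm, nm_mul_nm] at h1
  have hX : ∀ i : J × ι × ι, (MvPolynomial.X i : P K ι J) ∈ V (Q K ι) (fun i : J × ι × ι => A.w i.1) (A.w i.1 + 1) := by
    intro i
    have := monomial_mem_V (w := fun i : J × ι × ι => A.w i.1) (Finsupp.single i 1) (1 : Q K ι)
    rw [Finsupp.weight_single, one_smul] at this
    exact this
  have hC : ∀ q : Q K ι, (MvPolynomial.C q : P K ι J) ∈ V (Q K ι) (fun i : J × ι × ι => A.w i.1) 1 := by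
    intro q
    have := monomial_mem_V (w := fun i : J × ι × ι => A.w i.1) 0 q
    rw [map_zero, zero_add] at this
    exact this
  have hK : ∀ c : K, algebraMap K (P K ι J) c = MvPolynomial.C (algebraMap K (Q K ι) c) := fun c => rfl
  rw [← h1, add_assoc, add_sub_cancel_left]
  refine Submodule.add_mem _ ?_ ?_
  · rw [hK]
    exact V_mono (A.w_pos l) (hC _)
  · rw [map_sum]
    refine Submodule.sum_mem _ fun d _ => ?_
    rw [map_sum]
    refine Submodule.sum_mem _ fun i _ => ?_
    rw [map_sum]
    refine Submodule.sum_mem _ fun j _ => ?_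
    rw [cf_tmul]
    by_cases h : A.w j < A.w l
    · have h5 : ∀ (r c' : K) (x : P K ι J), r • (algebraMap K (P K ι J) c' * x) =
          (algebraMap K (Q K ι) (r * c')) • x := by
        intro r c' x
        rw [hK, map_mul, mul_smul, ← MvPolynomial.smul_eq_C_mul, algebraMap_smul, algebraMap_smul]
      rw [h5]
      refine Submodule.smul_mem _ _ (V_mono ?_ (hX _))
      exact h
    · rw [coord_mul_eq_zero A i j l h, zero_smul]
      exact Submodule.zero_mem _

/-- Every nonzero subgroup of the coordinate ring stable under translations by `1 + ∑ c_j e_j`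
contains a nonzero function which is invariant under them. -/
theorem exists_trc_invariant (W : AddSubgroup (P K ι J)) (hW : ∃ f ∈ W, f ≠ 0)
    (hφ : ∀ c, ∀ f ∈ W, trc ι A hπ c f ∈ W) : ∃ f ∈ W, f ≠ 0 ∧ ∀ c, trc ι A hπ c f = f :=
  exists_invariant (w := fun i : J × ι × ι => A.w i.1) (fun c => (trc ι A hπ c).toRingHom) (fun c a => trc_cc A hπ c a)
    (fun c i => trc_X A hπ c i) W hW hφ

end K551.OrbUniv
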