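import Groth.Agent.NonAbH1.K551.OrbInv

/-!
# Invariants of the unipotent part come from `GL`
-/

set_option autoImplicit false
set_option linter.unusedSectionVars false
universe u v

open TensorProduct Matrix

namespace K551.OrbUniv

open OrbBase OrbFilt

variable {K : Type u} [Field K] {Λ : Type u} [CommRing Λ] [Algebra K Λ] {π : Λ →ₐ[K] K}
  {ι : Type} [Fintype ι] [DecidableEq ι] {J : Type} [Fintype J] (A : Adapt π J)
  (hπ : IsNilpotent (RingHom.ker π))

section Gen

variable {σ : Type} {D : Type u} [CommRing D] [Algebra K D]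

/-- constants -/
noncomputable def cmD (K : Type u) [Field K] (σ : Type) (D : Type u) [CommRing D] [Algebra K D] :
    D →ₐ[K] MvPolynomial σ D := IsScalarTower.toAlgHom K _ _

/-- evaluation -/
noncomputable def evD (K : Type u) [Field K] [Algebra K D] (c : σ → D) : MvPolynomial σ D →ₐ[K] D :=
  (MvPolynomial.aeval (R := D) c).restrictScalars K

lemma evD_C (c : σ → D) (x : D) : evD K c (MvPolynomial.C x) = x := by
  change MvPolynomial.aeval (R := D) c (MvPolynomial.C x) = x
  rw [MvPolynomial.aeval_C]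
  rfl

lemma evD_cmD (c : σ → D) : (evD K c).comp (cmD K σ D) = AlgHom.id K _ :=
  AlgHom.ext fun x => evD_C (K := K) c x

lemma evD_X (c : σ → D) (i) : evD K c (MvPolynomial.X i) = c i := by
  change MvPolynomial.aeval (R := D) c (MvPolynomial.X i) = _
  rw [MvPolynomial.aeval_X]

lemma evD_apply (c : σ → D) (f : MvPolynomial σ D) : evD K c f = MvPolynomial.eval c f := by
  change MvPolynomial.aeval (R := D) c f = _
  rw [MvPolynomial.aeval_eq_eval]

end Gen

variable (K ι J) in
/-- generic coefficients -/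
abbrev RR : Type u := MvPolynomial (J × ι × ι) (P K ι J)

variable (K ι J) in
/-- constants -/
noncomputable def cm : P K ι J →ₐ[K] RR K ι J := cmD K _ _

/-- evaluation -/
noncomputable def evc (c : J × ι × ι → P K ι J) : RR K ι J →ₐ[K] P K ι J := evD K c

lemma evc_cm (c : J × ι × ι → P K ι J) : (evc c).comp (cm K ι J) = AlgHom.id K _ := evD_cmD c

lemma evc_X (c : J × ι × ι → P K ι J) (i) : evc c (MvPolynomial.X i) = c i := evD_X c i

lemma evc_C (c : J × ι × ι → P K ι J) (x) : evc c (MvPolynomial.C x) = x := evD_C c x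

lemma evc_apply (c : J × ι × ι → P K ι J) (f) : evc c f = MvPolynomial.eval c f := evD_apply c f

variable (ι) in
/-- the generic translate -/
noncomputable def hgen : GL ι (RR K ι J ⊗[K] Λ) :=
  gum A hπ (fun i => MvPolynomial.X i) * gm (R' := RR K ι J) (cm K ι J) (uu ι A hπ)

lemma gm_evc_hgen (c : J × ι × ι → P K ι J) : gm (R := RR K ι J) (R' := P K ι J) (evc c) (hgen ι A hπ) = gum A hπ c * uu ι A hπ := by
  rw [hgen, map_mul, gm_gum, ← gm_comp, evc_cm, gm_id]
  congr 2
  ext i
  rw [evc_X]

lemma evc_pnt (c : J × ι × ι → P K ι J) (f : P K ι J) :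
    evc c (pnt A (hgen ι A hπ) f) = pnt A (gum A hπ c * uu ι A hπ) f := by
  have h := comp_pnt (R := RR K ι J) (R' := P K ι J) A hπ (evc c) (hgen ι A hπ)
  rw [gm_evc_hgen] at h
  exact DFunLike.congr_fun h f

lemma infinite_range [Infinite K] (D : Type u) [CommRing D] [Nontrivial D] [Algebra K D] :
    (Set.range (algebraMap K D)).Infinite :=
  Set.infinite_range_of_injective (FaithfulSMul.algebraMap_injective K D)

lemma pnt_hgen_eq [Infinite K] (f : P K ι J) (hf : ∀ c, trc ι A hπ c f = f) :
    pnt A (hgen ι A hπ) f = MvPolynomial.C f := by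
  have : IsDomain (Q K ι) := by
    apply IsLocalization.isDomain_localization
    apply powers_le_nonZeroDivisors_of_noZeroDivisors
    exact det_mvPolynomialX_ne_zero ι K
  refine MvPolynomial.funext_set (fun _ => Set.range (algebraMap K (P K ι J))) (fun _ => infinite_range _) ?_
  intro x hx
  have hx' : ∀ i, ∃ c : K, algebraMap K (P K ι J) c = x i := fun i => hx i (Set.mem_univ _)
  choose c hc using hx'
  have h1 := evc_pnt A hπ (fun i => algebraMap K (P K ι J) (c i)) f
  have h2 : pnt A (gum A hπ (fun i => algebraMap K (P K ι J) (c i)) * uu ι A hπ) f = f := hf c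
  rw [h2] at h1
  have h3 : (fun i => algebraMap K (P K ι J) (c i)) = x := funext hc
  rw [h3] at h1
  rw [MvPolynomial.eval_C, ← evc_apply]
  exact h1

lemma gum_zero {R : Type u} [CommRing R] [Algebra K R] : gum (R := R) (ι := ι) A hπ 0 = 1 := by
  apply Units.ext
  rw [coe_gum]
  ext a b
  simp [um]

/-- A function invariant under all translations by `1 + ∑ c_j e_j` comes from `GL`. -/
theorem exists_cc_eq [Infinite K] (f : P K ι J) (hf : ∀ c, trc ι A hπ c f = f) :
    ∃ q : Q K ι, f = cc K ι J q := by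
  have h0 := pnt_hgen_eq A hπ f hf
  let g : GL ι (P K ι J ⊗[K] Λ) := (gum A hπ (fun i => MvPolynomial.X i))⁻¹
  have hg : ga π _ g = 1 := by rw [map_inv, ga_gum, inv_one]
  have h1 := eq_gum A hπ g hg
  have h2 := evc_pnt A hπ (fun i => cf (A.b.coord (some i.1)) _ (g i.2.1 i.2.2)) f
  rw [h0, ← h1] at h2
  have h3 : g * uu ι A hπ = gi K Λ (P K ι J) (GeneralLinearGroup.map (cc K ι J).toRingHom (g0 K ι)) := by
    rw [uu, inv_mul_cancel_left]
  rw [h3] at h2
  let z : P K ι J →ₐ[K] P K ι J := ppt (cc K ι J) 0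
  have hz : z.comp (cc K ι J) = cc K ι J := AlgHom.ext fun a => ppt_C _ _ _
  have hz2 : gm z (uu ι A hπ) = gi K Λ (P K ι J) (GeneralLinearGroup.map (cc K ι J).toRingHom (g0 K ι)) := by
    rw [gm_uu, hz]
    have : (fun i => z (MvPolynomial.X i)) = (0 : J × ι × ι → P K ι J) := funext fun i => ppt_X _ _ _
    rw [this, gum_zero, one_mul]
  rw [← pnt_eq A hπ hz2] at h2
  have h4 : evc (fun i => cf (A.b.coord (some i.1)) _ (g i.2.1 i.2.2)) (MvPolynomial.C f) = f :=
    evc_C _ _
  rw [h4] at h2
  refine ⟨MvPolynomial.constantCoeff f, ?_⟩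
  refine h2.trans ?_
  change MvPolynomial.eval₂Hom (cc K ι J).toRingHom 0 f = _
  rw [MvPolynomial.eval₂Hom_zero]
  rfl

end K551.OrbUniv
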