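import Groth.Agent.NonAbH1.K551.OrbBase2
import Mathlib.RingTheory.Localization.Free
import Mathlib.RingTheory.Localization.BaseChange
import Mathlib.RingTheory.LocalRing.Module
import Mathlib.RingTheory.Localization.AtPrime.Basic
import Mathlib.Algebra.Module.LocalizedModule.Basic

/-!
# Freeness after localization
-/

set_option autoImplicit false
set_option linter.unusedSectionVars false
universe u v

open TensorProduct

namespace K551.OrbBase

section Transfer

variable {A : Type u} [CommRing A] {M : Type u} [AddCommGroup M] [Module A M] (d : A) (D : Type u) [CommRing D]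
  [Algebra A D] [IsLocalization.Away d D]

lemma free_transfer (h : Module.Free (Localization (Submonoid.powers d)) (LocalizedModule (Submonoid.powers d) M)) :
    Module.Free D (D ⊗[A] M) := by
  let e : Localization (Submonoid.powers d) ≃ₐ[A] D := IsLocalization.algEquiv (Submonoid.powers d) _ _
  let _ : Algebra (Localization (Submonoid.powers d)) D := e.toRingHom.toAlgebra
  have : IsScalarTower A (Localization (Submonoid.powers d)) D :=
    IsScalarTower.of_algebraMap_eq fun x => (e.commutes x).symm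
  have h1 : Module.Free (Localization (Submonoid.powers d)) (Localization (Submonoid.powers d) ⊗[A] M) :=
    Module.Free.of_equiv (LocalizedModule.equivTensorProduct (Submonoid.powers d) M)
  have h2 : Module.Free D (D ⊗[Localization (Submonoid.powers d)] (Localization (Submonoid.powers d) ⊗[A] M)) :=
    inferInstance
  exact Module.Free.of_equiv (AlgebraTensorModule.cancelBaseChange A (Localization (Submonoid.powers d)) D D M)

end Transfer

section Loc

variable {K : Type u} [Field K] {Λ : Type u} [CommRing Λ] [Algebra K Λ] (π : Λ →ₐ[K] K)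
  (hπ : IsNilpotent (RingHom.ker π)) {R : Type u} [CommRing R] [Algebra K R]

include hπ in
lemma isLocalRing_tensor [IsLocalRing R] : IsLocalRing (R ⊗[K] Λ) := by
  have : IsLocalHom (aug π R).toRingHom := ⟨fun x hx => isUnit_of_aug π hπ hx⟩
  exact RingHom.domain_isLocalRing (aug π R).toRingHom

omit hπ in
lemma free_aux {A : Type u} [CommRing A] (D : Type u) [CommRing D] [Algebra A D] [IsLocalRing D] (M : Type u)
    [AddCommGroup M] [Module A M] [Module.Finite A M] [Module.Flat A M] : Module.Free D (D ⊗[A] M) := by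
  have h1 : Module.Finite D (D ⊗[A] M) := inferInstance
  have h2 : Module.Flat D (D ⊗[A] M) := inferInstance
  exact Module.free_of_flat_of_isLocalRing

omit hπ in
lemma free_gen {A : Type u} [CommRing A] (S : Submonoid A) (D : Type u) [CommRing D] [Algebra A D] [IsLocalization S D]
    [IsLocalRing D] (M : Type u) [AddCommGroup M] [Module A M] [Module.FinitePresentation A M] [Module.Flat A M] :
    ∃ d ∈ S, Module.Free (Localization (Submonoid.powers d)) (LocalizedModule (Submonoid.powers d) M) := by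
  have h1 : Module.Free D (D ⊗[A] M) := free_aux D M
  have h2 : IsLocalizedModule S (TensorProduct.mk A D M 1) := inferInstance
  obtain ⟨d, hd, hfree, -⟩ := Module.FinitePresentation.exists_free_localizedModule_powers
    S (TensorProduct.mk A D M 1) D
  exact ⟨d, hd, hfree⟩

include hπ in
/-- A finitely presented flat module over `R ⊗ Λ` becomes free over a neighbourhood of a given prime. -/
theorem exists_free_away (M : Type u) [AddCommGroup M] [Module (R ⊗[K] Λ) M] [Module.FinitePresentation (R ⊗[K] Λ) M]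
    [Module.Flat (R ⊗[K] Λ) M] (p : Ideal R) [p.IsPrime] : ∃ r : R, r ∉ p ∧
      ∀ (D : Type u) [CommRing D] [Algebra (R ⊗[K] Λ) D] [IsLocalization.Away (r ⊗ₜ[K] (1 : Λ)) D],
        Module.Free D (D ⊗[R ⊗[K] Λ] M) := by
  let Rp := Localization.AtPrime p
  have : IsLocalRing (Rp ⊗[K] Λ) := isLocalRing_tensor π hπ
  let φ : R →ₐ[K] Rp := IsScalarTower.toAlgHom K R Rp
  let _ : Algebra (R ⊗[K] Λ) (Rp ⊗[K] Λ) := (tm φ).toRingHom.toAlgebra
  have : IsScalarTower R (R ⊗[K] Λ) (Rp ⊗[K] Λ) := IsScalarTower.of_algebraMap_eq fun x => by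
    change (algebraMap R Rp x) ⊗ₜ[K] (1 : Λ) = tm φ (x ⊗ₜ[K] (1 : Λ))
    rw [tm_tmul]
    rfl
  have hloc : IsLocalization (Algebra.algebraMapSubmonoid (R ⊗[K] Λ) p.primeCompl) (Rp ⊗[K] Λ) := by
    apply IsLocalization.tensorProduct_tensorProduct K Λ p.primeCompl Rp
    ext x
    change tm φ ((1 : R) ⊗ₜ[K] x) = (1 : Rp) ⊗ₜ[K] x
    rw [tm_tmul, map_one]
  obtain ⟨d, hd, hfree⟩ := free_gen (Algebra.algebraMapSubmonoid (R ⊗[K] Λ) p.primeCompl) (Rp ⊗[K] Λ) M
  obtain ⟨r, hr, rfl⟩ := hd
  refine ⟨r, hr, ?_⟩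
  intro D _ _ _
  exact free_transfer (r ⊗ₜ[K] (1 : Λ)) D hfree

omit hπ in
lemma isLocalization_away_tensor (r : R) (R₁ : Type u) [CommRing R₁] [Algebra K R₁] [Algebra R R₁] [IsScalarTower K R R₁]
    [IsLocalization.Away r R₁] [Algebra (R ⊗[K] Λ) (R₁ ⊗[K] Λ)]
    (h : algebraMap (R ⊗[K] Λ) (R₁ ⊗[K] Λ) = (tm (Λ := Λ) (IsScalarTower.toAlgHom K R R₁)).toRingHom) :
    IsLocalization.Away (r ⊗ₜ[K] (1 : Λ)) (R₁ ⊗[K] Λ) := by
  have : IsScalarTower R (R ⊗[K] Λ) (R₁ ⊗[K] Λ) := IsScalarTower.of_algebraMap_eq fun x => by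
    rw [h]
    change (algebraMap R R₁ x) ⊗ₜ[K] (1 : Λ) = tm (IsScalarTower.toAlgHom K R R₁) (x ⊗ₜ[K] (1 : Λ))
    rw [tm_tmul]
    rfl
  have hloc : IsLocalization (Algebra.algebraMapSubmonoid (R ⊗[K] Λ) (Submonoid.powers r)) (R₁ ⊗[K] Λ) := by
    apply IsLocalization.tensorProduct_tensorProduct K Λ (Submonoid.powers r) R₁
    rw [h]
    ext x
    change tm (IsScalarTower.toAlgHom K R R₁) ((1 : R) ⊗ₜ[K] x) = (1 : R₁) ⊗ₜ[K] x
    rw [tm_tmul, map_one]
  rw [Algebra.algebraMapSubmonoid_powers] at hloc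
  exact hloc

end Loc

end K551.OrbBase
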