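import Mathlib.FieldTheory.PurelyInseparable.Basic
import Mathlib.FieldTheory.Perfect
import Mathlib.RingTheory.TensorProduct.Finite
import Mathlib.RingTheory.Noetherian.Nilpotent

/-!
# The multiplication map of a finite purely inseparable extension
-/

set_option autoImplicit false
universe u

open scoped TensorProduct

namespace K551.OrbNil

variable (k k' : Type u) [Field k] [Field k'] [Algebra k k']

/-- multiplication -/
noncomputable def mu : k' ⊗[k] k' →ₐ[k'] k' :=
  Algebra.TensorProduct.lift (AlgHom.id k' k') (AlgHom.id k k') (fun _ _ => Commute.all _ _)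

lemma mu_tmul (a b : k') : mu k k' (a ⊗ₜ[k] b) = a * b := Algebra.TensorProduct.lift_tmul _ _ _ _ _

variable [IsPurelyInseparable k k']

lemma isNilpotent_sub (x : k') : IsNilpotent ((1 : k') ⊗ₜ[k] x - x ⊗ₜ[k] (1 : k')) := by
  let q := ringExpChar k
  have : ExpChar k q := ringExpChar.expChar k
  have : Nontrivial (k' ⊗[k] k') := (mu k k').toRingHom.domain_nontrivial
  have : ExpChar (k' ⊗[k] k') q := expChar_of_injective_algebraMap (algebraMap k (k' ⊗[k] k')).injective q
  obtain ⟨n, y, hy⟩ := IsPurelyInseparable.pow_mem k q x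
  refine ⟨q ^ n, ?_⟩
  rw [sub_pow_expChar_pow, Algebra.TensorProduct.tmul_pow, Algebra.TensorProduct.tmul_pow, one_pow, ← hy, sub_eq_zero,
    Algebra.algebraMap_eq_smul_one, TensorProduct.tmul_smul, TensorProduct.smul_tmul']

lemma sub_mu_mem (z : k' ⊗[k] k') : z - (mu k k' z) ⊗ₜ[k] (1 : k') ∈ nilradical (k' ⊗[k] k') := by
  induction z with
  | zero => simp
  | add x y hx hy =>
    have := Ideal.add_mem _ hx hy
    rw [map_add, TensorProduct.add_tmul]
    convert this using 1
    ring
  | tmul a b =>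
    have h1 : a ⊗ₜ[k] b - (mu k k' (a ⊗ₜ[k] b)) ⊗ₜ[k] (1 : k') =
        (a ⊗ₜ[k] (1 : k')) * ((1 : k') ⊗ₜ[k] b - b ⊗ₜ[k] (1 : k')) := by
      rw [mul_sub, Algebra.TensorProduct.tmul_mul_tmul, Algebra.TensorProduct.tmul_mul_tmul, mul_one, one_mul, one_mul,
        mu_tmul]
    rw [h1]
    exact Ideal.mul_mem_left _ _ (isNilpotent_sub k k' b)

lemma isNilpotent_ker_mu [Module.Finite k k'] : IsNilpotent (RingHom.ker (mu k k')) := by
  have h1 : IsNoetherianRing (k' ⊗[k] k') := IsNoetherianRing.of_finite k' _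
  obtain ⟨n, hn⟩ := IsNoetherianRing.isNilpotent_nilradical (k' ⊗[k] k')
  refine ⟨n, ?_⟩
  rw [Ideal.zero_eq_bot, eq_bot_iff]
  rw [Ideal.zero_eq_bot] at hn
  rw [← hn]
  refine Ideal.pow_right_mono ?_ n
  intro z hz
  have h2 := sub_mu_mem k k' z
  rw [RingHom.mem_ker] at hz
  rwa [hz, TensorProduct.zero_tmul, sub_zero] at h2

lemma bijective_of_finite [Module.Finite k k'] [Finite k'] : Function.Bijective (algebraMap k k') := by
  have : Finite k := Finite.of_injective (algebraMap k k') (algebraMap k k').injective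
  exact IsPurelyInseparable.bijective_algebraMap_of_isSeparable k k'

end K551.OrbNil
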