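import Groth.Agent.NonAbH1.K551.OrbAT2

/-!
# Group functors
-/

set_option autoImplicit false
set_option linter.unusedSectionVars false
universe u v

open TensorProduct

namespace K551.OrbAT

/-- a group functor represented by `O`. -/
structure PG (k : Type u) (O : Type u) [Field k] [CommRing O] [Algebra k O] where
  /-- multiplication -/
  mul : ∀ {C : Type u} [CommRing C] [Algebra k C], (O →ₐ[k] C) → (O →ₐ[k] C) → (O →ₐ[k] C)
  /-- inverse -/
  inv : ∀ {C : Type u} [CommRing C] [Algebra k C], (O →ₐ[k] C) → (O →ₐ[k] C)
  /-- unit -/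
  one : O →ₐ[k] k
  comp_mul : ∀ {C C' : Type u} [CommRing C] [Algebra k C] [CommRing C'] [Algebra k C'] (f : C →ₐ[k] C')
    (g h : O →ₐ[k] C), f.comp (mul g h) = mul (f.comp g) (f.comp h)
  comp_inv : ∀ {C C' : Type u} [CommRing C] [Algebra k C] [CommRing C'] [Algebra k C'] (f : C →ₐ[k] C')
    (g : O →ₐ[k] C), f.comp (inv g) = inv (f.comp g)
  mul_assoc : ∀ {C : Type u} [CommRing C] [Algebra k C] (g h l : O →ₐ[k] C), mul (mul g h) l = mul g (mul h l)
  one_mul : ∀ {C : Type u} [CommRing C] [Algebra k C] (g : O →ₐ[k] C), mul ((Algebra.ofId k C).comp one) g = g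
  mul_one : ∀ {C : Type u} [CommRing C] [Algebra k C] (g : O →ₐ[k] C), mul g ((Algebra.ofId k C).comp one) = g
  mul_inv : ∀ {C : Type u} [CommRing C] [Algebra k C] (g : O →ₐ[k] C), mul g (inv g) = (Algebra.ofId k C).comp one
  inv_mul : ∀ {C : Type u} [CommRing C] [Algebra k C] (g : O →ₐ[k] C), mul (inv g) g = (Algebra.ofId k C).comp one

section Up

variable {k O D : Type u} [Field k] [CommRing O] [Algebra k O] [CommRing D] [Algebra k D] [Algebra D O]
  [IsScalarTower k D O] (hs : Function.Surjective (algebraMap k D))
  {C : Type u} [CommRing C] [Algebra k C] [Algebra D C] [IsScalarTower k D C]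

/-- change of base along a surjection -/
def up (g : O →ₐ[k] C) : O →ₐ[D] C where
  __ := g.toRingHom
  commutes' d := by
    obtain ⟨r, rfl⟩ := hs d
    rw [← IsScalarTower.algebraMap_apply k D O, ← IsScalarTower.algebraMap_apply k D C]
    exact g.commutes r

lemma up_apply (g : O →ₐ[k] C) (x : O) : up hs g x = g x := rfl

lemma restrict_up (g : O →ₐ[k] C) : (up hs g).restrictScalars k = g := rfl

lemma up_restrict (g : O →ₐ[D] C) : up hs (g.restrictScalars k) = g := rfl

/-- the trivial torsor -/
noncomputable def PG.AT (G : PG k O) : AT k O D O where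
  act g x := up hs (G.mul g (x.restrictScalars k))
  dif x y := G.mul (x.restrictScalars k) (G.inv (y.restrictScalars k))
  act_comp f g x := by
    have h := G.comp_mul (f.restrictScalars k) g (x.restrictScalars k)
    ext t
    exact DFunLike.congr_fun h t
  dif_comp f x y := by
    rw [G.comp_mul, G.comp_inv]
    rfl
  act_dif x y := by
    rw [G.mul_assoc, G.inv_mul, G.mul_one]
    rfl
  dif_act g y := by
    rw [restrict_up, G.mul_assoc, G.mul_inv, G.mul_one]

end Up

/-- the translation structure of a group functor -/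
noncomputable def PG.toGS {k O : Type u} [Field k] [CommRing O] [Algebra k O] (G : PG k O) : GS k O where
  T := G.AT (D := k) Function.surjective_id
  one := G.one
  mul_one g := by
    ext t
    exact DFunLike.congr_fun (G.mul_one g) t
  one_mul g := by
    ext t
    exact DFunLike.congr_fun (G.one_mul g) t

lemma PG.toGS_act {k O : Type u} [Field k] [CommRing O] [Algebra k O] (G : PG k O) {C : Type u} [CommRing C] [Algebra k C]
    (g h : O →ₐ[k] C) : G.toGS.T.act g h = G.mul g h := rfl

end K551.OrbAT
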