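import Groth.Agent.NonAbH1.K551.OrbCover
import Groth.Agent.NonAbH1.K551.OrbChart

/-!
# Sections over the members of a cover, and the chart theorem
-/

set_option autoImplicit false
set_option linter.unusedSectionVars false
universe u

open CategoryTheory CategoryTheory.Limits AlgebraicGeometry
open scoped TensorProduct

namespace K551.OrbSch

open K551.OrbBase K551.OrbAT Groth.Agent.Books.AffBridge

variable {k k' K : Type u} [Field k] [Field k'] [Field K] [Algebra k k'] [Algebra k K]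
  {S : Scheme.{u}} {s : S ⟶ Spec (CommRingCat.of k)}
  {R : Type u} [CommRing R] [Algebra K R] {f : Spec (CommRingCat.of R) ⟶ S}
  (hf : IsChart (k := k) (K := K) s f)
  {X : Over (pullback s (Spec.map (CommRingCat.ofHom (algebraMap k k'))))}
  {B : Type u} [CommRing B] [Algebra (R ⊗[K] (K ⊗[k] k')) B] {b : Spec (CommRingCat.of B) ⟶ X.left}
  (hb : IsPullback b (Spec.map (CommRingCat.ofHom (algebraMap (R ⊗[K] (K ⊗[k] k')) B))) X.hom (tR k' hf))

include hb in
/-- A section over a member of the cover of `U` gives a ring map. -/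
lemma exists_hom_member (U : S.Opens) {V : Scheme.{u}} (g : V ⟶ (U : Scheme.{u}))
    (hsec : NonAbH1.HasSectionOver X
        (pullback.snd g (pullback.fst s (Spec.map (CommRingCat.ofHom (algebraMap k k'))) ∣_ U) ≫
          (pullback.fst s (Spec.map (CommRingCat.ofHom (algebraMap k k'))) ⁻¹ᵁ U).ι))
    {R₁ : Type u} [CommRing R₁] [Algebra K R₁] (p : R →ₐ[K] R₁) (v : Spec (CommRingCat.of R₁) ⟶ V)
    (hv : v ≫ g ≫ U.ι = Spec.map (CommRingCat.ofHom p.toRingHom) ≫ f) :
    ∃ x : B →+* R₁ ⊗[K] (K ⊗[k] k'), ∀ d, x (algebraMap _ B d) = tm p d := by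
  obtain ⟨σ, hσ⟩ := hsec
  let π := pullback.fst s (Spec.map (CommRingCat.ofHom (algebraMap k k')))
  have hU := (isPullback_morphismRestrict π U).flip
  have h1 : tR k' (isChart_comp p hf) ≫ π = (Spec.map (CommRingCat.ofHom (iR k k' K R₁)) ≫ v ≫ g) ≫ U.ι := by
    rw [tR_fst, ← hv]
    simp only [Category.assoc]
  let l : Spec (CommRingCat.of (R₁ ⊗[K] (K ⊗[k] k'))) ⟶ π ⁻¹ᵁ U := hU.lift _ _ h1
  let m : Spec (CommRingCat.of (R₁ ⊗[K] (K ⊗[k] k'))) ⟶ pullback g (π ∣_ U) :=
    pullback.lift (Spec.map (CommRingCat.ofHom (iR k k' K R₁)) ≫ v) l (by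
      rw [Category.assoc]
      exact (hU.lift_snd _ _ h1).symm)
  refine exists_hom_of_section hf p hb (m ≫ σ) ?_
  rw [Category.assoc, hσ, ← Category.assoc, pullback.lift_snd]
  exact hU.lift_fst _ _ h1

end K551.OrbSch
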