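import Groth.Agent.NonAbH1.K551.OrbSec

/-!
# The chart theorem
-/

set_option autoImplicit false
set_option linter.unusedSectionVars false
universe u

open CategoryTheory CategoryTheory.Limits AlgebraicGeometry
open scoped TensorProduct

namespace K551.OrbSch

open K551.OrbBase K551.OrbAT Groth.Agent.Books.AffBridge

variable {k k' K : Type u} [Field k] [Field k'] [Field K] [Algebra k k'] [Algebra k K]
  {S : Scheme.{u}} {s : S ⟶ Spec (CommRingCat.of k)}
  {R : Type u} [CommRing R] [Algebra K R] {f : Spec (CommRingCat.of R) ⟶ S}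
  (hf : IsChart (k := k) (K := K) s f)
  {X : Over (pullback s (Spec.map (CommRingCat.ofHom (algebraMap k k'))))}
  {B : Type u} [CommRing B] [Algebra (R ⊗[K] (K ⊗[k] k')) B] {b : Spec (CommRingCat.of B) ⟶ X.left}
  (hb : IsPullback b (Spec.map (CommRingCat.ofHom (algebraMap (R ⊗[K] (K ⊗[k] k')) B))) X.hom (tR k' hf))

lemma finite_of_iso {G : Over (Spec (CommRingCat.of k'))} [IsFinite G.hom] {O : Type u} [CommRing O] [Algebra k' O]
    (e : G ≅ SpecOver k' O) : Module.Finite k' O := by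
  have h1 : IsFinite (SpecOver k' O).hom := by
    have h2 : e.inv.left ≫ G.hom = (SpecOver k' O).hom := Over.w e.inv
    rw [← h2]
    infer_instance
  have h2 : IsFinite (Spec.map (CommRingCat.ofHom (algebraMap k' O))) := h1
  rw [IsFinite.SpecMap_iff] at h2
  exact RingHom.finite_algebraMap.1 h2

include hb in
/-- Over a chart over which the torsor is free, it acquires a section after a faithfully flat extension. -/
theorem chart_section [Infinite K] [Module.Finite K (K ⊗[k] k')] (π₀ : K ⊗[k] k' →ₐ[K] K)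
    (hπ : IsNilpotent (RingHom.ker π₀))
    (G : Over (Spec (CommRingCat.of k'))) [GrpObj G] [IsFinite G.hom]
    (a : AlgGrp.Action (Red.bc (pullback.snd s (Spec.map (CommRingCat.ofHom (algebraMap k k')))) G) X)
    (ha : NonAbH1.IsPseudoTorsorSch a) [Flat f] [LocallyOfFinitePresentation f]
    [Module.Free (R ⊗[K] (K ⊗[k] k')) B] [Module.Finite (R ⊗[K] (K ⊗[k] k')) B] [Nontrivial B]
    (U : S.Opens) (hUd : CInt.IsSchematicallyDense U)
    {I : Type u} {V : I → Scheme.{u}} (g : ∀ i, V i ⟶ (U : Scheme.{u}))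
    (hg : ∀ i, Flat (g i)) (hcov : ∀ u : (U : Scheme.{u}), ∃ i, u ∈ Set.range (g i))
    (hsec : ∀ i, NonAbH1.HasSectionOver X
        (pullback.snd (g i) (pullback.fst s (Spec.map (CommRingCat.ofHom (algebraMap k k'))) ∣_ U) ≫
          (pullback.fst s (Spec.map (CommRingCat.ofHom (algebraMap k k'))) ⁻¹ᵁ U).ι)) :
    ∃ (R₁ : Type u) (_ : CommRing R₁) (_ : Algebra K R₁) (p : R →ₐ[K] R₁),
      p.toRingHom.FaithfullyFlat ∧ p.toRingHom.FinitePresentation ∧
      NonAbH1.HasSectionOver X (pullback.snd (Spec.map (CommRingCat.ofHom p.toRingHom) ≫ f)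
        (pullback.fst s (Spec.map (CommRingCat.ofHom (algebraMap k k'))))) := by
  have : IsAffine G.left := isAffine_of_isAffineHom G.hom
  obtain ⟨O, _, _, e, -⟩ := exists_hopf k' G
  have : Module.Finite k' O := finite_of_iso e
  let D := R ⊗[K] (K ⊗[k] k')
  let _ : Algebra k' (R ⊗[K] (K ⊗[k] k')) := (jR k k' K R).toAlgebra
  let _ : Algebra k' B := ((algebraMap (R ⊗[K] (K ⊗[k] k')) B).comp (jR k k' K R)).toAlgebra
  have : IsScalarTower k' (R ⊗[K] (K ⊗[k] k')) B := IsScalarTower.of_algebraMap_eq' rfl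
  have : Nontrivial (R ⊗[K] (K ⊗[k] k')) := (algebraMap (R ⊗[K] (K ⊗[k] k')) B).domain_nontrivial
  let v₀ := Module.finBasis k' O
  let w := Module.finBasis (R ⊗[K] (K ⊗[k] k')) B
  have : Nonempty (Fin (Module.finrank (R ⊗[K] (K ⊗[k] k')) B)) := w.index_nonempty
  let T := atX e (pullback.snd s (Spec.map (CommRingCat.ofHom (algebraMap k k')))) (tR k' hf) (tR_snd hf) hb ha
  have hT : Compat (pg e).toGS T := compat_atX _ _ _ _ _ _
  have hcard := card_eq T v₀ w
  rw [Fintype.card_fin, Fintype.card_fin] at hcard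
  let v := v₀.reindex (finCongr hcard)
  let Ri : Idx f U V g → Type u := fun j => Cv f U V g j
  let _ : ∀ j, Algebra K (Ri j) := fun j => ((cvMap f U V g j).hom.comp (algebraMap K R)).toAlgebra
  let ψ : ∀ j, R →ₐ[K] Ri j := fun j => { (cvMap f U V g j).hom with commutes' := fun r => rfl }
  have hψ : ∀ r, (∀ j, ψ j r = 0) → r = 0 := fun r hr => eq_zero_of_cvMap f U V g hUd hg hcov r hr
  have hx : ∀ j, ∃ x : B →+* Ri j ⊗[K] (K ⊗[k] k'), ∀ d, x (algebraMap (R ⊗[K] (K ⊗[k] k')) B d) = tm (ψ j) d := by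
    intro j
    refine exists_hom_member hf hb U (g j.1) (hsec j.1) (ψ j) (j.2.2.fromSpec ≫ pullback.snd f (g j.1 ≫ U.ι)) ?_
    have h1 : Spec.map (CommRingCat.ofHom (ψ j).toRingHom) = Spec.map (cvMap f U V g j) := rfl
    rw [h1, specMap_cvMap, Category.assoc, Category.assoc, pullback.condition]
  obtain ⟨R₁, _, _, p, hp1, hp2, x, hx⟩ := exists_section (jL k k' K) (fun c => rfl) π₀ hπ v w T (pg e).toGS hT
    (Idx f U V g) Ri ψ hψ hx
  exact ⟨R₁, inferInstance, inferInstance, p, hp1, hp2, hasSection_of_hom hf p hb x hx⟩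

end K551.OrbSch
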