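import Groth.Agent.NonAbH1.K551.OrbFun
import Mathlib.RingTheory.FiniteType
import Mathlib.RingTheory.Localization.Away.AdjoinRoot

/-!
# Packaging the universal invertible matrix
-/

set_option autoImplicit false
set_option linter.unusedSectionVars false
universe u v

open TensorProduct Matrix Kronecker

namespace K551.OrbUniv

open OrbBase

variable {K : Type u} [Field K] {Λ : Type u} [CommRing Λ] [Algebra K Λ]
  {ι : Type} [Fintype ι] [DecidableEq ι]

section Gen

/-- `K ⊗ Λ ≅ Λ` on invertible matrices -/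
noncomputable def gl (K : Type u) [Field K] [Algebra K Λ] : GL ι (K ⊗[K] Λ) →* GL ι Λ :=
  GeneralLinearGroup.map (Algebra.TensorProduct.lid K Λ).toRingEquiv.toRingHom

lemma gr_gl (R : Type u) [CommRing R] [Algebra K R] (g : GL ι (K ⊗[K] Λ)) :
    gr K R (gl K g) = gm (Algebra.ofId K R) g := by
  ext a b
  change (1 : R) ⊗ₜ[K] (Algebra.TensorProduct.lid K Λ (g a b)) = tm (Algebra.ofId K R) (g a b)
  induction (g a b) with
  | zero => simp
  | add x y hx hy => rw [map_add, map_add, tmul_add, hx, hy]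
  | tmul r y =>
    rw [Algebra.TensorProduct.lid_tmul, tm_tmul, tmul_smul, smul_tmul']
    congr 1
    exact (Algebra.algebraMap_eq_smul_one r).symm

end Gen

/-- The universal invertible matrix over `R ⊗ Λ`. -/
structure UGL {K : Type u} [Field K] {Λ : Type u} [CommRing Λ] [Algebra K Λ] (π : Λ →ₐ[K] K)
    (ι : Type) [Fintype ι] [DecidableEq ι] (P : Type u) [CommRing P] [Algebra K P] where
  /-- functions on `GL` -/
  cc : Q K ι →ₐ[K] P
  cc_inj : Function.Injective cc
  /-- the universal matrix -/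
  uu : GL ι (P ⊗[K] Λ)
  ga_uu : ga π P uu = GeneralLinearGroup.map cc.toRingHom (g0 K ι)
  /-- points -/
  pnt : ∀ {R : Type u} [CommRing R] [Algebra K R] (_ : GL ι (R ⊗[K] Λ)), P →ₐ[K] R
  gm_pnt : ∀ {R : Type u} [CommRing R] [Algebra K R] (h : GL ι (R ⊗[K] Λ)), gm (pnt h) uu = h
  uniq : ∀ {R : Type u} [CommRing R] [Algebra K R] {p q : P →ₐ[K] R}, gm p uu = gm q uu → p = q
  exists_inv : ∀ W : AddSubgroup P, (∃ f ∈ W, f ≠ 0) → (∀ γ : GL ι Λ, ∀ f ∈ W, pnt (gr K P γ * uu) f ∈ W) →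
    ∃ q : Q K ι, q ≠ 0 ∧ cc q ∈ W

section Inst

variable {π : Λ →ₐ[K] K} {J : Type} [Fintype J] (A : Adapt π J) (hπ : IsNilpotent (RingHom.ker π))

lemma trc_eq (c : J × ι × ι → K) (γ : GL ι Λ) (hγ : γ = gl K (gum A hπ c)) :
    trc ι A hπ c = pnt A (gr K (P K ι J) γ * uu ι A hπ) := by
  rw [hγ, gr_gl, gm_gum]
  rfl

/-- the concrete universal matrix -/
noncomputable def ugl [Infinite K] : UGL π ι (P K ι J) where
  cc := cc K ι J
  cc_inj := MvPolynomial.C_injective _ _
  uu := uu ι A hπ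
  ga_uu := ga_uu A hπ
  pnt := fun h => pnt A h
  gm_pnt := fun h => gm_pnt A hπ h
  uniq := fun h => pnt_unique A hπ h
  exists_inv := by
    intro W hW hφ
    obtain ⟨f, hf, hf0, hf1⟩ := exists_trc_invariant A hπ W hW (fun c f hf => by
      rw [trc_eq A hπ c _ rfl]
      exact hφ _ f hf)
    obtain ⟨q, rfl⟩ := exists_cc_eq A hπ f hf1
    refine ⟨q, ?_, hf⟩
    rintro rfl
    exact hf0 (map_zero _)

end Inst

/-- Existence of the universal invertible matrix. -/
theorem exists_ugl [Infinite K] [Module.Finite K Λ] (π : Λ →ₐ[K] K) (hπ : IsNilpotent (RingHom.ker π)) :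
    ∃ (P : Type u) (_ : CommRing P) (_ : Algebra K P) (_ : IsDomain P) (_ : Algebra.FiniteType K P),
      Nonempty (UGL π ι P) := by
  obtain ⟨J, hJ, ⟨A⟩⟩ := exists_adapt π hπ
  refine ⟨P K ι J, inferInstance, inferInstance, inferInstance, ?_, ⟨ugl A hπ⟩⟩
  have h1 : Algebra.FiniteType K (Q K ι) := inferInstance
  exact Algebra.FiniteType.trans (S := Q K ι) h1 inferInstance

end K551.OrbUniv
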