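import Groth.Agent.NonAbH1.K551.OrbInt
import Groth.Agent.NonAbH1.K551.OrbDens

/-!
# The ring of orbit functions has no stable ideals
-/

set_option autoImplicit false
set_option linter.unusedSectionVars false
universe u v

open TensorProduct Matrix Kronecker

namespace K551.OrbUniv

open OrbBase

variable {K : Type u} [Field K] {ι : Type} [Fintype ι] [DecidableEq ι]

lemma det_mem_subalgebra {B D : Type u} [CommRing B] [CommRing D] [Algebra B D] (S : Subalgebra B D)
    (M : Matrix ι ι D) (h : ∀ i j, M i j ∈ S) : det M ∈ S := by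
  rw [det_apply]
  refine sum_mem fun σ _ => ?_
  refine zsmul_mem ?_ _
  exact prod_mem fun i _ => h _ _

lemma isIntegral_q (B : Subalgebra K (Q K ι)) (h : ∀ a b, IsIntegral B (g0 K ι a b))
    (h' : ∀ a b, IsIntegral B ((g0 K ι)⁻¹ a b)) (q : Q K ι) : IsIntegral B q := by
  let S := integralClosure B (Q K ι)
  have hf : ∀ f : MvPolynomial (ι × ι) K, algebraMap _ (Q K ι) f ∈ S := by
    intro f
    induction f using MvPolynomial.induction_on with
    | C a =>
      have h1 : algebraMap (MvPolynomial (ι × ι) K) (Q K ι) (MvPolynomial.C a) = algebraMap K (Q K ι) a :=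
        (IsScalarTower.algebraMap_apply K (MvPolynomial (ι × ι) K) (Q K ι) a).symm
      rw [h1]
      exact isIntegral_algebraMap (R := B) (x := ⟨_, B.algebraMap_mem a⟩)
    | add p q hp hq => rw [map_add]; exact S.add_mem hp hq
    | mul_X p i hp => rw [map_mul]; exact S.mul_mem hp (h i.1 i.2)
  obtain ⟨⟨f, ⟨_, n, rfl⟩⟩, hq⟩ := IsLocalization.surj (Submonoid.powers (det (mvPolynomialX ι ι K))) q
  simp only at hq
  have hdet : algebraMap (MvPolynomial (ι × ι) K) (Q K ι) (det (mvPolynomialX ι ι K)) = det (g0 K ι : Matrix ι ι (Q K ι)) :=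
    RingHom.map_det _ _
  have h2 : det (g0 K ι : Matrix ι ι (Q K ι)) * det (((g0 K ι)⁻¹ : GL ι (Q K ι)) : Matrix ι ι (Q K ι)) = 1 := by
    rw [← det_mul, ← Units.val_mul, mul_inv_cancel, Units.val_one, det_one]
  have h3 : det (((g0 K ι)⁻¹ : GL ι (Q K ι)) : Matrix ι ι (Q K ι)) ∈ S := det_mem_subalgebra S _ fun i j => h' i j
  have h4 : q = algebraMap _ (Q K ι) f * (det (((g0 K ι)⁻¹ : GL ι (Q K ι)) : Matrix ι ι (Q K ι))) ^ n := by
    rw [← hq, map_pow, hdet, mul_assoc, ← mul_pow, h2, one_pow, mul_one]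
  rw [h4]
  exact S.mul_mem (hf f) (S.pow_mem h3 n)

variable {Λ : Type u} [CommRing Λ] [Algebra K Λ] {π : Λ →ₐ[K] K}
  {P : Type u} [CommRing P] [Algebra K P] (U : UGL π ι P) (β θ : Matrix (ι × ι) (ι × ι) Λ)

/-- functions on `GL` which are orbit functions -/
noncomputable def BQ : Subalgebra K (Q K ι) := (OA U β θ).comap U.cc

variable (π) in
/-- residual matrix -/
noncomputable def rb (D : Type u) [CommRing D] [Algebra K D] (M : Matrix (ι × ι) (ι × ι) Λ) :
    Matrix (ι × ι) (ι × ι) D := M.map ((algebraMap K D).comp π.toRingHom)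

lemma kr_aug (D : Type u) [CommRing D] [Algebra K D] (M : Matrix (ι × ι) (ι × ι) Λ) :
    (M.map (kr K D)).map (aug π D) = rb π D M := by
  ext i j
  change aug π D ((1 : D) ⊗ₜ[K] M i j) = algebraMap K D (π (M i j))
  rw [aug_tmul, Algebra.algebraMap_eq_smul_one]

lemma rb_map {D D' : Type u} [CommRing D] [Algebra K D] [CommRing D'] [Algebra K D'] (f : D →ₐ[K] D')
    (M : Matrix (ι × ι) (ι × ι) Λ) : (rb π D M).map f = rb π D' M := by
  ext i j
  change f (algebraMap K D (π (M i j))) = algebraMap K D' (π (M i j))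
  rw [AlgHom.commutes]

lemma ub_aug : (ub U β).map (aug π P) = (bet (rb π (Q K ι) β) (g0 K ι)).map U.cc := by
  have h1 : (ub U β).map (aug π P) = bet ((β.map (kr K P)).map (aug π P)) (ga π P U.uu) :=
    bet_map (aug π P).toRingHom _ _
  have h2 : (bet (rb π (Q K ι) β) (g0 K ι)).map U.cc = bet ((rb π (Q K ι) β).map U.cc)
    (GeneralLinearGroup.map U.cc.toRingHom (g0 K ι)) := bet_map U.cc.toRingHom _ _
  rw [h1, h2, kr_aug, rb_map, U.ga_uu]

lemma ut_aug : (ut U θ).map (aug π P) = (tht (rb π (Q K ι) θ) (g0 K ι)).map U.cc := by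
  have h1 : (ut U θ).map (aug π P) = tht ((θ.map (kr K P)).map (aug π P)) (ga π P U.uu) :=
    tht_map (aug π P).toRingHom _ _
  have h2 : (tht (rb π (Q K ι) θ) (g0 K ι)).map U.cc = tht ((rb π (Q K ι) θ).map U.cc)
    (GeneralLinearGroup.map U.cc.toRingHom (g0 K ι)) := tht_map U.cc.toRingHom _ _
  rw [h1, h2, kr_aug, rb_map, U.ga_uu]

lemma bet_mem_BQ (i j : ι × ι) : bet (rb π (Q K ι) β) (g0 K ι) i j ∈ BQ U β θ := by
  have h1 := congrFun (congrFun (ub_aug U β) i) j
  have h2 : aug π P (ub U β i j) = U.cc (bet (rb π (Q K ι) β) (g0 K ι) i j) := h1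
  change U.cc _ ∈ OA U β θ
  rw [← h2, ← cf_aug]
  exact ub_mem U β θ _ _ _

lemma tht_mem_BQ (i j : ι × ι) : tht (rb π (Q K ι) θ) (g0 K ι) i j ∈ BQ U β θ := by
  have h1 := congrFun (congrFun (ut_aug U θ) i) j
  have h2 : aug π P (ut U θ i j) = U.cc (tht (rb π (Q K ι) θ) (g0 K ι) i j) := h1
  change U.cc _ ∈ OA U β θ
  rw [← h2, ← cf_aug]
  exact ut_mem U β θ _ _ _

end K551.OrbUniv
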