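import Groth.Agent.NonAbH1.K551.OrbBase2
import Mathlib.LinearAlgebra.Matrix.MvPolynomial
import Mathlib.RingTheory.Localization.Away.Basic
import Mathlib.Algebra.MvPolynomial.Eval

/-!
# The universal invertible matrix over `R ⊗ Λ`
-/

set_option autoImplicit false
universe u v

open TensorProduct Matrix

namespace K551.OrbUniv

open OrbBase

variable {K : Type u} [Field K] {Λ : Type u} [CommRing Λ] [Algebra K Λ] (π : Λ →ₐ[K] K)
  {ι : Type} [Fintype ι] [DecidableEq ι]

section Fun

variable {R R' R'' : Type u} [CommRing R] [Algebra K R] [CommRing R'] [Algebra K R'] [CommRing R''] [Algebra K R'']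

/-- functoriality -/
noncomputable def gm (p : R →ₐ[K] R') : GL ι (R ⊗[K] Λ) →* GL ι (R' ⊗[K] Λ) :=
  GeneralLinearGroup.map (tm p).toRingHom

variable (R) in
/-- augmentation -/
noncomputable def ga : GL ι (R ⊗[K] Λ) →* GL ι R := GeneralLinearGroup.map (aug π R).toRingHom

variable (K Λ R) in
/-- inclusion -/
noncomputable def gi : GL ι R →* GL ι (R ⊗[K] Λ) :=
  GeneralLinearGroup.map (Algebra.TensorProduct.includeLeft (R := K) (S := K) (A := R) (B := Λ)).toRingHom

variable (K R) in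
/-- constants -/
noncomputable def gr : GL ι Λ →* GL ι (R ⊗[K] Λ) :=
  GeneralLinearGroup.map (Algebra.TensorProduct.includeRight (R := K) (A := R) (B := Λ)).toRingHom

lemma gm_apply (p : R →ₐ[K] R') (g : GL ι (R ⊗[K] Λ)) (a b : ι) : gm p g a b = tm p (g a b) := rfl
lemma ga_apply (g : GL ι (R ⊗[K] Λ)) (a b : ι) : ga π R g a b = aug π R (g a b) := rfl
lemma gi_apply (g : GL ι R) (a b : ι) : gi K Λ R g a b = (g a b) ⊗ₜ[K] (1 : Λ) := rfl
lemma gr_apply (g : GL ι Λ) (a b : ι) : gr K R g a b = (1 : R) ⊗ₜ[K] (g a b) := rfl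

lemma gm_comp (p : R →ₐ[K] R') (q : R' →ₐ[K] R'') (g : GL ι (R ⊗[K] Λ)) : gm (q.comp p) g = gm q (gm p g) := by
  ext a b
  exact tm_comp p q _

lemma gm_id (g : GL ι (R ⊗[K] Λ)) : gm (AlgHom.id K R) g = g := by
  ext a b
  exact tm_id _

lemma ga_gm (p : R →ₐ[K] R') (g : GL ι (R ⊗[K] Λ)) : ga π R' (gm p g) = GeneralLinearGroup.map p.toRingHom (ga π R g) := by
  ext a b
  exact aug_tm π p _

lemma ga_gi (g : GL ι R) : ga π R (gi K Λ R g) = g := by
  ext a b
  exact aug_incl π _

lemma gm_gi (p : R →ₐ[K] R') (g : GL ι R) : gm p (gi K Λ R g) = gi K Λ R' (GeneralLinearGroup.map p.toRingHom g) := by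
  ext a b
  exact tm_tmul _ _ _

lemma gm_gr (p : R →ₐ[K] R') (g : GL ι Λ) : gm p (gr K R g) = gr K R' g := by
  ext a b
  change tm p ((1 : R) ⊗ₜ[K] (g a b)) = _
  rw [tm_tmul, map_one]
  rfl

/-- The matrix `1 + ∑ x_j e_j`. -/
noncomputable def um {J : Type} [Fintype J] (e : J → Λ) (x : J × ι × ι → R) : Matrix ι ι (R ⊗[K] Λ) :=
  fun a b => (1 : Matrix ι ι (R ⊗[K] Λ)) a b + ∑ j, x (j, a, b) ⊗ₜ[K] e j

omit [Fintype ι] in
lemma um_map {J : Type} [Fintype J] (e : J → Λ) (x : J × ι × ι → R) (p : R →ₐ[K] R') :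
    (um e x).map (tm p) = um e (fun i => p (x i)) := by
  ext a b
  simp only [um, Matrix.map_apply, map_add, map_sum, tm_tmul]
  congr 1
  by_cases h : a = b
  · subst h; simp
  · simp [h]

omit [Fintype ι] in
lemma um_aug {J : Type} [Fintype J] (e : J → Λ) (he : ∀ j, π (e j) = 0) (x : J × ι × ι → R) :
    (um e x).map (aug π R) = 1 := by
  ext a b
  simp only [um, Matrix.map_apply, map_add, map_sum, aug_tmul, he, zero_smul, Finset.sum_const_zero, add_zero]
  by_cases h : a = b
  · subst h; simp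
  · simp [h]

lemma isUnit_um (hπ : IsNilpotent (RingHom.ker π)) {J : Type} [Fintype J] (e : J → Λ) (he : ∀ j, π (e j) = 0)
    (x : J × ι × ι → R) : IsUnit (um (K := K) e x) := by
  rw [Matrix.isUnit_iff_isUnit_det]
  apply isUnit_of_aug π hπ
  have h1 := RingHom.map_det (aug π R).toRingHom (um e x)
  have h2 : (aug π R).toRingHom.mapMatrix (um e x) = 1 := um_aug π e he x
  rw [h2, det_one] at h1
  have h3 : aug π R (det (um e x)) = 1 := h1
  rw [h3]
  exact isUnit_one

end Fun

section Q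

variable (K ι)

/-- coordinate ring of `GL ι`. -/
noncomputable abbrev Q : Type u := Localization.Away (det (mvPolynomialX ι ι K))

/-- the universal matrix -/
noncomputable def g0 : GL ι (Q K ι) :=
  GeneralLinearGroup.mk'' ((mvPolynomialX ι ι K).map (algebraMap _ (Q K ι))) (by
    have h1 := RingHom.map_det (algebraMap (MvPolynomial (ι × ι) K) (Q K ι)) (mvPolynomialX ι ι K)
    have h2 : det ((mvPolynomialX ι ι K).map (algebraMap _ (Q K ι))) =
      algebraMap (MvPolynomial (ι × ι) K) (Q K ι) (det (mvPolynomialX ι ι K)) := h1.symm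
    rw [h2]
    exact IsLocalization.Away.algebraMap_isUnit _)

variable {K ι}

lemma g0_apply (a b : ι) : g0 K ι a b = algebraMap (MvPolynomial (ι × ι) K) (Q K ι) (MvPolynomial.X (a, b)) := rfl

variable {R : Type u} [CommRing R] [Algebra K R]

/-- points of `GL`. -/
noncomputable def qpt (g : GL ι R) : Q K ι →ₐ[K] R :=
  IsLocalization.liftAlgHom (M := Submonoid.powers (det (mvPolynomialX ι ι K)))
    (f := MvPolynomial.aeval (fun i => g i.1 i.2)) (by
      rintro ⟨_, n, rfl⟩
      simp only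
      rw [map_pow]
      apply IsUnit.pow
      have h1 := RingHom.map_det (MvPolynomial.aeval (R := K) (fun i : ι × ι => (g i.1 i.2 : R))).toRingHom
        (mvPolynomialX ι ι K)
      have h2 : (MvPolynomial.aeval (R := K) (fun i : ι × ι => (g i.1 i.2 : R))).toRingHom.mapMatrix
        (mvPolynomialX ι ι K) = (g : Matrix ι ι R) := by
        ext a b
        simp [mvPolynomialX]
      rw [h2] at h1
      have h3 : (MvPolynomial.aeval (R := K) (fun i : ι × ι => (g i.1 i.2 : R))) (det (mvPolynomialX ι ι K)) =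
        det (g : Matrix ι ι R) := h1
      rw [h3]
      exact (Matrix.isUnit_iff_isUnit_det _).1 g.isUnit)

lemma qpt_algebraMap (g : GL ι R) (f : MvPolynomial (ι × ι) K) :
    qpt g (algebraMap _ (Q K ι) f) = MvPolynomial.aeval (fun i => g i.1 i.2) f := by
  rw [qpt, IsLocalization.liftAlgHom_apply, IsLocalization.lift_eq]
  rfl

lemma qpt_g0 (g : GL ι R) (a b : ι) : qpt g (g0 K ι a b) = g a b := by
  rw [g0_apply, qpt_algebraMap, MvPolynomial.aeval_X]

lemma map_qpt (g : GL ι R) : GeneralLinearGroup.map (qpt g : Q K ι →ₐ[K] R).toRingHom (g0 K ι) = g := by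
  ext a b
  exact qpt_g0 g a b

lemma q_ext {p q : Q K ι →ₐ[K] R} (h : ∀ a b, p (g0 K ι a b) = q (g0 K ι a b)) : p = q := by
  apply IsLocalization.algHom_ext (Submonoid.powers (det (mvPolynomialX ι ι K)))
  apply MvPolynomial.algHom_ext
  rintro ⟨a, b⟩
  exact h a b

lemma q_ext' {p q : Q K ι →ₐ[K] R}
    (h : GeneralLinearGroup.map p.toRingHom (g0 K ι) = GeneralLinearGroup.map q.toRingHom (g0 K ι)) : p = q := by
  apply q_ext
  intro a b
  exact congrArg (fun g : GL ι R => g a b) h

end Q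

end K551.OrbUniv
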