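import Groth.Agent.NonAbH1.K551.OrbUniv

/-!
# The universal invertible matrix over `R ⊗ Λ`: the coordinate ring
-/

set_option autoImplicit false
set_option linter.unusedSectionVars false
universe u v

open TensorProduct Matrix

namespace K551.OrbUniv

open OrbBase

variable {K : Type u} [Field K] {Λ : Type u} [CommRing Λ] [Algebra K Λ] {π : Λ →ₐ[K] K}
  {ι : Type} [Fintype ι] [DecidableEq ι] {J : Type} [Fintype J]

variable (K ι J) in
/-- The coordinate ring of `GL(R ⊗ Λ)`. -/
noncomputable abbrev P : Type u := MvPolynomial (J × ι × ι) (Q K ι)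

section

variable {R : Type u} [CommRing R] [Algebra K R]

/-- points -/
noncomputable def ppt (q : Q K ι →ₐ[K] R) (x : J × ι × ι → R) : P K ι J →ₐ[K] R where
  __ := MvPolynomial.eval₂Hom q.toRingHom x
  commutes' r := by
    change MvPolynomial.eval₂Hom q.toRingHom x (algebraMap K (P K ι J) r) = _
    rw [IsScalarTower.algebraMap_apply K (Q K ι) (P K ι J), MvPolynomial.algebraMap_eq]
    exact (MvPolynomial.eval₂Hom_C _ _ _).trans (q.commutes r)

lemma ppt_C (q : Q K ι →ₐ[K] R) (x : J × ι × ι → R) (a : Q K ι) : ppt q x (MvPolynomial.C a) = q a :=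
  MvPolynomial.eval₂Hom_C _ _ _

lemma ppt_X (q : Q K ι →ₐ[K] R) (x : J × ι × ι → R) (i : J × ι × ι) : ppt q x (MvPolynomial.X i) = x i :=
  MvPolynomial.eval₂Hom_X' _ _ _

lemma p_ext {p q : P K ι J →ₐ[K] R} (h1 : ∀ a, p (MvPolynomial.C a) = q (MvPolynomial.C a))
    (h2 : ∀ i, p (MvPolynomial.X i) = q (MvPolynomial.X i)) : p = q := by
  have : p.toRingHom = q.toRingHom := MvPolynomial.ringHom_ext h1 h2
  exact AlgHom.ext fun x => RingHom.congr_fun this x

variable (K ι J) in
/-- constants -/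
noncomputable def cc : Q K ι →ₐ[K] P K ι J := IsScalarTower.toAlgHom K (Q K ι) (P K ι J)

lemma cc_apply (a : Q K ι) : cc K ι J a = MvPolynomial.C a := rfl

end

variable (A : Adapt π J)

lemma coord_none : A.b.coord none = π.toLinearMap := by
  apply A.b.ext
  rintro (_ | j)
  · rw [Module.Basis.coord_apply, Module.Basis.repr_self, Finsupp.single_eq_same]
    change _ = π (A.b none)
    rw [A.b_none, map_one]
  · rw [Module.Basis.coord_apply, Module.Basis.repr_self, Finsupp.single_eq_of_ne (by simp)]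
    exact (A.π_some j).symm

section

variable {R : Type u} [CommRing R] [Algebra K R]

omit [Fintype ι] in
lemma cf_um [Fintype ι] (x : J × ι × ι → R) (j : J) (a b : ι) :
    cf (A.b.coord (some j)) R (um (fun j => A.b (some j)) x a b) = x (j, a, b) := by
  have h0 : cf (A.b.coord (some j)) R ((1 : Matrix ι ι (R ⊗[K] Λ)) a b) = 0 := by
    by_cases h : a = b
    · subst h
      rw [Matrix.one_apply_eq, Algebra.TensorProduct.one_def, cf_tmul, ← A.b_none, Module.Basis.coord_apply,
        Module.Basis.repr_self, Finsupp.single_eq_of_ne (by simp), zero_smul]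
    · rw [Matrix.one_apply_ne h, map_zero]
  rw [um, map_add, h0, zero_add, map_sum, Finset.sum_eq_single j]
  · rw [cf_tmul, Module.Basis.coord_apply, Module.Basis.repr_self, Finsupp.single_eq_same, one_smul]
  · intro i _ hi
    rw [cf_tmul, Module.Basis.coord_apply, Module.Basis.repr_self,
      Finsupp.single_eq_of_ne (by simpa using hi.symm), zero_smul]
  · intro h
    exact absurd (Finset.mem_univ _) h

lemma um_injective {x y : J × ι × ι → R}
    (h : um (K := K) (fun j => A.b (some j)) x = um (fun j => A.b (some j)) y) : x = y := by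
  ext ⟨j, a, b⟩
  rw [← cf_um A x j a b, h, cf_um]

lemma eq_um (h : Matrix ι ι (R ⊗[K] Λ)) (h1 : h.map (aug π R) = 1) :
    h = um (fun j => A.b (some j)) (fun i => cf (A.b.coord (some i.1)) R (h i.2.1 i.2.2)) := by
  ext a b
  have h2 := sum_cf A.b (h a b)
  rw [Fintype.sum_option, coord_none, cf_aug, A.b_none] at h2
  have h3 : aug π R (h a b) = (1 : Matrix ι ι R) a b := congrFun (congrFun h1 a) b
  rw [h3] at h2
  refine h2.trans ?_
  rw [um]
  congr 1
  by_cases h : a = b
  · subst h; rw [Matrix.one_apply_eq, Matrix.one_apply_eq]; rfl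
  · rw [Matrix.one_apply_ne h, Matrix.one_apply_ne h, zero_tmul]

variable (hπ : IsNilpotent (RingHom.ker π))

/-- The unit `1 + ∑ x_j e_j`. -/
noncomputable def gum (x : J × ι × ι → R) : GL ι (R ⊗[K] Λ) :=
  (isUnit_um π hπ (fun j => A.b (some j)) A.π_some x).unit

lemma coe_gum (x : J × ι × ι → R) :
    (gum A hπ x : Matrix ι ι (R ⊗[K] Λ)) = um (fun j => A.b (some j)) x := rfl

lemma gm_gum {R' : Type u} [CommRing R'] [Algebra K R'] (p : R →ₐ[K] R') (x : J × ι × ι → R) :
    gm p (gum A hπ x) = gum A hπ (fun i => p (x i)) := by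
  apply Units.ext
  exact um_map _ _ _

lemma ga_gum (x : J × ι × ι → R) : ga π R (gum A hπ x) = 1 := by
  apply Units.ext
  exact um_aug π _ A.π_some _

lemma gum_injective {x y : J × ι × ι → R} (h : gum A hπ x = gum A hπ y) : x = y :=
  um_injective A (congrArg Units.val h)

lemma eq_gum (h : GL ι (R ⊗[K] Λ)) (h1 : ga π R h = 1) :
    h = gum A hπ (fun i => cf (A.b.coord (some i.1)) R (h i.2.1 i.2.2)) := by
  apply Units.ext
  exact eq_um A _ (congrArg Units.val h1)

variable (ι) in
/-- The universal matrix. -/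
noncomputable def uu : GL ι (P K ι J ⊗[K] Λ) :=
  gum A hπ (fun i => MvPolynomial.X i) *
    gi K Λ (P K ι J) (GeneralLinearGroup.map (cc K ι J).toRingHom (g0 K ι))

lemma gm_uu (p : P K ι J →ₐ[K] R) : gm p (uu ι A hπ) = gum A hπ (fun i => p (MvPolynomial.X i)) *
    gi K Λ R (GeneralLinearGroup.map (p.comp (cc K ι J)).toRingHom (g0 K ι)) := by
  rw [uu, map_mul, gm_gum, gm_gi]
  rfl

lemma ga_uu : ga π _ (uu ι A hπ) = GeneralLinearGroup.map (cc K ι J).toRingHom (g0 K ι) := by
  rw [uu, map_mul, ga_gum, one_mul, ga_gi]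

/-- The point attached to an invertible matrix. -/
noncomputable def pnt (h : GL ι (R ⊗[K] Λ)) : P K ι J →ₐ[K] R :=
  ppt (qpt (ga π R h)) (fun i => cf (A.b.coord (some i.1)) R ((h * (gi K Λ R (ga π R h))⁻¹) i.2.1 i.2.2))

lemma gm_pnt (h : GL ι (R ⊗[K] Λ)) : gm (pnt A h) (uu ι A hπ) = h := by
  rw [gm_uu]
  have h1 : (pnt A h).comp (cc K ι J) = qpt (ga π R h) := by
    refine AlgHom.ext fun a => ?_
    rw [AlgHom.comp_apply, cc_apply, pnt, ppt_C]
  have h2 : gum A hπ (fun i => pnt A h (MvPolynomial.X i)) = h * (gi K Λ R (ga π R h))⁻¹ := by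
    rw [eq_gum A hπ (h * (gi K Λ R (ga π R h))⁻¹) (by rw [map_mul, map_inv, ga_gi, mul_inv_cancel])]
    congr 1
    ext i
    rw [pnt, ppt_X]
  rw [h1, h2, map_qpt, inv_mul_cancel_right]

lemma pnt_unique {p q : P K ι J →ₐ[K] R} (h : gm p (uu ι A hπ) = gm q (uu ι A hπ)) : p = q := by
  have h1 : p.comp (cc K ι J) = q.comp (cc K ι J) := by
    apply q_ext'
    have h2 := congrArg (ga π R) h
    rw [ga_gm, ga_gm, ga_uu] at h2
    exact h2
  have h2 : (fun i => p (MvPolynomial.X i)) = fun i => q (MvPolynomial.X i) := by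
    rw [gm_uu, gm_uu, h1] at h
    exact gum_injective A hπ (mul_right_cancel h)
  exact p_ext (fun a => DFunLike.congr_fun h1 a) (fun i => congrFun h2 i)

lemma pnt_eq {p : P K ι J →ₐ[K] R} {h : GL ι (R ⊗[K] Λ)} (hp : gm p (uu ι A hπ) = h) : p = pnt A h :=
  pnt_unique A hπ (by rw [hp, gm_pnt])

include hπ in
lemma comp_pnt {R' : Type u} [CommRing R'] [Algebra K R'] (p : R →ₐ[K] R') (h : GL ι (R ⊗[K] Λ)) :
    p.comp (pnt A h) = pnt A (gm p h) := by
  apply pnt_eq A hπ
  rw [gm_comp, gm_pnt]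

end

end K551.OrbUniv
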